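import Cfsg.Agent.Lib.SLComm.Step

/-!
Choice of the vector and the functional of one peeling step: the residual map is neither scalar nor a
transvection, and the side conditions of the two factors can be met.
-/

set_option autoImplicit false
set_option linter.unusedSectionVars false

namespace CfsgLib.OreLevi

open Module Polynomial CfsgLib.SLComm

universe u

variable {F : Type u} [Field F]
variable {V : Type u} [AddCommGroup V] [Module F V]

/-- At most as many proper subspaces as scalars do not cover the space. -/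
theorem exists_notMem_list [Finite F] : ∀ (l : List (Submodule F V)), (∀ W ∈ l, W ≠ ⊤) →
    l.length ≤ Nat.card F → ∃ v, ∀ W ∈ l, v ∉ W := by
  intro l
  induction l with
  | nil => exact fun _ _ => ⟨0, by simp⟩
  | cons W l ih =>
    intro hW hlen
    rw [List.length_cons] at hlen
    obtain ⟨x, hx⟩ := ih (fun U hU => hW U (List.mem_cons_of_mem _ hU)) (by omega)
    by_cases hxW : x ∈ W
    swap
    · exact ⟨x, fun U hU => by rcases List.mem_cons.1 hU with rfl | h <;> [exact hxW; exact hx U h]⟩
    obtain ⟨y, hy⟩ : ∃ y, y ∉ W := by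
      by_contra hc
      push Not at hc
      exact hW W List.mem_cons_self ((Submodule.eq_top_iff').2 hc)
    by_contra hc
    push Not at hc
    have hb : ∀ t : F, ∃ i : Fin l.length, y + t • x ∈ l[i] := fun t => by
      obtain ⟨U, hU, hm⟩ := hc (y + t • x)
      rcases List.mem_cons.1 hU with rfl | h
      · exact absurd ((Submodule.add_mem_iff_left _ (Submodule.smul_mem _ t hxW)).1 hm) hy
      obtain ⟨i, hi, rfl⟩ := List.getElem_of_mem h
      exact ⟨⟨i, hi⟩, hm⟩
    choose g hg using hb
    have hinj : Function.Injective g := fun t t' e => by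
      by_contra hne
      have h1 := sub_mem (hg t) (e ▸ hg t')
      rw [add_sub_add_left_eq_sub, ← sub_smul] at h1
      exact hx _ (List.getElem_mem _) ((Submodule.smul_mem_iff _ (sub_ne_zero.2 hne)).1 h1)
    have := Nat.card_le_card_of_injective g hinj
    rw [Nat.card_fin] at this
    omega

/-- Fewer affine conditions than nonzero scalars can be met together. -/
theorem exists_functional_list [Finite F] {v w : V} : ∀ (l : List (V × F)),
    (∃ f : V →ₗ[F] F, f v = 1 ∧ f w = 1) →
    (∀ c ∈ l, ∃ f : V →ₗ[F] F, f v = 1 ∧ f w = 1 ∧ f c.1 + c.2 ≠ 0) →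
    l.length + 1 ≤ Nat.card F → ∃ f : V →ₗ[F] F, f v = 1 ∧ f w = 1 ∧ ∀ c ∈ l, f c.1 + c.2 ≠ 0 := by
  intro l
  induction l with
  | nil => exact fun ⟨f, h1, h2⟩ _ _ => ⟨f, h1, h2, by simp⟩
  | cons c l ih =>
    intro h0 hl hlen
    rw [List.length_cons] at hlen
    obtain ⟨f, hfv, hfw, hf⟩ := ih h0 (fun d hd => hl d (List.mem_cons_of_mem _ hd)) (by omega)
    by_cases hfc : f c.1 + c.2 = 0
    swap
    · exact ⟨f, hfv, hfw, fun d hd => by rcases List.mem_cons.1 hd with rfl | h <;> [exact hfc; exact hf d h]⟩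
    obtain ⟨g, hgv, hgw, hgc⟩ := hl c List.mem_cons_self
    by_contra hc
    push Not at hc
    have hb : ∀ t : {t : F // t ≠ 0}, ∃ i : Fin l.length, (f + (t : F) • (g - f)) l[i].1 + l[i].2 = 0 := fun t => by
      obtain ⟨d, hd, hm⟩ := hc (f + (t : F) • (g - f)) (by simp [hfv, hgv]) (by simp [hfw, hgw])
      rcases List.mem_cons.1 hd with rfl | h
      · refine absurd hm ?_
        simp only [LinearMap.add_apply, LinearMap.smul_apply, LinearMap.sub_apply, smul_eq_mul]
        rw [show f d.1 + (t : F) * (g d.1 - f d.1) + d.2 = (t : F) * (g d.1 + d.2) by linear_combination (1 - (t : F)) * hfc]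
        exact mul_ne_zero t.2 hgc
      obtain ⟨i, hi, rfl⟩ := List.getElem_of_mem h
      exact ⟨⟨i, hi⟩, hm⟩
    choose G hG using hb
    have hinj : Function.Injective G := fun t t' e => by
      by_contra hne
      have h1 := hG t
      have h2 := hG t'
      rw [← e] at h2
      simp only [LinearMap.add_apply, LinearMap.smul_apply, LinearMap.sub_apply, smul_eq_mul] at h1 h2
      have h3 : ((t : F) - t') * (g l[G t].1 - f l[G t].1) = 0 := by linear_combination h1 - h2
      rw [(mul_eq_zero.1 h3).resolve_left (sub_ne_zero.2 fun e' => hne (Subtype.ext e')), mul_zero, add_zero] at h1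
      exact hf _ (List.getElem_mem _) h1
    classical
    have := Fintype.ofFinite F
    have := Nat.card_le_card_of_injective G hinj
    rw [Nat.card_fin, Nat.card_eq_fintype_card, Fintype.card_subtype_compl, Fintype.card_subtype_eq] at this
    rw [Nat.card_eq_fintype_card] at hlen
    omega

variable [FiniteDimensional F V]

/-- The affine condition at `x` is proper unless it is forced on the span of `v` and `w`. -/
theorem exists_functional_ne {v w : V} (hvw : ∀ a b : F, a • v + b • w = 0 → a = 0 ∧ b = 0) (x : V) (r : F)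
    (hx : ∀ a b : F, x = a • v + b • w → a + b + r ≠ 0) :
    ∃ f : V →ₗ[F] F, f v = 1 ∧ f w = 1 ∧ f x + r ≠ 0 := by
  have aux : ∀ (p : Submodule F V) (z : V), z ∉ p → ∃ g : V →ₗ[F] F, g z = 1 ∧ ∀ y ∈ p, g y = 0 := fun p z hz => by
    obtain ⟨g, hg, hgp⟩ := Submodule.exists_dual_map_eq_bot_of_notMem hz inferInstance
    refine ⟨(g z)⁻¹ • g, by simp [inv_mul_cancel₀ hg], fun y hy => ?_⟩
    have : g y ∈ p.map g := Submodule.mem_map_of_mem hy
    rw [hgp, Submodule.mem_bot] at this
    simp [this]
  obtain ⟨g₁, hg₁, hg₁'⟩ := aux (F ∙ w) v fun hm => by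
    obtain ⟨a, ha⟩ := Submodule.mem_span_singleton.1 hm
    exact one_ne_zero (hvw 1 (-a) (by rw [neg_smul, ha, one_smul, add_neg_cancel])).1
  obtain ⟨g₂, hg₂, hg₂'⟩ := aux (F ∙ v) w fun hm => by
    obtain ⟨a, ha⟩ := Submodule.mem_span_singleton.1 hm
    exact one_ne_zero (hvw (-a) 1 (by rw [neg_smul, ha, one_smul, neg_add_cancel])).2
  have h12 := hg₁' w (Submodule.mem_span_singleton_self w)
  have h21 := hg₂' v (Submodule.mem_span_singleton_self v)
  set f := g₁ + g₂ with hf
  have hfv : f v = 1 := by rw [hf, LinearMap.add_apply, hg₁, h21, add_zero]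
  have hfw : f w = 1 := by rw [hf, LinearMap.add_apply, hg₂, h12, zero_add]
  by_cases hfx : f x + r = 0
  swap
  · exact ⟨f, hfv, hfw, hfx⟩
  obtain ⟨g, hg, hg'⟩ := aux (Submodule.span F {v, w}) x fun hm => by
    obtain ⟨a, b, rfl⟩ := Submodule.mem_span_pair.1 hm
    exact hx a b rfl (by simpa [hfv, hfw] using hfx)
  refine ⟨f + g, by rw [LinearMap.add_apply, hfv, hg' v (Submodule.subset_span (by simp)), add_zero],
    by rw [LinearMap.add_apply, hfw, hg' w (Submodule.subset_span (by simp)), add_zero], ?_⟩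
  rw [LinearMap.add_apply, hg, add_right_comm, hfx, zero_add]
  exact one_ne_zero

/-- In dimension three and determinant one, an invariant plane of product one carries the image of `S - 1`. -/
theorem range_le_plane {S : End F V} (hd : finrank F V = 3) (hdet : LinearMap.det S = 1) {v : V}
    (hvw : ∀ a b : F, a • v + b • S v = 0 → a = 0 ∧ b = 0) {p : F} (hSS : S (S v) = p • S v - v) :
    LinearMap.range (S - 1) ≤ Submodule.span F {v, S v} := by
  classical
  obtain ⟨e, he⟩ : ∃ e, e ∉ Submodule.span F {v, S v} := by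
    by_contra hc
    push Not at hc
    have h1 := finrank_span_finset_le_card (R := F) ({v, S v} : Finset V)
    rw [Set.finrank, Finset.coe_insert, Finset.coe_singleton, (Submodule.eq_top_iff').2 hc, finrank_top, hd] at h1
    have := h1.trans (Finset.card_le_two)
    omega
  have hli : LinearIndependent F ![v, S v, e] := by
    rw [Fintype.linearIndependent_iff]
    intro g hg
    simp only [Fin.sum_univ_three, Matrix.cons_val_zero, Matrix.cons_val_one, Matrix.cons_val] at hg
    have h2 : g 2 = 0 := by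
      by_contra h2
      refine he (Submodule.mem_span_pair.2 ⟨-(g 2)⁻¹ * g 0, -(g 2)⁻¹ * g 1, ?_⟩)
      rw [← inv_smul_smul₀ h2 e]
      linear_combination (norm := module) -(g 2)⁻¹ • hg
    rw [h2, zero_smul, add_zero] at hg
    obtain ⟨h0, h1⟩ := hvw _ _ hg
    intro i
    fin_cases i <;> assumption
  let bb := basisOfLinearIndependentOfCardEqFinrank hli (by simp [hd])
  have hb : ∀ i, bb i = ![v, S v, e] i := fun i => by
    simp [bb, coe_basisOfLinearIndependentOfCardEqFinrank]
  have hb0 : bb 0 = v := by rw [hb]; rfl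
  have hb1 : bb 1 = S v := by rw [hb]; rfl
  have hb2 : bb 2 = e := by rw [hb]; rfl
  have hσ : bb.repr (S e) 2 = 1 := by
    have e0 : bb.repr (S (bb 0)) = Finsupp.single 1 1 := by rw [hb0, ← hb1, Basis.repr_self]
    have e1 : bb.repr (S (bb 1)) = p • Finsupp.single 1 1 - Finsupp.single 0 1 := by
      rw [hb1, hSS, ← hb1, ← hb0, map_sub, map_smul, Basis.repr_self, Basis.repr_self]
    have h := hdet
    rw [← LinearMap.det_toMatrix bb, Matrix.det_fin_three] at h
    simp only [LinearMap.toMatrix_apply, e0, e1, hb2, Finsupp.coe_smul, Finsupp.coe_sub, Pi.smul_apply,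
      Pi.sub_apply, Finsupp.single_apply, Fin.reduceEq, ↓reduceIte, smul_eq_mul] at h
    linear_combination h
  have hle : ⊤ ≤ (Submodule.span F {v, S v}).comap (S - 1) := by
    rw [← bb.span_eq, Submodule.span_le]
    rintro _ ⟨i, rfl⟩
    show (S - 1) (bb i) ∈ Submodule.span F {v, S v}
    rw [LinearMap.sub_apply, Module.End.one_apply]
    fin_cases i
    · simp only [Fin.zero_eta, hb0]
      exact sub_mem (Submodule.subset_span (by simp)) (Submodule.subset_span (by simp))
    · simp only [Fin.mk_one, hb1, hSS]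
      exact sub_mem (sub_mem (Submodule.smul_mem _ _ (Submodule.subset_span (by simp)))
        (Submodule.subset_span (by simp))) (Submodule.subset_span (by simp))
    · simp only [Fin.reduceFinMk, hb2]
      have h1 := bb.sum_repr (S e)
      rw [Fin.sum_univ_three, hb0, hb1, hb2, hσ, one_smul] at h1
      refine Submodule.mem_span_pair.2 ⟨bb.repr (S e) 0, bb.repr (S e) 1, ?_⟩
      linear_combination (norm := module) h1
  rintro _ ⟨z, rfl⟩
  exact hle Submodule.mem_top

/-- Neither scalar nor a transvection. -/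
def Big (S : End F V) : Prop :=
  (∀ κ : F, S ≠ κ • (1 : End F V)) ∧ 2 ≤ finrank F (LinearMap.range (S - 1))

theorem exists_mem_notMem {K : Submodule F V} (hK : 2 ≤ finrank F K) (y : V) : ∃ x ∈ K, x ∉ F ∙ y := by
  by_contra hc
  push Not at hc
  have h1 := (Submodule.finrank_mono (show K ≤ F ∙ y from hc)).trans (finrank_span_le_card ({y} : Set V))
  simp at h1
  omega

/-- The choice for one peeling step. -/
theorem exists_step [Finite F] (hq : 4 ≤ Nat.card F) {S : End F V} (h3 : 3 ≤ finrank F V)
    (hdet : LinearMap.det S = 1) (hS : Big S) {b : V} (hb : b ≠ 0) {c : V →ₗ[F] F} (hc : c ≠ 0) :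
    ∃ (f : V →ₗ[F] F) (v : V) (hfv : f v = 1) (hfS : f (S v) = 1), Big (resKer S f v hfS) ∧
      f b ≠ 0 ∧ c v ≠ 0 ∧ (⟨S v - v, by simp [hfv, hfS]⟩ : LinearMap.ker f) ≠ 0 ∧
      (f.comp S).comp (LinearMap.ker f).subtype ≠ 0 := by
  classical
  obtain ⟨d, hd⟩ : ∃ d, finrank F V = d := ⟨_, rfl⟩
  rw [hd] at h3
  obtain ⟨hns, hr2⟩ := hS
  set N : End F V := S - 1 with hN
  set r₁ := finrank F (LinearMap.range N) with hr₁
  let A : F → End F V := fun κ => S - κ • 1
  have hA : ∀ κ x, A κ x = S x - κ • x := fun κ x => by simp [A]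
  have hNx : ∀ x, N x = S x - x := fun x => by simp [hN]
  have hrk : ∀ g : End F V, finrank F (LinearMap.range g) + finrank F (LinearMap.ker g) = d := fun g =>
    hd ▸ LinearMap.finrank_range_add_finrank_ker g
  have hkr : ∀ κ μ, κ ≠ μ → LinearMap.ker (A κ) ≤ LinearMap.range (A μ) := fun κ μ hne x hx => by
    refine ⟨(κ - μ)⁻¹ • x, ?_⟩
    rw [LinearMap.mem_ker, hA, sub_eq_zero] at hx
    rw [map_smul, hA, hx, ← sub_smul, inv_smul_smul₀ (sub_ne_zero.2 hne)]
  have hA1 : A 1 = N := by simp [A, hN]
  let Sp : F → Prop := fun κ => κ ≠ 1 ∧ κ ^ (d - 1) = 1 ∧ finrank F (LinearMap.range (A κ)) ≤ 2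
  have hsp3 : ∀ κ, d = 3 → Sp κ → κ = -1 := fun κ h ⟨h1, h2, _⟩ => by
    rw [h] at h2
    exact ((mul_self_eq_one_iff (a := κ)).1 (by rw [← pow_two]; exact h2)).resolve_left h1
  -- the vector
  obtain ⟨v, hcv, hE, hI, hne, hsp⟩ : ∃ v, c v ≠ 0 ∧ (∀ a : F, N v ≠ a • b) ∧
      (r₁ < d → v ∉ LinearMap.range N) ∧ (∀ σ : F, S v ≠ σ • v) ∧ ∀ κ, Sp κ → v ∉ LinearMap.range (A κ) := by
    have hH : LinearMap.ker c ≠ ⊤ := fun e => hc (LinearMap.ker_eq_top.1 e)
    have hEp : (F ∙ b).comap N ≠ ⊤ := fun e => by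
      have hle : LinearMap.range N ≤ F ∙ b := by
        rintro _ ⟨x, rfl⟩
        have hm : x ∈ (F ∙ b).comap N := by rw [e]; exact Submodule.mem_top
        exact hm
      have h1 := (Submodule.finrank_mono hle).trans (finrank_span_le_card ({b} : Set V))
      simp at h1
      omega
    have base : ∀ v, v ∉ LinearMap.ker c → v ∉ (F ∙ b).comap N → c v ≠ 0 ∧ ∀ a : F, N v ≠ a • b :=
      fun v h1 h2 => ⟨h1, fun a e => h2 (Submodule.mem_comap.2 (e ▸ Submodule.smul_mem _ a (Submodule.mem_span_singleton_self b)))⟩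
    have hAp : ∀ κ, finrank F (LinearMap.range (A κ)) < d → LinearMap.range (A κ) ≠ ⊤ := fun κ h e => by
      rw [e, finrank_top] at h; omega
    by_cases hlt : r₁ < d
    · have hI1 : LinearMap.range N ≠ ⊤ := fun e => by rw [hr₁, e, finrank_top] at hlt; omega
      have huniq : ∀ κ μ, Sp κ → Sp μ → κ = μ := fun κ μ hκ hμ => by
        by_contra hne
        have hsup : LinearMap.ker (A κ) ⊔ LinearMap.ker (A μ) ≤ LinearMap.range N :=
          hA1 ▸ sup_le (hkr κ 1 hκ.1) (hkr μ 1 hμ.1)
        have hinf : LinearMap.ker (A κ) ⊓ LinearMap.ker (A μ) = ⊥ := by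
          rw [eq_bot_iff]
          rintro x ⟨h1, h2⟩
          rw [SetLike.mem_coe, LinearMap.mem_ker, hA, sub_eq_zero] at h1 h2
          have h4 : (κ - μ) • x = 0 := by rw [sub_smul, ← h1, ← h2, sub_self]
          exact (Submodule.mem_bot F).2 ((smul_eq_zero.1 h4).resolve_left (sub_ne_zero.2 hne))
        have h1 := Submodule.finrank_sup_add_finrank_inf_eq (LinearMap.ker (A κ)) (LinearMap.ker (A μ))
        rw [hinf, finrank_bot] at h1
        have h2 := Submodule.finrank_mono hsup
        have h4 := hrk (A κ)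
        have h5 := hrk (A μ)
        have h6 := hκ.2.2
        have h7 := hμ.2.2
        exact hne ((hsp3 κ (by omega) hκ).trans (hsp3 μ (by omega) hμ).symm)
      by_cases hex : ∃ μ, Sp μ
      · obtain ⟨μ, hμ⟩ := hex
        obtain ⟨v, hv⟩ := exists_notMem_list [LinearMap.ker c, (F ∙ b).comap N, LinearMap.range N, LinearMap.range (A μ)]
          (by simp [hH, hEp, hI1, hAp μ (by have := hμ.2.2; omega)]) (by simpa using hq)
        simp only [List.mem_cons, List.not_mem_nil, or_false, forall_eq_or_imp, forall_eq] at hv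
        obtain ⟨h1, h2, h4, h5⟩ := hv
        obtain ⟨b1, b2⟩ := base v h1 h2
        refine ⟨v, b1, b2, fun _ => h4, fun σ e => ?_, fun κ hκ => huniq κ μ hκ hμ ▸ h5⟩
        by_cases hσ : σ = 1
        · exact b2 0 (by rw [hNx, e, hσ, one_smul, sub_self, zero_smul])
        · exact h4 (hA1 ▸ hkr σ 1 hσ (by rw [LinearMap.mem_ker, hA, e, sub_self]))
      · obtain ⟨v, hv⟩ := exists_notMem_list [LinearMap.ker c, (F ∙ b).comap N, LinearMap.range N]
          (by simp [hH, hEp, hI1]) (by simp only [List.length_cons, List.length_nil]; omega)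
        simp only [List.mem_cons, List.not_mem_nil, or_false, forall_eq_or_imp, forall_eq] at hv
        obtain ⟨h1, h2, h4⟩ := hv
        obtain ⟨b1, b2⟩ := base v h1 h2
        refine ⟨v, b1, b2, fun _ => h4, fun σ e => ?_, fun κ hκ => absurd ⟨κ, hκ⟩ hex⟩
        by_cases hσ : σ = 1
        · exact b2 0 (by rw [hNx, e, hσ, one_smul, sub_self, zero_smul])
        · exact h4 (hA1 ▸ hkr σ 1 hσ (by rw [LinearMap.mem_ker, hA, e, sub_self]))
    · by_cases heig : ∃ μ, LinearMap.ker (A μ) ≠ ⊥
      · obtain ⟨μ, hμ, hμs⟩ : ∃ μ, LinearMap.ker (A μ) ≠ ⊥ ∧ ((∃ κ, Sp κ) → Sp μ) := by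
          by_cases hex : ∃ κ, Sp κ
          · obtain ⟨κ, hκ⟩ := hex
            refine ⟨κ, fun e => ?_, fun _ => hκ⟩
            have h1 := hrk (A κ); have h2 := hκ.2.2
            rw [e, finrank_bot] at h1; omega
          · obtain ⟨μ, hμ⟩ := heig
            exact ⟨μ, hμ, fun h => absurd h hex⟩
        have hkpos : 0 < finrank F (LinearMap.ker (A μ)) :=
          Nat.pos_of_ne_zero fun e => hμ (Submodule.finrank_eq_zero.1 e)
        have hkt : LinearMap.ker (A μ) ≠ ⊤ := fun e => hns μ (LinearMap.ext fun x => by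
          have hm : x ∈ LinearMap.ker (A μ) := by rw [e]; exact Submodule.mem_top
          rw [LinearMap.mem_ker, hA, sub_eq_zero] at hm
          simpa using hm)
        obtain ⟨v, hv⟩ := exists_notMem_list [LinearMap.ker c, (F ∙ b).comap N, LinearMap.range (A μ), LinearMap.ker (A μ)]
          (by simp [hH, hEp, hkt, hAp μ (by have := hrk (A μ); omega)]) (by simpa using hq)
        simp only [List.mem_cons, List.not_mem_nil, or_false, forall_eq_or_imp, forall_eq] at hv
        obtain ⟨h1, h2, h4, h5⟩ := hv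
        obtain ⟨b1, b2⟩ := base v h1 h2
        refine ⟨v, b1, b2, fun h => absurd h hlt, fun σ e => ?_, fun κ hκ => ?_⟩
        · by_cases hσ : σ = μ
          · exact h5 (by rw [LinearMap.mem_ker, hA, e, hσ, sub_self])
          · exact h4 (hkr σ μ hσ (by rw [LinearMap.mem_ker, hA, e, sub_self]))
        · by_cases hκμ : κ = μ
          · exact hκμ ▸ h4
          have hsm := hμs ⟨κ, hκ⟩
          have h4d : 4 ≤ d := by
            by_contra h
            exact hκμ ((hsp3 κ (by omega) hκ).trans (hsp3 μ (by omega) hsm).symm)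
          have e : LinearMap.ker (A μ) = LinearMap.range (A κ) :=
            Submodule.eq_of_le_of_finrank_le (hkr μ κ (Ne.symm hκμ)) (by
              have := hrk (A μ); have := hsm.2.2; have := hκ.2.2; omega)
          exact e ▸ h5
      · push Not at heig
        obtain ⟨v, hv⟩ := exists_notMem_list [LinearMap.ker c, (F ∙ b).comap N]
          (by simp [hH, hEp]) (by simp only [List.length_cons, List.length_nil]; omega)
        simp only [List.mem_cons, List.not_mem_nil, or_false, forall_eq_or_imp, forall_eq] at hv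
        obtain ⟨h1, h2⟩ := hv
        obtain ⟨b1, b2⟩ := base v h1 h2
        refine ⟨v, b1, b2, fun h => absurd h hlt, fun σ e => ?_, fun κ hκ => ?_⟩
        · have hm : v ∈ LinearMap.ker (A σ) := by rw [LinearMap.mem_ker, hA, e, sub_self]
          rw [heig σ, Submodule.mem_bot] at hm
          exact h1 (by simp [hm])
        · have h1 := hrk (A κ); have h4 := hκ.2.2
          rw [heig κ, finrank_bot] at h1; omega
  have hv0 : v ≠ 0 := fun e => hcv (by simp [e])
  have hvw : ∀ x y : F, x • v + y • S v = 0 → x = 0 ∧ y = 0 := fun x y h => by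
    have hy : y = 0 := by
      by_contra hy
      refine hne (-(y⁻¹ * x)) ?_
      rw [← inv_smul_smul₀ hy (S v)]
      linear_combination (norm := module) y⁻¹ • h
    exact ⟨(smul_eq_zero.1 (by simpa [hy] using h)).resolve_right hv0, hy⟩
  have hback : ∀ κ : F, κ ≠ 0 → S v ∈ LinearMap.range (A κ) → v ∈ LinearMap.range (A κ) := fun κ hκ ⟨x, hx⟩ => by
    refine ⟨κ⁻¹ • (x - v), ?_⟩
    rw [map_smul, map_sub, hx, hA, sub_sub_cancel, inv_smul_smul₀ hκ]
  have hmk : ∀ x, x ∉ F ∙ N v → ∀ p q : F, x = p • v + q • S v → p + q + 0 ≠ 0 := fun x hx p q e h => by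
    refine hx (Submodule.mem_span_singleton.2 ⟨q, ?_⟩)
    rw [e, hNx, show p = -q by linear_combination h]
    module
  have hb' : b ∉ F ∙ N v := fun hm => by
    obtain ⟨t, ht⟩ := Submodule.mem_span_singleton.1 hm
    have ht0 : t ≠ 0 := fun e => hb (by rw [← ht, e, zero_smul])
    exact hE t⁻¹ (by rw [← ht, inv_smul_smul₀ ht0])
  -- the conditions on the functional
  obtain ⟨x₂, hx₂, hx₂r, hx₂k⟩ : ∃ x, x ∉ F ∙ N v ∧ x ∈ LinearMap.range N ∧
      ∀ κ, Sp κ → finrank F (LinearMap.range (A κ)) ≤ 1 → x ∈ LinearMap.ker (A κ) := by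
    by_cases h : ∃ κ, Sp κ ∧ finrank F (LinearMap.range (A κ)) ≤ 1
    · obtain ⟨κ, hκ, hκ1⟩ := h
      obtain ⟨x, hxk, hx⟩ := exists_mem_notMem (K := LinearMap.ker (A κ)) (by have := hrk (A κ); omega) (N v)
      refine ⟨x, hx, hA1 ▸ hkr κ 1 hκ.1 hxk, fun μ hμ hμ1 => ?_⟩
      by_contra hx'
      have hne' : μ ≠ κ := fun e => hx' (e ▸ hxk)
      have h1 := Submodule.finrank_mono (hkr μ κ hne')
      have := hrk (A μ)
      omega
    · obtain ⟨x, hxr, hx⟩ := exists_mem_notMem (K := LinearMap.range N) hr2 (N v)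
      exact ⟨x, hx, hxr, fun κ hκ hκ1 => absurd ⟨κ, hκ, hκ1⟩ h⟩
  obtain ⟨x₃, r₃, hx₃, hx₃k, hx₃u⟩ : ∃ (x : V) (r : F), (∀ p q : F, x = p • v + q • S v → p + q + r ≠ 0) ∧
      (r₁ = 2 → N x = 0 ∧ r = 0) ∧ (d = 3 → r₁ = 3 → N x = v ∧ r = 1) := by
    by_cases h2 : r₁ = 2
    · have hker := hrk N
      obtain ⟨x, hxk, hx⟩ : ∃ x ∈ LinearMap.ker N, x ∉ F ∙ N v := by
        rcases Nat.lt_or_ge d 4 with hd4 | hd4
        swap
        · exact exists_mem_notMem (by omega) _
        by_contra hcon
        push Not at hcon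
        obtain ⟨k, hk, hk0⟩ := (Submodule.ne_bot_iff (LinearMap.ker N)).1 fun e => by
          rw [e, finrank_bot] at hker; omega
        obtain ⟨t, rfl⟩ := Submodule.mem_span_singleton.1 (hcon k hk)
        have ht : t ≠ 0 := fun e => hk0 (by rw [e, zero_smul])
        have h1 : N (N v) = 0 := by
          have h4 := LinearMap.mem_ker.1 hk
          rw [map_smul] at h4
          exact (smul_eq_zero.1 h4).resolve_left ht
        rw [hNx, hNx, map_sub, sub_eq_zero] at h1
        have hle := range_le_plane (by omega) hdet hvw (p := 2)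
          (by linear_combination (norm := module) h1)
        have heq := Submodule.eq_of_le_of_finrank_le hle (by
          have h4 := finrank_span_finset_le_card (R := F) ({v, S v} : Finset V)
          rw [Set.finrank, Finset.coe_insert, Finset.coe_singleton] at h4
          have := h4.trans Finset.card_le_two
          exact this.trans hr2)
        exact hI (by omega) (heq ▸ Submodule.subset_span (by simp))
      exact ⟨x, 0, hmk x hx, fun _ => ⟨LinearMap.mem_ker.1 hxk, rfl⟩, fun _ h => absurd (h2.symm.trans h) (by norm_num)⟩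
    by_cases h33 : d = 3 ∧ r₁ = 3
    · obtain ⟨u, hu⟩ : ∃ u, N u = v := LinearMap.range_eq_top.1
        (Submodule.eq_top_of_finrank_eq (by omega)) v
      refine ⟨u, 1, fun p q e hpq => ?_, fun h => absurd h h2, fun _ _ => ⟨hu, rfl⟩⟩
      have h1 := congrArg N e
      rw [hu, map_add, map_smul, map_smul, hNx, hNx] at h1
      have hq0 : q ≠ 0 := fun e' => by
        obtain ⟨ha, hb⟩ := hvw (1 + p) (-p) (by rw [e'] at h1; linear_combination (norm := module) h1)
        exact one_ne_zero (by linear_combination ha + hb)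
      have h4 : q • S (S v) = q • (((q - p) * q⁻¹) • S v - v) := by
        rw [smul_sub, smul_smul, mul_comm q, inv_mul_cancel_right₀ hq0]
        rw [show p = -1 - q by linear_combination hpq] at h1 ⊢
        linear_combination (norm := module) (-1 : F) • h1
      have hle := range_le_plane (by omega) hdet hvw (smul_right_injective V hq0 h4)
      have h5 := Submodule.finrank_mono hle
      have h6 := finrank_span_finset_le_card (R := F) ({v, S v} : Finset V)
      rw [Set.finrank, Finset.coe_insert, Finset.coe_singleton] at h6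
      have h7 := Finset.card_le_two (a := v) (b := S v)
      rw [← hN] at h5
      omega
    exact ⟨x₂, 0, hmk x₂ hx₂, fun h => absurd h h2, fun h h' => absurd ⟨h, h'⟩ h33⟩
  obtain ⟨f, hfv, hfS, hf⟩ := exists_functional_list (v := v) (w := S v) [(b, (0 : F)), (x₂, 0), (x₃, r₃)]
    (by obtain ⟨f, h1, h2, -⟩ := exists_functional_ne hvw b 0 (hmk b hb'); exact ⟨f, h1, h2⟩)
    (by
      simp only [List.mem_cons, List.not_mem_nil, or_false, forall_eq_or_imp, forall_eq]
      exact ⟨exists_functional_ne hvw b 0 (hmk b hb'), exists_functional_ne hvw x₂ 0 (hmk x₂ hx₂),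
        exists_functional_ne hvw x₃ r₃ hx₃⟩)
    (by simpa using hq)
  simp only [List.mem_cons, List.not_mem_nil, or_false, forall_eq_or_imp, forall_eq, add_zero] at hf
  obtain ⟨hfb, hf₂, hf₃⟩ := hf
  refine ⟨f, v, hfv, hfS, ?_, hfb, hcv, fun e => hE 0 ?_, fun e => hf₂ ?_⟩
  rotate_left
  · rw [hNx, zero_smul]; exact congrArg Subtype.val e
  · obtain ⟨y, rfl⟩ := hx₂r
    have h1 : f (S (y - f y • v)) = 0 := LinearMap.congr_fun e ⟨y - f y • v, by simp [hfv]⟩
    rw [map_sub, map_smul, map_sub, map_smul, hfS, smul_eq_mul, mul_one] at h1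
    rw [hNx, map_sub, h1]
  -- the residual map
  set R := resKer S f v hfS with hR
  have hRz : ∀ z : (LinearMap.ker f), (R z : V) = S z - f (S z) • S v := fun z => res_apply S f v z
  have hWd : finrank F (LinearMap.ker f) + 1 = d := by
    have h1 := hrk (A 1)
    have h2 := LinearMap.finrank_range_add_finrank_ker f
    rw [LinearMap.range_eq_top.2 (fun t => ⟨t • v, by simp [hfv]⟩ : Function.Surjective f), finrank_top,
      Module.finrank_self, hd] at h2
    omega
  have hsplit : ∀ y, y - f y • v ∈ (LinearMap.ker f) := fun y => by simp [LinearMap.mem_ker, hfv]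
  have hr' : 2 ≤ finrank F (LinearMap.range (R - 1)) := by
    set M := (LinearMap.ker f).map N with hM
    have hsub : M ⊔ F ∙ S v ≤ (LinearMap.range (R - 1)).map (LinearMap.ker f).subtype ⊔ F ∙ S v := by
      refine sup_le ?_ le_sup_right
      rintro _ ⟨z, hz, rfl⟩
      refine Submodule.mem_sup.2 ⟨((R - 1) ⟨z, hz⟩ : (LinearMap.ker f)), Submodule.mem_map_of_mem (LinearMap.mem_range_self _ _),
        f (S z) • S v, Submodule.smul_mem _ _ (Submodule.mem_span_singleton_self _), ?_⟩
      simp only [LinearMap.sub_apply, Module.End.one_apply, AddSubgroupClass.coe_sub, hRz, hNx]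
      abel
    have h1 := (Submodule.finrank_mono hsub).trans (Submodule.finrank_add_le_finrank_add_finrank _ _)
    rw [Submodule.finrank_map_subtype_eq] at h1
    have h1' : finrank F (F ∙ S v) ≤ 1 := by
      refine (finrank_span_le_card ({S v} : Set V)).trans ?_; simp
    have hM1 : r₁ ≤ finrank F M + 1 := by
      have hle : LinearMap.range N ≤ M ⊔ F ∙ N v := by
        rintro _ ⟨y, rfl⟩
        exact Submodule.mem_sup.2 ⟨N (y - f y • v), Submodule.mem_map_of_mem (hsplit y), f y • N v,
          Submodule.smul_mem _ _ (Submodule.mem_span_singleton_self _), by rw [map_sub, map_smul, sub_add_cancel]⟩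
      have h2 := (Submodule.finrank_mono hle).trans (Submodule.finrank_add_le_finrank_add_finrank _ _)
      have h4 : finrank F (F ∙ N v) ≤ 1 := by refine (finrank_span_le_card ({N v} : Set V)).trans ?_; simp
      omega
    have hadd : S v ∉ M → finrank F M + 1 ≤ finrank F (M ⊔ F ∙ S v : Submodule F V) := fun hn =>
      Submodule.finrank_lt_finrank_of_lt (lt_of_le_of_ne le_sup_left fun e =>
        hn (e ▸ Submodule.mem_sup_right (Submodule.mem_span_singleton_self _)))
    have hmono : finrank F M ≤ finrank F (M ⊔ F ∙ S v : Submodule F V) := Submodule.finrank_mono le_sup_left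
    rcases Nat.lt_or_ge r₁ 4 with h4 | h4
    swap
    · omega
    have hle : r₁ ≤ d := by have := hrk N; omega
    rcases hle.lt_or_eq with hlt | heq
    · have hn : S v ∉ M := fun hm => hI hlt (hA1 ▸ hback 1 one_ne_zero (hA1.symm ▸ LinearMap.map_le_range hm))
      have h5 := hadd hn
      by_cases h2 : r₁ = 2
      · obtain ⟨hk, hr0⟩ := hx₃k h2
        rw [hr0, add_zero] at hf₃
        have hle : LinearMap.range N ≤ M := by
          rintro _ ⟨y, rfl⟩
          refine ⟨y - (f y * (f x₃)⁻¹) • x₃, ?_, ?_⟩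
          · simp [LinearMap.mem_ker, mul_assoc, inv_mul_cancel₀ hf₃]
          · rw [map_sub, map_smul, hk, smul_zero, sub_zero]
        have := Submodule.finrank_mono hle
        omega
      · omega
    · obtain ⟨hu, hr1⟩ := hx₃u (by omega) (by omega)
      have hinj : Function.Injective N := LinearMap.ker_eq_bot.1 (Submodule.finrank_eq_zero.1 (by
        have := hrk N; omega))
      have hn : S v ∉ M := by
        rintro ⟨z, hz, hzv⟩
        have e : z = x₃ + v := hinj (by rw [hzv, map_add, hu, hNx, add_sub_cancel])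
        rw [hr1] at hf₃
        refine hf₃ ?_
        have h6 : f z = 0 := hz
        rw [e, map_add, hfv] at h6
        exact h6
      have h5 := hadd hn
      omega
  refine ⟨fun κ hκ => ?_, hr'⟩
  have hκ1 : κ ≠ 1 := fun e => by
    rw [hκ, e, one_smul, sub_self, LinearMap.range_zero, finrank_bot] at hr'
    omega
  have hpow : κ ^ (d - 1) = 1 := by
    have h1 : LinearMap.det R = 1 := by rw [hR, det_resKer S f v hfv hfS, hdet]
    rw [hκ, LinearMap.det_smul, map_one, mul_one] at h1
    rwa [show d - 1 = finrank F (LinearMap.ker f) by omega]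
  have hz : ∀ z : (LinearMap.ker f), A κ (z : V) = f (S z) • S v := fun z => by
    have h1 : (R z : V) = κ • (z : V) := by rw [hκ]; rfl
    rw [hRz, sub_eq_iff_eq_add] at h1
    rw [hA]
    linear_combination (norm := module) h1
  have hle : LinearMap.range (A κ) ≤ Submodule.span F {S v, A κ v} := by
    rintro _ ⟨y, rfl⟩
    refine Submodule.mem_span_pair.2 ⟨f (S (y - f y • v)), f y, ?_⟩
    rw [← hz ⟨_, hsplit y⟩, map_sub, map_smul, sub_add_cancel]
  have hspκ : Sp κ := ⟨hκ1, hpow, (Submodule.finrank_mono hle).trans (by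
    have h4 := finrank_span_finset_le_card (R := F) ({S v, A κ v} : Finset V)
    rw [Set.finrank, Finset.coe_insert, Finset.coe_singleton] at h4
    exact h4.trans Finset.card_le_two)⟩
  by_cases hall : ∀ z : (LinearMap.ker f), A κ (z : V) = 0
  · have hle1 : LinearMap.range (A κ) ≤ F ∙ A κ v := by
      rintro _ ⟨y, rfl⟩
      refine Submodule.mem_span_singleton.2 ⟨f y, ?_⟩
      have h1 := hall ⟨_, hsplit y⟩
      rw [map_sub, map_smul, sub_eq_zero] at h1
      exact h1.symm
    have h2 := LinearMap.mem_ker.1 (hx₂k κ hspκ ((Submodule.finrank_mono hle1).trans (by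
      refine (finrank_span_le_card ({A κ v} : Set V)).trans ?_; simp)))
    have h3' : f x₂ • A κ v = 0 := by
      have h1 := hall ⟨_, hsplit x₂⟩
      rwa [map_sub, map_smul, h2, zero_sub, neg_eq_zero] at h1
    have h5 := (smul_eq_zero.1 h3').resolve_left hf₂
    exact hne κ (by rwa [hA, sub_eq_zero] at h5)
  · push Not at hall
    obtain ⟨z, hz0⟩ := hall
    refine hsp κ hspκ (hback κ (fun e => ?_) ⟨(f (S z))⁻¹ • (z : V), ?_⟩)
    · rw [e, zero_pow (by omega)] at hpow; exact zero_ne_one hpow
    · rw [map_smul, hz, inv_smul_smul₀ fun e => hz0 (by rw [hz, e, zero_smul])]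

end CfsgLib.OreLevi
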