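import Cfsg.Agent.Lib.OreLevi.FactorFourCore

/-!
A family of cyclic blocks in which no two small coprime blocks can be joined.
-/

set_option autoImplicit false
set_option linter.unusedSectionVars false

namespace CfsgLib.OreLevi.Four

open Polynomial Module CfsgLib.SLComm

attribute [-instance] Fintype.subtypeEq Fintype.subtypeEq'

universe u

variable {F : Type u} [Field F]
variable {V : Type u} [AddCommGroup V] [Module F V] [FiniteDimensional F V]

/-- Joining two coprime blocks. -/
theorem bdec_join {ι : Type} [Fintype ι] [DecidableEq ι] {S : End F V} {x : ι → V} {P : ι → F[X]}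
    (hb : BDec S x P) (i j : ι) (hij : i ≠ j) (hco : IsCoprime (P i) (P j)) :
    BDec S (fun l : {l // l ≠ j} => if (l : ι) = i then x i + x j else x l)
      fun l : {l // l ≠ j} => if (l : ι) = i then P i * P j else P l := by
  refine ⟨fun l => ?_, fun l => ?_, ?_, fun z => ?_⟩
  · split_ifs
    exacts [(hb.monic i).mul (hb.monic j), hb.monic _]
  · split_ifs
    · have e1 : aeval S (P i * P j) (x i) = 0 := by
        rw [mul_comm, map_mul, Module.End.mul_apply, hb.kill i, map_zero]
      have e2 : aeval S (P i * P j) (x j) = 0 := by rw [map_mul, Module.End.mul_apply, hb.kill j, map_zero]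
      rw [map_add, e1, e2, add_zero]
    · exact hb.kill _
  · have hsum := hb.sum
    rw [Fintype.sum_eq_add_sum_subtype_ne _ j] at hsum
    rw [← hsum, Fintype.sum_eq_add_sum_subtype_ne _ (⟨i, hij⟩ : {l // l ≠ j}),
      Fintype.sum_eq_add_sum_subtype_ne (fun l : {l // l ≠ j} => (P l).natDegree) (⟨i, hij⟩ : {l // l ≠ j})]
    rw [if_pos rfl, natDegree_mul (hb.monic i).ne_zero (hb.monic j).ne_zero, add_comm (P i).natDegree, add_assoc]
    congr 2
    refine Finset.sum_congr rfl fun l _ => ?_
    rw [if_neg fun e => l.2 (Subtype.ext e)]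
  · obtain ⟨a, b, hab⟩ := hco
    obtain ⟨p, hp⟩ := hb.span z
    have hi : aeval S (b * P j) (x i + x j) = x i := by
      have e1 : aeval S (b * P j) (x i) = x i := by
        rw [show b * P j = 1 - a * P i by rw [← hab]; ring, map_sub, LinearMap.sub_apply, map_one, Module.End.one_apply,
          map_mul, Module.End.mul_apply, hb.kill i, map_zero, sub_zero]
      have e2 : aeval S (b * P j) (x j) = 0 := by rw [map_mul, Module.End.mul_apply, hb.kill j, map_zero]
      rw [map_add, e1, e2, add_zero]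
    have hj : aeval S (a * P i) (x i + x j) = x j := by
      rw [show a * P i = 1 - b * P j by rw [← hab]; ring, map_sub, LinearMap.sub_apply, hi, map_one,
        Module.End.one_apply, add_sub_cancel_left]
    refine ⟨fun l => if (l : ι) = i then p i * (b * P j) + p j * (a * P i) else p l, ?_⟩
    rw [hp, Fintype.sum_eq_add_sum_subtype_ne _ j,
      Fintype.sum_eq_add_sum_subtype_ne _ (⟨i, hij⟩ : {l // l ≠ j}),
      Fintype.sum_eq_add_sum_subtype_ne (fun l : {l // l ≠ j} =>
        aeval S (if (l : ι) = i then p i * (b * P j) + p j * (a * P i) else p l)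
          (if (l : ι) = i then x i + x j else x l)) (⟨i, hij⟩ : {l // l ≠ j})]
    rw [if_pos rfl, if_pos rfl, map_add (aeval (R := F) S), LinearMap.add_apply, map_mul _ (p i), map_mul _ (p j),
      Module.End.mul_apply, Module.End.mul_apply, hi, hj]
    conv_rhs =>
      arg 2
      rw [Finset.sum_congr rfl fun l _ => by rw [if_neg fun e => l.2 (Subtype.ext e), if_neg fun e => l.2 (Subtype.ext e)]]
    abel

/-- The primary decomposition. -/
theorem exists_primary (S : End F V) :
    ∃ (n : ℕ) (x : Fin n → V) (P : Fin n → F[X]), BDec S x P ∧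
      ∀ a, ∃ (d : F[X]) (k : ℕ), d.Monic ∧ Irreducible d ∧ P a = d ^ k := by
  classical
  obtain ⟨ι, _, p, hirr, e, ⟨E⟩⟩ := Module.equiv_directSum_of_isTorsion
    (Module.AEval.isTorsion_of_finiteDimensional (K := F) (A := Module.End F V) (M := V) (a := S))
  let q : ι → F[X] := fun i => p i ^ e i
  have hq : ∀ i, q i ≠ 0 := fun i => pow_ne_zero _ (hirr i).ne_zero
  let x₀ : ι → V := fun i => (Module.AEval'.of S).symm
    (E.symm (DirectSum.lof F[X] ι (fun j => F[X] ⧸ F[X] ∙ p j ^ e j) i (Submodule.Quotient.mk 1)))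
  have hx : ∀ (i : ι) (r : F[X]), aeval S r (x₀ i) = (Module.AEval'.of S).symm
      (E.symm (DirectSum.lof F[X] ι (fun j => F[X] ⧸ F[X] ∙ p j ^ e j) i (Submodule.Quotient.mk r))) := fun i r => by
    rw [show (Submodule.Quotient.mk r : F[X] ⧸ F[X] ∙ p i ^ e i) = r • Submodule.Quotient.mk 1 by
      rw [← Submodule.Quotient.mk_smul, smul_eq_mul, mul_one], map_smul, map_smul, Module.AEval.of_symm_smul]
    rfl
  let en := (Fintype.equivFin ι).symm
  refine ⟨Fintype.card ι, fun a => x₀ (en a), fun a => q (en a) * C (q (en a)).leadingCoeff⁻¹, ?_, fun a =>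
    ⟨p (en a) * C (p (en a)).leadingCoeff⁻¹, e (en a), monic_mul_leadingCoeff_inv (hirr _).ne_zero,
      irreducible_mul_leadingCoeff_inv.2 (hirr _), by
        show p (en a) ^ e (en a) * _ = _
        rw [leadingCoeff_pow, mul_pow, ← C_pow, inv_pow]⟩⟩
  refine BDec.reindex (x := x₀) (P := fun i => q i * C (q i).leadingCoeff⁻¹) ⟨fun i => ?_, fun i => ?_, ?_, fun z => ?_⟩ en
  · exact monic_mul_leadingCoeff_inv (hq i)
  · rw [hx, (Submodule.Quotient.mk_eq_zero (F[X] ∙ p i ^ e i)).2 (Submodule.mem_span_singleton.2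
      ⟨C (q i).leadingCoeff⁻¹, mul_comm _ _⟩)]
    simp
  · have : ∀ i, Module.Finite F (F[X] ⧸ F[X] ∙ p i ^ e i) := fun i =>
      (AdjoinRoot.powerBasis (hq i)).finite
    rw [LinearEquiv.finrank_eq ((Module.AEval'.of S).trans (E.restrictScalars F)), Module.finrank_directSum]
    refine Finset.sum_congr rfl fun i _ => ?_
    rw [natDegree_mul_leadingCoeff_inv _ (hq i)]
    exact ((AdjoinRoot.powerBasis (hq i)).finrank.trans (AdjoinRoot.powerBasis_dim _)).symm
  · let y := E (Module.AEval'.of S z)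
    have hy : ∀ i, ∃ r : F[X], Submodule.Quotient.mk r = y i := fun i => Submodule.Quotient.mk_surjective _ (y i)
    choose r hr using hy
    refine ⟨r, ?_⟩
    simp only [hx, hr, ← map_sum]
    rw [LinearEquiv.eq_symm_apply, LinearEquiv.eq_symm_apply]
    exact (DirectSum.sum_univ_of y).symm

/-- The blocks of positive degree form a family. -/
theorem bdec_pos {ι : Type} [Fintype ι] {S : End F V} {x : ι → V} {P : ι → F[X]} (hb : BDec S x P) :
    BDec S (fun i : {i // 1 ≤ (P i).natDegree} => x i) fun i : {i // 1 ≤ (P i).natDegree} => P i := by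
  classical
  have h0 : ∀ i, ¬ 1 ≤ (P i).natDegree → x i = 0 := fun i hi => by
    have := hb.kill i
    rwa [eq_one_of_monic_natDegree_zero (hb.monic i) (by omega), map_one, Module.End.one_apply] at this
  refine ⟨fun i => hb.monic _, fun i => hb.kill _, ?_, fun z => ?_⟩
  · rw [← hb.sum, ← Fintype.sum_subtype_add_sum_subtype (fun i => 1 ≤ (P i).natDegree) fun i => (P i).natDegree]
    refine (add_eq_left.2 (Finset.sum_eq_zero fun i _ => ?_)).symm
    have := i.2
    omega
  · obtain ⟨p, hp⟩ := hb.span z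
    refine ⟨fun i => p i, ?_⟩
    rw [hp, ← Fintype.sum_subtype_add_sum_subtype (fun i => 1 ≤ (P i).natDegree) fun i => aeval S (p i) (x i)]
    exact add_eq_left.2 (Finset.sum_eq_zero fun i _ => by rw [h0 _ i.2, map_zero])

theorem exists_terminal (S : End F V) :
    ∃ (ι : Type) (_ : Fintype ι) (P : ι → F[X]) (x : ι → V), BDec S x P ∧
      (∀ i, 1 ≤ (P i).natDegree ∧
        ((P i).natDegree ≤ 3 → ∃ (d : F[X]) (k : ℕ), d.Monic ∧ Irreducible d ∧ P i = d ^ k)) ∧
      ∀ i j, i ≠ j → (P i).natDegree ≤ 3 → (P j).natDegree ≤ 3 → 4 ≤ (P i).natDegree + (P j).natDegree →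
        ¬ IsCoprime (P i) (P j) := by
  classical
  have key : ∀ (m : ℕ) (ι : Type) (_ : Fintype ι) (P : ι → F[X]) (x : ι → V), Fintype.card ι = m → BDec S x P →
      (∀ i, 1 ≤ (P i).natDegree ∧
        ((P i).natDegree ≤ 3 → ∃ (d : F[X]) (k : ℕ), d.Monic ∧ Irreducible d ∧ P i = d ^ k)) →
      ∃ (ι : Type) (_ : Fintype ι) (P : ι → F[X]) (x : ι → V), BDec S x P ∧
        (∀ i, 1 ≤ (P i).natDegree ∧
          ((P i).natDegree ≤ 3 → ∃ (d : F[X]) (k : ℕ), d.Monic ∧ Irreducible d ∧ P i = d ^ k)) ∧
        ∀ i j, i ≠ j → (P i).natDegree ≤ 3 → (P j).natDegree ≤ 3 → 4 ≤ (P i).natDegree + (P j).natDegree →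
          ¬ IsCoprime (P i) (P j) := by
    intro m
    induction m using Nat.strong_induction_on with
    | _ m ih =>
      intro ι _ P x hm hb hP
      by_cases h : ∀ i j, i ≠ j → (P i).natDegree ≤ 3 → (P j).natDegree ≤ 3 →
          4 ≤ (P i).natDegree + (P j).natDegree → ¬ IsCoprime (P i) (P j)
      · exact ⟨ι, inferInstance, P, x, hb, hP, h⟩
      push Not at h
      obtain ⟨i, j, hij, -, -, h4, hco⟩ := h
      refine ih (Fintype.card {l // l ≠ j}) (hm ▸ Fintype.card_subtype_lt (x := j) (by simp)) _ inferInstance _ _ rfl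
        (bdec_join hb i j hij hco) fun l => ?_
      by_cases hl : (l : ι) = i
      · rw [if_pos hl, natDegree_mul (hb.monic i).ne_zero (hb.monic j).ne_zero]
        exact ⟨by omega, fun h3 => by omega⟩
      · rw [if_neg hl]
        exact hP _
  obtain ⟨n, x, P, hb, hd⟩ := exists_primary S
  exact key _ _ inferInstance _ _ rfl (bdec_pos hb) fun i => ⟨i.2, fun _ => hd i⟩

end CfsgLib.OreLevi.Four
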