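import Cfsg.Agent.Lib.OreLevi.FactorFourSplit

/-!
A family of cyclic blocks factorises when each block splits into a head, these heads factorising
together, and a tail factorising for a coprime polynomial.
-/

set_option autoImplicit false
set_option linter.unusedSectionVars false

namespace CfsgLib.OreLevi.Four

open Polynomial Module CfsgLib.SLComm

attribute [-instance] Fintype.subtypeEq Fintype.subtypeEq'

universe u

variable {F : Type u} [Field F]
variable {V : Type u} [AddCommGroup V] [Module F V] [FiniteDimensional F V]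

section pimap

variable {ι : Type} [Fintype ι] {M : ι → Type u} [∀ i, AddCommGroup (M i)] [∀ i, Module F (M i)]

/-- The map acting coordinatewise. -/
def diagMap (f : ∀ i, End F (M i)) : End F (∀ i, M i) := LinearMap.pi fun i => f i ∘ₗ LinearMap.proj i

theorem diagMap_apply (f : ∀ i, End F (M i)) (u : ∀ i, M i) (i : ι) : diagMap f u i = f i (u i) := rfl

theorem aeval_diagMap (f : ∀ i, End F (M i)) (q : F[X]) :
    aeval (diagMap f) q = diagMap fun i => aeval (f i) q := by
  induction q using Polynomial.induction_on with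
  | C c => exact LinearMap.ext fun u => funext fun i => by simp [diagMap_apply]
  | add p q hp hq => rw [map_add, hp, hq]; exact LinearMap.ext fun u => funext fun i => by simp [diagMap_apply]
  | monomial k c ih =>
    have e : C c * X ^ (k + 1) = X * (C c * X ^ k) := by ring
    rw [e, map_mul, aeval_X, ih]
    exact LinearMap.ext fun u => funext fun i => by simp [diagMap_apply]

theorem det_diagMap [∀ i, FiniteDimensional F (M i)] (f : ∀ i, End F (M i)) :
    LinearMap.det (diagMap f) = ∏ i, LinearMap.det (f i) := by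
  classical
  let : LinearOrder ι := LinearOrder.lift' (Fintype.equivFin ι) (Fintype.equivFin ι).injective
  let b := fun i => Module.finBasis F (M i)
  have h : LinearMap.toMatrix (Pi.basis b) (Pi.basis b) (diagMap f) =
      Matrix.blockDiagonal' fun i => LinearMap.toMatrix (b i) (b i) (f i) := by
    ext ⟨i, a⟩ ⟨j, c⟩
    rw [LinearMap.toMatrix_apply, Pi.basis_repr, Pi.basis_apply, diagMap_apply]
    rcases eq_or_ne i j with rfl | hij
    · rw [Pi.single_eq_same, Matrix.blockDiagonal'_apply_eq, LinearMap.toMatrix_apply]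
    · rw [Pi.single_eq_of_ne hij, map_zero, map_zero, Matrix.blockDiagonal'_apply_ne _ _ _ hij]
      rfl
  rw [← LinearMap.det_toMatrix (Pi.basis b), h, (Matrix.blockTriangular_blockDiagonal' _).det_fintype]
  refine Finset.prod_congr rfl fun i _ => ?_
  rw [← LinearMap.det_toMatrix (b i), ← Matrix.det_submatrix_equiv_self (Equiv.sigmaSubtype i).symm]
  congr 1
  ext a c
  exact Matrix.blockDiagonal'_apply_eq (fun j => LinearMap.toMatrix (b j) (b j) (f j)) i a c

theorem Fac.diag [∀ i, FiniteDimensional F (M i)] {R : F[X]} {G : ∀ i, End F (M i)} (h : ∀ i, Fac R (G i)) :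
    Fac R (diagMap G) := by
  choose L z he hz hL hR using h
  refine ⟨diagMap L, diagMap z, ?_, ?_, ?_, ?_⟩
  · exact LinearMap.ext fun u => funext fun i => LinearMap.congr_fun (he i) (u i)
  · rw [det_diagMap, Finset.prod_eq_one fun i _ => hz i]
  · rw [det_diagMap, Finset.prod_eq_one fun i _ => hL i]
  · rw [aeval_diagMap]
    exact LinearMap.ext fun u => funext fun i => LinearMap.congr_fun (hR i) (u i)

theorem bdec_diag [∀ i, FiniteDimensional F (M i)] {G : ∀ i, End F (M i)} {H : ι → F[X]}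
    (h : ∀ i, Cyc (G i) (H i)) : ∃ y : ι → (∀ i, M i), BDec (diagMap G) y H := by
  classical
  choose v hv using fun i => (h i).2.2.2
  refine ⟨fun i => Pi.single i (v i), fun i => (h i).1, fun i => ?_, ?_, fun z => ?_⟩
  · refine funext fun j => ?_
    rw [aeval_diagMap, diagMap_apply]
    rcases eq_or_ne j i with rfl | hji
    · rw [(h j).2.2.1]; rfl
    · rw [Pi.single_eq_of_ne hji, map_zero]; rfl
  · rw [Module.finrank_pi_fintype]
    exact Finset.sum_congr rfl fun i _ => (h i).2.1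
  · choose p hp using fun i => hv i (z i)
    refine ⟨p, funext fun j => ?_⟩
    rw [Finset.sum_apply, Finset.sum_eq_single j (fun i _ hij => ?_) (fun h => absurd (Finset.mem_univ _) h),
      aeval_diagMap, diagMap_apply, Pi.single_eq_same, hp]
    rw [aeval_diagMap, diagMap_apply, Pi.single_eq_of_ne (Ne.symm hij), map_zero]

end pimap

/-- A cyclic map stays cyclic in another space. -/
theorem cyc_conj {W : Type u} [AddCommGroup W] [Module F W] [FiniteDimensional F W] {f : End F V} {P : F[X]}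
    (h : Cyc f P) (e : V ≃ₗ[F] W) : Cyc (e.conjAlgEquiv F f) P := by
  obtain ⟨v, hv⟩ := h.2.2.2
  refine ⟨h.1, h.2.1.trans e.finrank_eq, by rw [aeval_algHom_apply, h.2.2.1, map_zero], e v, fun w => ?_⟩
  obtain ⟨p, hp⟩ := hv (e.symm w)
  exact ⟨p, by rw [aeval_algHom_apply]; simp [LinearEquiv.conjAlgEquiv, hp]⟩

/-- One block in the shape lower, diagonal, upper, or all head. -/
theorem exists_head_block {ι : Type} [Fintype ι] {S : End F V} {x : ι → V} {P : ι → F[X]} (hb : BDec S x P)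
    {R₂ H : F[X]} (i : ι)
    (h2 : H = P i ∨ (H.Monic ∧ 1 ≤ H.natDegree ∧ ∃ Q : F[X], Q.Monic ∧ 1 ≤ Q.natDegree ∧
      H.natDegree + Q.natDegree = (P i).natDegree ∧ H.coeff 0 * Q.coeff 0 = (P i).coeff 0 ∧ (P i).coeff 0 ≠ 0 ∧
      ∀ (W : Type u) [AddCommGroup W] [Module F W] [FiniteDimensional F W] (G : End F W), Cyc G Q → Fac R₂ G)) :
    ∃ (m : ℕ) (f : ((Fin H.natDegree → F) × (Fin m → F)) →ₗ[F] V) (G₁ : End F (Fin H.natDegree → F))
      (G₂ : End F (Fin m → F)) (C : (Fin H.natDegree → F) →ₗ[F] (Fin m → F))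
      (B : (Fin m → F) →ₗ[F] (Fin H.natDegree → F)),
      H.natDegree + m = (P i).natDegree ∧ Cyc G₁ H ∧ Fac R₂ G₂ ∧
      (∀ q : F[X], ∃ a, f a = aeval S q (x i)) ∧
      ∀ a, S (f a) = f ((Lb C * LinearMap.prodMap G₁ G₂ * Ub B) a) := by
  classical
  obtain ⟨-, y, hy⟩ := hb.split (· = i)
  have hcy : Cyc (S.restrict (orb_inv S x (· = i))) (P i) := by
    refine cyc_mk (hb.monic _) (v := y ⟨i, rfl⟩)
      (by have := hy.sum; rwa [Fintype.sum_subsingleton _ (⟨i, rfl⟩ : {j // j = i})] at this)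
      (fun z => ?_) (hy.kill ⟨i, rfl⟩)
    obtain ⟨r, hr⟩ := hy.span z
    exact ⟨r ⟨i, rfl⟩, by rw [hr, Fintype.sum_subsingleton _ (⟨i, rfl⟩ : {j // j = i})]⟩
  have hmem : ∀ q : F[X], aeval S q (x i) ∈ orb S x (· = i) := fun q => Submodule.subset_span ⟨i, rfl, q, rfl⟩
  rcases h2 with rfl | ⟨hm, ha, Q, hQm, hQ, hd, hc, h0, hF⟩
  · let e : orb S x (· = i) ≃ₗ[F] (Fin (P i).natDegree → F) :=
      LinearEquiv.ofFinrankEq _ _ (by rw [finrank_fin_fun, hcy.2.1])
    refine ⟨0, (orb S x (· = i)).subtype ∘ₗ (e.symm : (Fin (P i).natDegree → F) →ₗ[F] orb S x (· = i)) ∘ₗ LinearMap.fst F _ _,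
      e.conjAlgEquiv F (S.restrict (orb_inv S x (· = i))), 1, 0, 0, Nat.add_zero _, cyc_conj hcy e,
      fac_of_finrank_zero _ _ (finrank_fin_fun F), fun q => ⟨(e ⟨_, hmem q⟩, 0), by simp⟩, fun a => ?_⟩
    rw [Lb_zero, Ub_zero, one_mul, mul_one]
    simp [LinearEquiv.conjAlgEquiv]
  · obtain ⟨e, G₁, G₂, C, B, hG1, hG2, he⟩ := exists_split_block hcy hm hQm ha hQ hd hc h0
    refine ⟨Q.natDegree, (orb S x (· = i)).subtype ∘ₗ (e : _ →ₗ[F] orb S x (· = i)), G₁, G₂, C, B, hd, hG1, hF _ G₂ hG2,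
      fun q => ⟨e.symm ⟨_, hmem q⟩, by simp⟩, fun a => congrArg Subtype.val (he a)⟩

theorem fac_of_heads {ι : Type} [Fintype ι] {S : End F V} {x : ι → V} {P : ι → F[X]} (hb : BDec S x P)
    {R₁ R₂ : F[X]} (hco : IsCoprime R₁ R₂) {H : ι → F[X]}
    (h1 : FacM.{u} R₁ ((Finset.univ : Finset ι).val.map H))
    (h2 : ∀ i, H i = P i ∨ ((H i).Monic ∧ 1 ≤ (H i).natDegree ∧ ∃ Q : F[X], Q.Monic ∧ 1 ≤ Q.natDegree ∧
      (H i).natDegree + Q.natDegree = (P i).natDegree ∧ (H i).coeff 0 * Q.coeff 0 = (P i).coeff 0 ∧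
      (P i).coeff 0 ≠ 0 ∧
      ∀ (W : Type u) [AddCommGroup W] [Module F W] [FiniteDimensional F W] (G : End F W), Cyc G Q → Fac R₂ G)) :
    Fac (R₁ * R₂) S := by
  classical
  choose m f G₁ G₂ C B hdim hG1 hG2 hcov he using fun i => exists_head_block hb i (h2 i)
  let Φ : ((∀ i, Fin (H i).natDegree → F) × (∀ i, Fin (m i) → F)) →ₗ[F] V :=
    ∑ i, f i ∘ₗ (LinearMap.proj i).prodMap (LinearMap.proj i)
  have hΦ : ∀ a, Φ a = ∑ i, f i (a.1 i, a.2 i) := fun a => by simp [Φ]
  have hsurj : Function.Surjective Φ := fun z => by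
    obtain ⟨p, rfl⟩ := hb.span z
    choose a ha using fun i => hcov i (p i)
    exact ⟨(fun i => (a i).1, fun i => (a i).2), (hΦ _).trans (Finset.sum_congr rfl fun i _ => ha i)⟩
  have hfin : finrank F ((∀ i, Fin (H i).natDegree → F) × (∀ i, Fin (m i) → F)) = finrank F V := by
    rw [finrank_prod, Module.finrank_pi_fintype, Module.finrank_pi_fintype, ← Finset.sum_add_distrib, ← hb.sum]
    exact Finset.sum_congr rfl fun i _ => by rw [finrank_fin_fun, finrank_fin_fun, hdim i]
  let e := LinearEquiv.ofBijective Φ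
    ⟨(LinearMap.injective_iff_surjective_of_finrank_eq_finrank hfin).2 hsurj, hsurj⟩
  let Cm : (∀ i, Fin (H i).natDegree → F) →ₗ[F] (∀ i, Fin (m i) → F) := LinearMap.pi fun i => C i ∘ₗ LinearMap.proj i
  let Bm : (∀ i, Fin (m i) → F) →ₗ[F] (∀ i, Fin (H i).natDegree → F) := LinearMap.pi fun i => B i ∘ₗ LinearMap.proj i
  obtain ⟨y, hy⟩ := bdec_diag hG1
  have key := (Fac.glue hco (h1 ι H rfl _ _ y hy) (Fac.diag hG2) Cm Bm).conj e
  have hS : S = (e : _ →ₗ[F] V) ∘ₗ (Lb Cm * LinearMap.prodMap (diagMap G₁) (diagMap G₂) * Ub Bm) ∘ₗ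
      (e.symm : V →ₗ[F] _) := by
    refine LinearMap.ext fun z => ?_
    obtain ⟨a, rfl⟩ := e.surjective z
    simp only [LinearMap.comp_apply, LinearEquiv.coe_coe, LinearEquiv.symm_apply_apply]
    show S (Φ a) = Φ _
    rw [hΦ, hΦ, map_sum]
    exact Finset.sum_congr rfl fun i _ => (he i _).trans rfl
  rw [hS]
  exact key

end CfsgLib.OreLevi.Four
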