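import Cfsg.Agent.Lib.OreLevi.FactorFourCore

/-!
The large head: over the field with four elements a cyclic map of degree `m ≥ 4` whose polynomial belongs to a
third power of a norm-one generator factors through the multiplication by that generator.
-/

set_option autoImplicit false
set_option linter.unusedSectionVars false

namespace CfsgLib.OreLevi.Four

open Polynomial Module CfsgLib.SLComm

universe u

section Field

variable {F : Type u} [Field F] [Finite F] {L : Type*} [Field L] [Finite L] [Algebra F L]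

theorem natDegree_minpoly_eq (hF : Nat.card F = 4) {m : ℕ} (hm : 3 ≤ m) (hL : finrank F L = m) (γ : Lˣ)
    (hγ : orderOf γ = 4 ^ m - 1) {x : L} {k : ℕ} (hk1 : 0 < k) (hk : k ≤ 9)
    (hx : x = ((γ ^ k : Lˣ) : L) ∨ x = (((γ ^ k)⁻¹ : Lˣ) : L)) : (minpoly F x).natDegree = m := by
  haveI : FiniteDimensional F L := Module.Finite.of_finite
  have hint : IsIntegral F x := Algebra.IsIntegral.isIntegral x
  have hd := IntermediateField.adjoin.finrank hint
  set M := IntermediateField.adjoin F {x} with hM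
  have hdvd : finrank F M ∣ m := hL ▸ Dvd.intro _ (Module.finrank_mul_finrank F M L)
  rw [← hd]
  rcases Nat.eq_or_lt_of_le (Nat.le_of_dvd (by omega) hdvd) with h | h
  · exact h
  exfalso
  set d := finrank F M with hdef
  have hd0 : 0 < d := Nat.pos_of_ne_zero fun e => by rw [e, zero_dvd_iff] at hdvd; omega
  have hd2 : 2 * d ≤ m := by
    obtain ⟨c, hc⟩ := hdvd
    rcases Nat.lt_or_ge c 2 with h' | h'
    · interval_cases c <;> omega
    · have : 2 * d ≤ c * d := Nat.mul_le_mul_right d h'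
      rw [mul_comm c] at this
      omega
  haveI := Fintype.ofFinite M
  have hx0 : x ≠ 0 := by rcases hx with rfl | rfl <;> exact Units.ne_zero _
  have hpow : x ^ (4 ^ d) = x := by
    have h1 := congrArg (algebraMap M L) (FiniteField.pow_card (⟨x, IntermediateField.mem_adjoin_simple_self F x⟩ : M))
    rw [map_pow] at h1
    rw [← Nat.card_eq_fintype_card, Module.natCard_eq_pow_finrank (K := F), hF] at h1
    exact h1
  have h4 : 1 ≤ 4 ^ d := Nat.one_le_pow _ _ (by omega)
  have h1 : x ^ (4 ^ d - 1) = 1 := by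
    apply mul_right_cancel₀ hx0
    rw [← pow_succ, Nat.sub_add_cancel h4, hpow, one_mul]
  have h2 : γ ^ (k * (4 ^ d - 1)) = 1 := by
    rw [pow_mul]
    apply Units.ext
    rcases hx with rfl | rfl
    · simpa using h1
    · rw [← Units.val_pow_eq_pow_val, inv_pow, Units.val_eq_one, inv_eq_one] at h1
      rw [h1]
  have h3 := orderOf_dvd_of_pow_eq_one h2
  rw [hγ] at h3
  have hd4 : 4 ≤ 4 ^ d := Nat.le_self_pow (by omega) 4
  have h5 := Nat.le_of_dvd (Nat.mul_pos hk1 (by omega)) h3
  have h6 : k * (4 ^ d - 1) ≤ 9 * (4 ^ d - 1) := Nat.mul_le_mul_right _ hk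
  have h7 : 4 ^ d * 4 ^ d ≤ 4 ^ m := by rw [← pow_add]; exact Nat.pow_le_pow_right (by omega) (by omega)
  have h8 : 64 ≤ 4 ^ m := le_trans (by norm_num) (Nat.pow_le_pow_right (by omega) hm)
  rcases Nat.lt_or_ge d 2 with hd1 | hd1
  · have h9 : 4 ^ d = 4 := by rw [show d = 1 by omega]; rfl
    omega
  · have h9 : 4 ^ 2 ≤ 4 ^ d := Nat.pow_le_pow_right (by omega) hd1
    have h10 : 16 * 4 ^ d ≤ 4 ^ d * 4 ^ d := Nat.mul_le_mul_right _ (by simpa using h9)
    omega

theorem sq_aeval [CharP L 2] (σ : F →+* F) (hσ : ∀ x, σ x = x ^ 2) (y : L) (p : F[X]) :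
    (aeval y p) ^ 2 = aeval (y ^ 2) (p.map σ) := by
  haveI : Fact (Nat.Prime 2) := ⟨Nat.prime_two⟩
  induction p using Polynomial.induction_on' with
  | add p q hp hq => rw [map_add, add_pow_char, hp, hq, Polynomial.map_add, map_add]
  | monomial k c =>
    rw [aeval_monomial, Polynomial.map_monomial, aeval_monomial, hσ, map_pow, mul_pow, ← pow_mul, ← pow_mul,
      mul_comm k 2]

end Field

/-- The head, with the position of the cubic one. -/
theorem exists_tail {F : Type u} [Field F] [Finite F] (hF : Nat.card F = 4) {σ : F →+* F}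
    (hσ : ∀ x, σ x = x ^ 2) {m : ℕ} (hm : 3 ≤ m) :
    ∃ T Q : F[X], T.Monic ∧ Irreducible T ∧ T.natDegree = m ∧ IsCoprime T (T.map σ).reverse ∧ Q.Monic ∧
      Q.natDegree = m ∧ Q.coeff 0 = 1 ∧ (m = 3 → T ∣ X ^ 14 + X ^ 7 + 1) ∧ ∀ (V : Type u) [AddCommGroup V] [Module F V]
        [FiniteDimensional F V] (S : End F V), CfsgLib.SLComm.Cyc S Q → Fac T S := by
  haveI : Fact (Nat.Prime 2) := ⟨Nat.prime_two⟩
  haveI := Fintype.ofFinite F
  haveI : CharP F 2 := by
    obtain ⟨p, hp⟩ := CharP.exists F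
    haveI : Fact p.Prime := ⟨CharP.char_is_prime F p⟩
    obtain ⟨c, -, hc⟩ := FiniteField.card F p
    rw [← Nat.card_eq_fintype_card, hF] at hc
    have h2 : p ∣ 2 ^ 2 := ⟨p ^ ((c : ℕ) - 1), by
      rw [← pow_succ', Nat.sub_add_cancel c.pos]; exact hc⟩
    have := (Nat.prime_dvd_prime_iff_eq Fact.out Nat.prime_two).1 ((Fact.out : p.Prime).dvd_of_dvd_pow h2)
    exact this ▸ hp
  haveI : NeZero m := ⟨by omega⟩
  let L := FiniteField.Extension F 2 m
  haveI := Fintype.ofFinite L
  have hL : finrank F L = m := FiniteField.finrank_extension F 2 m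
  have hcard : Nat.card L = 4 ^ m := by rw [FiniteField.natCard_extension F 2 m, hF]
  haveI : CharP L 2 := charP_of_injective_algebraMap (algebraMap F L).injective 2
  obtain ⟨γ, hγ⟩ := IsCyclic.exists_generator (α := Lˣ)
  have hord : orderOf γ = 4 ^ m - 1 := by
    rw [orderOf_eq_card_of_forall_mem_zpowers hγ, Nat.card_units, hcard]
  have hm256 : 64 ≤ 4 ^ m := le_trans (by norm_num) (Nat.pow_le_pow_right (by omega) hm)
  set r : Lˣ := γ ^ 3 with hr
  set w : Lˣ := (γ ^ 9)⁻¹ with hw
  set T := minpoly F (r : L) with hT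
  set Q := minpoly F (w : L) with hQ
  have hintr : IsIntegral F (r : L) := Algebra.IsIntegral.isIntegral _
  have hintw : IsIntegral F (w : L) := Algebra.IsIntegral.isIntegral _
  have hTd : T.natDegree = m := natDegree_minpoly_eq hF hm hL γ hord (k := 3) (by omega) (by omega) (Or.inl rfl)
  have hQd : Q.natDegree = m := natDegree_minpoly_eq hF hm hL γ hord (k := 9) (by omega) le_rfl (Or.inr rfl)
  have h3 : 3 ∣ 4 ^ m - 1 := by simpa using Nat.sub_dvd_pow_sub_pow 4 1 m
  have hnorm : Algebra.norm F (r : L) = 1 := by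
    apply (algebraMap F L).injective
    rw [FiniteField.algebraMap_norm_eq_pow, map_one, hcard, hF, ← Units.val_pow_eq_pow_val, hr, ← pow_mul,
      show 3 * ((4 ^ m - 1) / (4 - 1)) = orderOf γ by rw [hord]; exact Nat.mul_div_cancel' h3, pow_orderOf_eq_one,
      Units.val_one]
  -- the two maps on the field
  let ML : End F L := Algebra.lmul F L (r : L)
  let MS : End F L := Algebra.lmul F L (w : L)
  let z : End F L := (FiniteField.Extension.frob F 2 m).toLinearMap
  have hzx : ∀ x : L, z x = x ^ 4 := fun x => by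
    show FiniteField.Extension.frob F 2 m x = x ^ 4
    rw [FiniteField.Extension.frob_apply, hF]
  have hrel : MS * z * ML = ML * z := LinearMap.ext fun x => by
    show (w : L) * z ((r : L) * x) = (r : L) * z x
    rw [hzx, hzx, mul_pow, ← mul_assoc, ← Units.val_pow_eq_pow_val, ← Units.val_mul]
    congr 2
    rw [hw, hr, inv_mul_eq_iff_eq_mul, ← pow_mul, ← pow_add]
  have hdetz : LinearMap.det z = 1 := by
    have he : z = (FiniteField.frobeniusAlgHom F L).toLinearMap := LinearMap.ext fun x => by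
      rw [hzx]; simp [← Nat.card_eq_fintype_card, hF]
    have hmin : minpoly F z = X ^ m - 1 := by rw [he, FiniteField.minpoly_frobeniusAlgHom, hL]
    have hdvd : minpoly F z ∣ z.charpoly := LinearMap.minpoly_dvd_charpoly z
    have hcp : z.charpoly = X ^ m - 1 := by
      rw [hmin] at hdvd
      refine eq_of_monic_of_dvd_of_natDegree_le (by simpa using monic_X_pow_sub_C (1 : F) (show m ≠ 0 by omega))
        z.charpoly_monic hdvd ?_
      rw [LinearMap.charpoly_natDegree, hL, ← C_1, natDegree_X_pow_sub_C]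
    rw [LinearMap.det_eq_sign_charpoly_coeff, hcp, hL]
    simp [CharTwo.neg_eq, coeff_X_pow, show ¬ 0 = m by omega]
  have hdetL : LinearMap.det ML = 1 := by
    rw [← hnorm, Algebra.norm_apply]
  have hdetS : LinearMap.det MS = 1 := by
    have := congrArg LinearMap.det hrel
    simp only [map_mul, hdetz, hdetL, mul_one] at this
    exact this
  have hML : aeval ML T = 0 := by
    rw [aeval_algHom_apply, hT, minpoly.aeval, map_zero]
  have hMS : aeval MS Q = 0 := by
    rw [aeval_algHom_apply, hQ, minpoly.aeval, map_zero]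
  -- on coordinates
  let e : L ≃ₗ[F] (Fin m → F) := (Module.finBasisOfFinrankEq F L hL).equivFun
  let Φ : End F L ≃ₐ[F] End F (Fin m → F) := e.conjAlgEquiv F
  have hΦ : ∀ A : End F L, Φ A = (e : L →ₗ[F] (Fin m → F)) ∘ₗ A ∘ₗ (e.symm : (Fin m → F) →ₗ[F] L) :=
    fun A => LinearMap.ext fun v => by simp [Φ, LinearEquiv.conjAlgEquiv]
  have hfac : Fac T (Φ MS) :=
    ⟨Φ ML, Φ z, by rw [← map_mul, ← map_mul, hrel, map_mul], by rw [hΦ, LinearMap.det_conj, hdetz],
      by rw [hΦ, LinearMap.det_conj, hdetL], by rw [aeval_algHom_apply, hML, map_zero]⟩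
  have hcyc : Cyc (Φ MS) Q := by
    have hev : ∀ p : F[X], aeval (Φ MS) p (e 1) = e (aeval (w : L) p) := fun p => by
      rw [aeval_algHom_apply, hΦ, LinearMap.comp_apply, LinearMap.comp_apply, aeval_algHom_apply]
      simp
    refine cyc_mk (minpoly.monic hintw) (by rw [hQd, finrank_fin_fun]) (v := e 1) (fun v => ?_) ?_
    · let φ : Polynomial.degreeLT F m →ₗ[F] L := (aeval (w : L)).toLinearMap.comp (Polynomial.degreeLT F m).subtype
      have hinj : Function.Injective φ := (injective_iff_map_eq_zero _).2 fun p hp => by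
        by_contra hne
        have hne' : (p : F[X]) ≠ 0 := fun h => hne (Subtype.ext h)
        have h1 := Polynomial.natDegree_le_of_dvd (minpoly.dvd F (w : L) hp) hne'
        rw [← hQ, hQd] at h1
        have h2 : (p : F[X]).degree < m := mem_degreeLT.1 p.2
        rw [degree_eq_natDegree hne', Nat.cast_lt] at h2
        change m ≤ (p : F[X]).natDegree at h1
        omega
      haveI : FiniteDimensional F (Polynomial.degreeLT F m) := (Polynomial.degreeLTEquiv F m).symm.finiteDimensional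
      have hsur : Function.Surjective φ := (LinearMap.injective_iff_surjective_of_finrank_eq_finrank
        (by rw [LinearEquiv.finrank_eq (Polynomial.degreeLTEquiv F m), finrank_fin_fun, hL])).1 hinj
      obtain ⟨p, hp⟩ := hsur (e.symm v)
      refine ⟨p, ?_⟩
      rw [hev, show aeval (w : L) (p : F[X]) = e.symm v from hp, LinearEquiv.apply_symm_apply]
    · rw [hev, hQ, minpoly.aeval, map_zero]
  refine ⟨T, Q, minpoly.monic hintr, minpoly.irreducible hintr, hTd, ?_, minpoly.monic hintw, hQd, ?_,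
    fun hm3 => ?_, fun V _ _ _ S hS => ?_⟩
  · refine (minpoly.irreducible hintr).coprime_iff_not_dvd.2 fun hd => ?_
    have h0 : aeval (r : L) (T.map σ).reverse = 0 := by
      obtain ⟨c, hc⟩ := hd
      rw [hc, map_mul, minpoly.aeval, zero_mul]
    have h1 : aeval ((r⁻¹ : Lˣ) : L) (T.map σ) = 0 := by
      haveI : Invertible ((r⁻¹ : Lˣ) : L) := (r⁻¹).invertible
      have hinv : ⅟ ((r⁻¹ : Lˣ) : L) = (r : L) := invOf_eq_right_inv (Units.inv_mul r)
      rw [aeval_def] at h0 ⊢
      rw [← eval₂_reverse_eq_zero_iff (algebraMap F L) ((r⁻¹ : Lˣ) : L) (T.map σ), hinv]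
      exact h0
    set y : L := ((r⁻¹ : Lˣ) : L) ^ (4 ^ m / 2) with hy
    have h2m : 2 ∣ 4 ^ m := dvd_pow (by norm_num) (by omega)
    have hy2 : y ^ 2 = ((r⁻¹ : Lˣ) : L) := by
      rw [hy, ← pow_mul, Nat.div_mul_cancel h2m, ← hcard, Nat.card_eq_fintype_card, FiniteField.pow_card]
    have hyT : aeval y T = 0 := by
      have := sq_aeval σ hσ y T
      rw [hy2, h1] at this
      exact pow_eq_zero_iff (n := 2) (by norm_num) |>.1 this
    haveI : Normal F L := inferInstance
    obtain ⟨g, hg⟩ := minpoly.exists_algEquiv_of_root' (K := F) (L := L) (Algebra.IsAlgebraic.isAlgebraic (r : L)) hyT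
    obtain ⟨i, hi, rfl⟩ := FiniteField.Extension.exists_frob_pow_eq F 2 m g
    rw [FiniteField.Extension.frob_iterate_apply, hF] at hg
    rw [← hg, ← pow_mul, ← Units.val_pow_eq_pow_val, Units.val_inj, eq_inv_iff_mul_eq_one, ← pow_succ, hr, ← pow_mul] at hy2
    have hdiv := orderOf_dvd_of_pow_eq_one hy2
    rw [hord] at hdiv
    obtain ⟨c, hc⟩ := hdiv
    obtain ⟨m', rfl⟩ : ∃ m', m = m' + 1 := ⟨m - 1, by omega⟩
    have h4i : 4 ^ i ≤ 4 ^ m' := Nat.pow_le_pow_right (by omega) (by omega)
    rw [pow_succ] at hc hm256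
    have hc1 : c = 1 := by
      rcases Nat.lt_or_ge c 2 with h' | h'
      · interval_cases c
        · omega
        · rfl
      · exfalso
        have : (4 ^ m' * 4 - 1) * 2 ≤ (4 ^ m' * 4 - 1) * c := Nat.mul_le_mul_left _ h'
        omega
    subst hc1
    rcases i with _ | j
    · omega
    · obtain ⟨n, rfl⟩ : ∃ n, m' = n + 1 := ⟨m' - 1, by omega⟩
      rw [pow_succ, pow_succ] at hc
      omega
  · have := hcyc.det
    rw [hΦ, LinearMap.det_conj, hdetS, CharTwo.neg_eq, one_pow, one_mul] at this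
    exact this.symm
  · refine minpoly.dvd F (r : L) ?_
    have h21 : (r : L) ^ 21 = 1 := by
      rw [← Units.val_pow_eq_pow_val, hr, ← pow_mul, show 3 * 21 = orderOf γ by rw [hord, hm3]; norm_num,
        pow_orderOf_eq_one, Units.val_one]
    have h7 : (r : L) ^ 7 ≠ 1 := by
      rw [← Units.val_pow_eq_pow_val, Ne, Units.val_eq_one, hr, ← pow_mul]
      exact pow_ne_one_of_lt_orderOf (by norm_num) (by rw [hord, hm3]; norm_num)
    simp only [map_add, map_pow, aeval_X, map_one]
    exact (mul_eq_zero.1 (show ((r : L) ^ 7 - 1) * ((r : L) ^ 14 + (r : L) ^ 7 + 1) = 0 by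
      linear_combination h21)).resolve_left (sub_ne_zero.2 h7)
  · obtain ⟨g, hg⟩ := hcyc.similar hS
    have e' : S = (g : (Fin m → F) →ₗ[F] V) ∘ₗ Φ MS ∘ₗ (g.symm : V →ₗ[F] (Fin m → F)) := LinearMap.ext fun x => by
      simp [hg]
    rw [e']
    exact hfac.conj g

/-- The head. -/
theorem exists_tail_four {F : Type u} [Field F] [Finite F] (hF : Nat.card F = 4) {σ : F →+* F}
    (hσ : ∀ x, σ x = x ^ 2) {m : ℕ} (hm : 4 ≤ m) :
    ∃ T Q : F[X], T.Monic ∧ Irreducible T ∧ T.natDegree = m ∧ IsCoprime T (T.map σ).reverse ∧ Q.Monic ∧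
      Q.natDegree = m ∧ Q.coeff 0 = 1 ∧ ∀ (V : Type u) [AddCommGroup V] [Module F V] [FiniteDimensional F V]
        (S : End F V), CfsgLib.SLComm.Cyc S Q → Fac T S := by
  obtain ⟨T, Q, h1, h2, h3, h4, h5, h6, h7, -, h8⟩ := exists_tail hF hσ (m := m) (by omega)
  exact ⟨T, Q, h1, h2, h3, h4, h5, h6, h7, h8⟩

end CfsgLib.OreLevi.Four
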