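import Cfsg.Agent.Lib.OreLevi.FactorFourCheck
import Cfsg.Agent.Lib.OreLevi.FactorFourTail

/-!
The tail polynomials: for every `n` one product of heads of the degrees three to `n`, coprime to the pool and to
its conjugate reverse.
-/

set_option autoImplicit false
set_option linter.unusedSectionVars false

namespace CfsgLib.OreLevi.Four

open Polynomial Module CfsgLib.SLComm

universe u

/-- The sum of two coefficient lists. -/
def addL : List K → List K → List K
  | [], q => q
  | c :: p, [] => c :: p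
  | c :: p, d :: q => (c + d) :: addL p q

/-- The product of two coefficient lists. -/
def mulL : List K → List K → List K
  | [], _ => []
  | c :: p, q => addL (q.map (c * ·)) (0 :: mulL p q)

theorem toPol_cons (c : K) (q : List K) : toPol (c :: q) = C c + X * toPol q := rfl

theorem toPol_addL : ∀ p q : List K, toPol (addL p q) = toPol p + toPol q
  | [], q => by simp [addL, toPol]
  | c :: p, [] => by simp [addL, toPol]
  | c :: p, d :: q => by
    rw [addL, toPol_cons, toPol_cons, toPol_cons, toPol_addL p q, map_add]; ring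

theorem toPol_smulL (c : K) : ∀ q : List K, toPol (q.map (c * ·)) = C c * toPol q
  | [] => by simp [toPol]
  | d :: q => by rw [List.map_cons, toPol_cons, toPol_cons, toPol_smulL c q, map_mul]; ring

theorem toPol_mulL : ∀ p q : List K, toPol (mulL p q) = toPol p * toPol q
  | [], q => by simp [mulL, toPol]
  | c :: p, q => by
    rw [mulL, toPol_addL, toPol_smulL, toPol_cons, toPol_mulL p q, toPol_cons, map_zero]; ring

/-- The product of the pool, as a list. -/
def poolL : List K := ([1, 0, 1, 2, 0, 3, 3, 0, 0, 3, 0, 3, 3, 0, 0, 2, 0, 2, 1, 0, 3, 1, 0, 2, 3, 0, 1, 1] : List ℕ).map K.ofCode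

/-- Its conjugate reverse. -/
def dagL : List K := ([1, 1, 0, 2, 3, 0, 1, 2, 0, 1, 3, 0, 3, 0, 0, 2, 2, 0, 2, 0, 0, 2, 2, 0, 3, 1, 0, 1] : List ℕ).map K.ofCode

/-- `X ^ 14 + X ^ 7 + 1`. -/
def cubL : List K := ([1, 0, 0, 0, 0, 0, 0, 1, 0, 0, 0, 0, 0, 0, 1] : List ℕ).map K.ofCode

theorem toPol_poolL : toPol poolL = poolPol := by
  have h : ∀ l : List (List K), (l.map toPol).prod = toPol (l.foldr mulL [1]) := fun l => by
    induction l with
    | nil => simp [toPol]
    | cons q l ih => rw [List.map_cons, List.prod_cons, ih, List.foldr_cons, toPol_mulL]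
  rw [poolPol, h, show pool.foldr mulL [1] = poolL by decide +kernel]

theorem coprime_of_list {p q u v : List K} (h : addL (mulL u p) (mulL v q) = addL [1] ((addL (mulL u p) (mulL v q)).map fun _ => 0)) :
    IsCoprime (toPol p) (toPol q) := by
  refine ⟨toPol u, toPol v, ?_⟩
  have hz : ∀ l : List K, toPol (l.map fun _ => (0 : K)) = 0 := fun l => by
    induction l with
    | nil => simp [toPol]
    | cons c l ih => rw [List.map_cons, toPol_cons, ih, map_zero, mul_zero, add_zero]
  rw [← toPol_mulL, ← toPol_mulL, ← toPol_addL, h, toPol_addL, hz, add_zero, toPol_cons]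
  simp [toPol]

theorem pool_dag : IsCoprime (toPol poolL) (toPol dagL) :=
  coprime_of_list (u := ([1, 2, 0, 1, 1, 3, 0, 0, 2, 1, 0, 2, 1, 3, 0, 3, 0, 1, 3, 2, 0, 1, 1, 3, 1, 3, 1] : List ℕ).map K.ofCode) (v := ([0, 2, 3, 2, 3, 2, 2, 0, 1, 2, 3, 1, 2, 0, 2, 3, 0, 0, 2, 0, 1, 2, 0, 0, 3, 2, 1] : List ℕ).map K.ofCode) (by decide +kernel)

theorem pool_cub : IsCoprime (toPol poolL) (toPol cubL) :=
  coprime_of_list (u := ([1, 1, 1, 3, 0, 2, 3, 0, 0, 0, 0, 0, 2] : List ℕ).map K.ofCode) (v := ([0, 1, 0, 0, 3, 0, 2, 2, 0, 0, 2, 0, 2, 2, 0, 0, 3, 0, 2, 1, 0, 3, 1, 0, 2, 2] : List ℕ).map K.ofCode) (by decide +kernel)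

theorem dag_cub : IsCoprime (toPol dagL) (toPol cubL) :=
  coprime_of_list (u := ([1, 1, 0, 3, 0, 0, 0, 1, 1, 2, 3, 0, 2, 1] : List ℕ).map K.ofCode) (v := ([0, 0, 1, 1, 2, 3, 0, 0, 2, 0, 1, 3, 1, 3, 0, 1, 3, 2, 1, 2, 0, 0, 3, 2, 1, 2, 1] : List ℕ).map K.ofCode) (by decide +kernel)

theorem toPol_cubL : toPol cubL = X ^ 14 + X ^ 7 + 1 := by
  simp [cubL, K.ofCode, toPol]
  ring

section General

variable {F : Type u} [Field F] (σ : F →+* F)

/-- The conjugate reverse. -/
noncomputable def dag (p : F[X]) : F[X] := (p.map σ).reverse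

theorem dag_mul (p q : F[X]) : dag σ (p * q) = dag σ p * dag σ q := by
  rw [dag, Polynomial.map_mul, reverse_mul_of_domain]; rfl

theorem dag_one : dag σ (1 : F[X]) = 1 := by
  rw [dag, Polynomial.map_one, ← C_1, reverse_C]

theorem dag_prod {ι : Type*} (s : Finset ι) (f : ι → F[X]) : dag σ (∏ i ∈ s, f i) = ∏ i ∈ s, dag σ (f i) := by
  classical
  induction s using Finset.induction_on with
  | empty => simp [dag_one]
  | insert a s ha ih => rw [Finset.prod_insert ha, dag_mul, ih, Finset.prod_insert ha]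

theorem natDegree_dag {p : F[X]} (h : p.coeff 0 ≠ 0) : (dag σ p).natDegree = p.natDegree := by
  have h' : (p.map σ).coeff 0 ≠ 0 := by rw [coeff_map]; exact fun e => h (σ.injective (by rw [e, map_zero]))
  rw [dag, reverse_natDegree, natTrailingDegree_eq_zero.2 (Or.inr h'), Nat.sub_zero, natDegree_map]

theorem dag_dag (hσσ : ∀ x, σ (σ x) = x) {p : F[X]} (h : p.coeff 0 ≠ 0) : dag σ (dag σ p) = p := by
  have hd := natDegree_dag σ h
  have h' : (p.map σ).natDegree = p.natDegree := natDegree_map _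
  ext i
  rw [dag, coeff_reverse, coeff_map, natDegree_map, hd, dag, coeff_reverse, coeff_map, h', revAt_invol, hσσ]

/-- Coprimality to a conjugate reverse is symmetric. -/
theorem coprime_dag_symm (hσσ : ∀ x, σ (σ x) = x) {p q : F[X]} (hp : p.coeff 0 ≠ 0) (hq : q.coeff 0 ≠ 0)
    (h : IsCoprime p (dag σ q)) : IsCoprime q (dag σ p) := by
  rw [← isRelPrime_iff_isCoprime]
  intro d hd1 hd2
  obtain ⟨c, hc⟩ := hd1
  obtain ⟨c', hc'⟩ := hd2
  have hd0 : d.coeff 0 ≠ 0 := fun e => hq (by rw [hc, mul_coeff_zero, e, zero_mul])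
  have hdp : dag σ d ∣ p := ⟨dag σ c', by rw [← dag_mul, ← hc', dag_dag σ hσσ hp]⟩
  have hdq : dag σ d ∣ dag σ q := ⟨dag σ c, by rw [← dag_mul, ← hc]⟩
  have hu := natDegree_eq_zero_of_isUnit (h.isUnit_of_dvd' hdp hdq)
  rw [natDegree_dag σ hd0] at hu
  exact isUnit_iff_degree_eq_zero.2 (by
    rw [degree_eq_natDegree (fun e => hd0 (by simp [e])), hu]; rfl)

theorem coprime_of_natDegree_lt {T : F[X]} (hT : Irreducible T) {q : F[X]} (hq : q ≠ 0)
    (h : q.natDegree < T.natDegree) : IsCoprime T q :=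
  hT.coprime_iff_not_dvd.2 fun hd => by have := natDegree_le_of_dvd hd hq; omega

theorem dag_ne_zero {p : F[X]} (h : p ≠ 0) : dag σ p ≠ 0 := by
  rw [dag, Ne, reverse_eq_zero]
  exact (Polynomial.map_ne_zero_iff σ.injective).2 h

end General

theorem pool_ok : ∀ q ∈ pool, 1 ≤ q.length ∧ q.getD (q.length - 1) 0 = 1 ∧ q.length ≤ 4 ∧ q.getD 0 0 ≠ 0 := by
  decide

/-- The tails. -/
theorem exists_tails {F : Type u} [Field F] [Finite F] (hF : Nat.card F = 4) {σ : F →+* F}
    (hσ : ∀ x, σ x = x ^ 2) (φ : K →+* F) :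
    ∃ R : ℕ → F[X], ∀ n, IsCoprime (poolPol.map φ) (R n) ∧
      IsCoprime (poolPol.map φ * R n) (((poolPol.map φ * R n).map σ).reverse) ∧
      ∀ m, 3 ≤ m → m ≤ n → ∃ Q : F[X], Q.Monic ∧ Q.natDegree = m ∧ Q.coeff 0 = 1 ∧
        ∀ (V : Type u) [AddCommGroup V] [Module F V] [FiniteDimensional F V] (S : End F V),
          CfsgLib.SLComm.Cyc S Q → Fac (R n) S := by
  classical
  haveI := Fintype.ofFinite F
  haveI : Nontrivial K := ⟨0, 1, by decide⟩
  have hσσ : ∀ x, σ (σ x) = x := fun x => by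
    rw [hσ, hσ, ← pow_mul]
    have := FiniteField.pow_card x
    rwa [← Nat.card_eq_fintype_card, hF] at this
  have key : ∀ m : ℕ, ∃ T Q : F[X], T.Monic ∧ (3 ≤ m → Irreducible T ∧ T.natDegree = m ∧ IsCoprime T (dag σ T) ∧
      (m = 3 → T ∣ X ^ 14 + X ^ 7 + 1) ∧ Q.Monic ∧ Q.natDegree = m ∧ Q.coeff 0 = 1 ∧
        ∀ (V : Type u) [AddCommGroup V] [Module F V] [FiniteDimensional F V] (S : End F V),
          CfsgLib.SLComm.Cyc S Q → Fac T S) := fun m => by
    by_cases h : 3 ≤ m
    · obtain ⟨T, Q, h1, h2, h3, h4, h5, h6, h7, h8, h9⟩ := exists_tail hF hσ h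
      exact ⟨T, Q, h1, fun _ => ⟨h2, h3, h4, h8, h5, h6, h7, h9⟩⟩
    · exact ⟨1, 1, monic_one, fun h' => absurd h' h⟩
  choose T Q hTm hT using key
  set A := poolPol.map φ with hA
  set A' := dag σ A with hA'
  -- the pool against its conjugate reverse
  have hAd : A' = (toPol dagL).map φ := by
    have hsq : ∀ a : K, σ (φ a) = φ (a * a) := fun a => by rw [hσ, map_mul, sq]
    have hmon : (toPol poolL).Monic ∧ (toPol poolL).natDegree = poolL.length - 1 :=
      toPol_spec poolL (by decide) (by decide)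
    have hdeg : (A.map σ).natDegree = 27 := by
      rw [hA, ← toPol_poolL, ((hmon.1.map φ).natDegree_map σ), hmon.1.natDegree_map φ, hmon.2]; rfl
    ext i
    rw [hA', dag, coeff_reverse, hdeg, coeff_map, hA, coeff_map, coeff_map, ← toPol_poolL, coeff_toPol, coeff_toPol,
      hsq]
    congr 1
    rcases Nat.lt_or_ge i 28 with hi | hi
    · rw [revAt_le (by omega)]
      revert i; decide
    · rw [revAt_eq_self_of_lt (by omega)]
      simp only [coef]
      rw [List.getD_eq_default _ _ (show poolL.length ≤ i by exact hi),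
        List.getD_eq_default _ _ (show dagL.length ≤ i by exact hi), mul_zero]
  have hAA : IsCoprime A A' := by
    rw [hAd, hA, ← toPol_poolL]; exact pool_dag.map (mapRingHom φ)
  have hcub : (toPol cubL).map φ = X ^ 14 + X ^ 7 + 1 := by rw [toPol_cubL]; simp
  have hAc : ∀ i, 3 ≤ i → IsCoprime (T i) A ∧ IsCoprime (T i) A' := by
    intro i hi
    obtain ⟨hirr, hd, -, h3, -⟩ := hT i hi
    rcases Nat.eq_or_lt_of_le hi with h | h
    · obtain ⟨c, hc⟩ := h3 h.symm
      have hd' : T i ∣ (toPol cubL).map φ := ⟨c, by rw [hcub, hc]⟩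
      refine ⟨?_, ?_⟩
      · have := (pool_cub.map (mapRingHom φ))
        simp only [coe_mapRingHom, toPol_poolL, ← hA] at this
        exact (this.of_isCoprime_of_dvd_right hd').symm
      · have := (dag_cub.map (mapRingHom φ))
        simp only [coe_mapRingHom, ← hAd] at this
        exact (this.of_isCoprime_of_dvd_right hd').symm
    · have hl : ∀ l : List (List K), (∀ q ∈ l, q ∈ pool) →
          IsCoprime (T i) (((l.map toPol).prod).map φ) ∧ IsCoprime (T i) (dag σ (((l.map toPol).prod).map φ)) := by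
        intro l hl
        induction l with
        | nil => simp [dag_one, isCoprime_one_right]
        | cons q l ih =>
          obtain ⟨hq1, hq2, hq3, -⟩ := pool_ok q (hl q List.mem_cons_self)
          obtain ⟨hqm, hqd⟩ := toPol_spec q hq1 hq2
          obtain ⟨h1, h2⟩ := ih fun r hr => hl r (List.mem_cons_of_mem _ hr)
          rw [List.map_cons, List.prod_cons, Polynomial.map_mul, dag_mul]
          have hne : (toPol q).map φ ≠ 0 := (hqm.map φ).ne_zero
          refine ⟨IsCoprime.mul_right (coprime_of_natDegree_lt hirr hne ?_) h1,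
            IsCoprime.mul_right (coprime_of_natDegree_lt hirr (dag_ne_zero σ hne) ?_) h2⟩
          · rw [hqm.natDegree_map, hqd, hd]; omega
          · refine lt_of_le_of_lt ((reverse_natDegree_le _).trans natDegree_map_le) ?_
            rw [hqm.natDegree_map, hqd, hd]; omega
      exact hl pool fun q hq => hq
  have hT0 : ∀ i, 3 ≤ i → (T i).coeff 0 ≠ 0 := by
    intro i hi e
    obtain ⟨hirr, hd, -⟩ := hT i hi
    have := natDegree_eq_of_degree_eq (degree_eq_degree_of_associated
      ((irreducible_X.associated_of_dvd hirr (X_dvd_iff.2 e))))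
    rw [natDegree_X, hd] at this
    omega
  have hA0 : A.coeff 0 ≠ 0 := by
    rw [hA, coeff_map, ← toPol_poolL, coeff_toPol, show coef poolL 0 = 1 by decide, map_one]
    exact one_ne_zero
  have hTd : ∀ i j, 3 ≤ i → 3 ≤ j → IsCoprime (T i) (dag σ (T j)) := by
    intro i j hi hj
    have hlt : ∀ i j, 3 ≤ i → 3 ≤ j → j < i → IsCoprime (T i) (dag σ (T j)) := fun i j hi hj h => by
      refine coprime_of_natDegree_lt (hT i hi).1 (dag_ne_zero σ (hTm j).ne_zero) ?_
      rw [natDegree_dag σ (hT0 j hj), (hT j hj).2.1, (hT i hi).2.1]; exact h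
    rcases Nat.lt_trichotomy i j with h | rfl | h
    · exact coprime_dag_symm σ hσσ (hT0 j hj) (hT0 i hi) (hlt j i hj hi h)
    · exact (hT i hi).2.2.1
    · exact hlt i j hi hj h
  refine ⟨fun n => ∏ i ∈ Finset.Icc 3 n, T i, fun n => ⟨?_, ?_, fun m hm hmn => ?_⟩⟩
  · exact IsCoprime.prod_right fun i hi => (hAc i (Finset.mem_Icc.1 hi).1).1.symm
  · change IsCoprime _ (dag σ _)
    rw [dag_mul, dag_prod]
    refine IsCoprime.mul_left (IsCoprime.mul_right hAA (IsCoprime.prod_right fun i hi => ?_))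
      (IsCoprime.mul_right (IsCoprime.prod_left fun i hi => (hAc i (Finset.mem_Icc.1 hi).1).2)
        (IsCoprime.prod_left fun i hi => IsCoprime.prod_right fun j hj =>
          hTd i j (Finset.mem_Icc.1 hi).1 (Finset.mem_Icc.1 hj).1))
    exact coprime_dag_symm σ hσσ (hT0 i (Finset.mem_Icc.1 hi).1) hA0 (hAc i (Finset.mem_Icc.1 hi).1).2
  · obtain ⟨-, -, -, -, h1, h2, h3, h4⟩ := hT m hm
    refine ⟨Q m, h1, h2, h3, fun V _ _ _ S hS => (h4 V S hS).mono ?_⟩
    exact Finset.dvd_prod_of_mem T (Finset.mem_Icc.2 ⟨hm, hmn⟩)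

end CfsgLib.OreLevi.Four
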