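import Cfsg.Agent.Lib.OreLevi.FactorFourClassify
import Cfsg.Agent.Lib.OreLevi.FactorFourHeads
import Cfsg.Agent.Lib.OreLevi.FactorFourBlocks
import Cfsg.Agent.Lib.OreLevi.FactorFourPoly

/-!
Over the field with four elements every admissible matrix of determinant one is `s z s⁻¹ z⁻¹`
with `s` killed by a polynomial prime to its twisted reciprocal.
-/

set_option autoImplicit false
set_option linter.unusedSectionVars false

namespace CfsgLib.OreLevi

open Polynomial Module CfsgLib.SLComm CfsgLib.OreLevi.Four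

universe u

variable {F : Type u} [Field F] [Finite F]

theorem exists_model_hom (hF : Nat.card F = 4) : ∃ φ : K →+* F, Function.Bijective φ := by
  haveI := Fintype.ofFinite F
  classical
  have hcard : Fintype.card F = 4 := by rw [← Nat.card_eq_fintype_card, hF]
  have h2 : (2 : F) = 0 := by
    have h4 : ((4 : ℕ) : F) = 0 := by rw [← hcard]; exact Nat.cast_card_eq_zero F
    have : (2 : F) * 2 = 0 := by rw [← h4]; norm_num
    exact mul_self_eq_zero.1 this
  obtain ⟨o, -, ho⟩ : ∃ o ∈ (Finset.univ : Finset F), o ∉ ({0, 1} : Finset F) :=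
    Finset.exists_mem_notMem_of_card_lt_card (by
      have := Finset.card_le_two (a := (0 : F)) (b := 1)
      rw [Finset.card_univ, hcard]
      omega)
  simp only [Finset.mem_insert, Finset.mem_singleton, not_or] at ho
  have h3 : o ^ 3 = 1 := by
    have := FiniteField.pow_card_sub_one_eq_one o ho.1
    rwa [hcard] at this
  have hsq : o ^ 2 = o + 1 := by
    have h : (o - 1) * (o ^ 2 + o + 1) = 0 := by linear_combination h3
    have := (mul_eq_zero.1 h).resolve_left (sub_ne_zero.2 ho.2)
    linear_combination this - (o + 1) * h2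
  refine ⟨K.toF o hsq h2, (Fintype.bijective_iff_injective_and_card _).2 ⟨?_, by rw [hcard]; rfl⟩⟩
  refine (injective_iff_map_eq_zero _).2 fun a ha => ?_
  obtain ⟨l, h⟩ := a
  cases l <;> cases h <;>
    simp only [K.toF, RingHom.coe_mk, MonoidHom.coe_mk, OneHom.coe_mk, if_true, if_false, Bool.false_eq_true,
      zero_add, add_zero] at ha
  · rfl
  · exact absurd ha ho.1
  · exact absurd ha one_ne_zero
  · exact absurd (show o = 1 by linear_combination ha - h2) ho.2

/-- The factorisation over the field with four elements. -/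
theorem exists_comm_factor_four (hF : Nat.card F = 4) {σ : F →+* F} (hσ : ∀ x, σ x = x ^ 2) {n : ℕ}
    (_hn : 2 ≤ n) {A : Matrix (Fin n) (Fin n) F} (hdet : A.det = 1) (hA : ∀ e : F, A ≠ e • 1)
    (hT : 2 ≤ (A - 1).rank) :
    ∃ (s z : GL (Fin n) F) (P : F[X]), ((s * z * s⁻¹ * z⁻¹ : GL (Fin n) F) : Matrix (Fin n) (Fin n) F) = A ∧
      Matrix.det (s : Matrix (Fin n) (Fin n) F) = 1 ∧ Matrix.det (z : Matrix (Fin n) (Fin n) F) = 1 ∧
        aeval (s : Matrix (Fin n) (Fin n) F) P = 0 ∧ IsCoprime P (P.map σ).reverse := by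
  classical
  obtain ⟨φ, hφ⟩ := exists_model_hom hF
  obtain ⟨R, hR⟩ := exists_tails hF hσ φ
  obtain ⟨hco, hgood, htail⟩ := hR n
  let Φ : Matrix (Fin n) (Fin n) F ≃ₐ[F] End F (Fin n → F) := Matrix.toLinAlgEquiv'
  have hdetΦ : ∀ M, LinearMap.det (Φ M) = M.det := fun M => LinearMap.det_toLin' M
  have hns : ∀ e : F, Φ A ≠ e • 1 := fun e he => hA e (Φ.injective (by rw [map_smul, map_one, he]))
  have hrank : 2 ≤ finrank F (LinearMap.range (Φ A - 1)) := by
    rw [← map_one Φ, ← map_sub]
    exact hT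
  obtain ⟨ι, hι, P, x, hb, hatom, hterm⟩ := exists_terminal (Φ A)
  obtain ⟨H, hH, hheads⟩ := exists_heads hφ ((hdetΦ A).trans hdet) hns hrank hb hatom hterm
  have h0 := coeff_zero_ne_of_det hb ((hdetΦ A).trans hdet)
  have hle : ∀ i, (P i).natDegree ≤ n := fun i => by
    have h := hb.sum
    rw [finrank_fin_fun] at h
    rw [← h]
    exact Finset.single_le_sum (f := fun i => (P i).natDegree) (fun _ _ => Nat.zero_le _) (Finset.mem_univ i)
  have hfac := fac_of_heads hb hco hH fun i => (hheads i).imp id fun ⟨hm, h1, h3, hc⟩ => by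
    obtain ⟨Q, hQm, hQd, hQ0, hQf⟩ :=
      htail ((P i).natDegree - (H i).natDegree) (by omega) (by have := hle i; omega)
    exact ⟨hm, h1, Q, hQm, by omega, by omega, by rw [hQ0, mul_one, hc], h0 i, hQf⟩
  obtain ⟨L, z, he, hz, hL, hker⟩ := hfac
  obtain ⟨M, rfl⟩ := Φ.surjective L
  obtain ⟨Z, rfl⟩ := Φ.surjective z
  rw [hdetΦ] at hz hL
  rw [← map_mul, ← map_mul, ← map_mul] at he
  have he' := Φ.injective he
  rw [show aeval (Φ M) (poolPol.map φ * R n) = Φ (aeval M (poolPol.map φ * R n)) from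
    aeval_algHom_apply Φ M _, map_eq_zero_iff Φ Φ.injective] at hker
  let s : GL (Fin n) F := Matrix.GeneralLinearGroup.mkOfDetNeZero M (by rw [hL]; exact one_ne_zero)
  let t : GL (Fin n) F := Matrix.GeneralLinearGroup.mkOfDetNeZero Z (by rw [hz]; exact one_ne_zero)
  let a : GL (Fin n) F := Matrix.GeneralLinearGroup.mkOfDetNeZero A (by rw [hdet]; exact one_ne_zero)
  have hs : (s : Matrix (Fin n) (Fin n) F) = M := rfl
  have ht : (t : Matrix (Fin n) (Fin n) F) = Z := rfl
  have hag : (a : Matrix (Fin n) (Fin n) F) = A := rfl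
  have hg : a * t * s = s * t := Units.ext (by simpa [hs, ht, hag] using he')
  have hgoal : s * t * s⁻¹ * t⁻¹ = a := by rw [← hg]; group
  exact ⟨s, t, poolPol.map φ * R n, by rw [hgoal]; rfl, hL, hz, hker, hgood⟩

end CfsgLib.OreLevi
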