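import Cfsg.Agent.Lib.OreLevi.FactorFourCore

/-!
Checkable factorisations over the field with four elements: rows packed in natural numbers.
-/

set_option autoImplicit false
set_option linter.unusedSectionVars false

namespace CfsgLib.OreLevi.Four

open Polynomial Module CfsgLib.SLComm

universe u

/-- The field with four elements as `l + h ω`. -/
structure K where
  /-- The coefficient of one. -/
  l : Bool
  /-- The coefficient of `ω`. -/
  h : Bool
deriving DecidableEq

namespace K

instance : Fintype K :=
  ⟨⟨(([⟨false, false⟩, ⟨true, false⟩, ⟨false, true⟩, ⟨true, true⟩] : List K) : Multiset K), by decide⟩,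
    by rintro ⟨a, b⟩; revert a b; decide⟩

instance : Add K := ⟨fun a b => ⟨xor a.l b.l, xor a.h b.h⟩⟩
instance : Mul K := ⟨fun a b => ⟨xor (a.l && b.l) (a.h && b.h),
  xor (xor (a.l && b.h) (a.h && b.l)) (a.h && b.h)⟩⟩
instance : Zero K := ⟨⟨false, false⟩⟩
instance : One K := ⟨⟨true, false⟩⟩
instance : Neg K := ⟨id⟩

instance : CommRing K where
  add_assoc := by decide +kernel
  zero_add := by decide +kernel
  add_zero := by decide +kernel
  add_comm := by decide +kernel
  neg_add_cancel := by decide +kernel
  mul_assoc := by decide +kernel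
  mul_comm := by decide +kernel
  left_distrib := by decide +kernel
  right_distrib := by decide +kernel
  zero_mul := by decide +kernel
  mul_zero := by decide +kernel
  one_mul := by decide +kernel
  mul_one := by decide +kernel
  nsmul := nsmulRec
  zsmul := zsmulRec

/-- `ω`. -/
def w : K := ⟨false, true⟩

/-- `ω + 1`. -/
def w' : K := ⟨true, true⟩

/-- An element from its code. -/
def ofCode : ℕ → K
  | 1 => 1
  | 2 => w
  | 3 => w'
  | _ => 0

variable {F : Type u} [Field F]

/-- The map belonging to a root of `X² + X + 1`. -/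
def toF (o : F) (ho : o ^ 2 = o + 1) (h2 : (2 : F) = 0) : K →+* F where
  toFun a := (if a.l then 1 else 0) + (if a.h then o else 0)
  map_one' := by simp [show (1 : K) = ⟨true, false⟩ from rfl]
  map_zero' := by simp [show (0 : K) = ⟨false, false⟩ from rfl]
  map_mul' := by
    rintro ⟨a, b⟩ ⟨c, d⟩
    rw [show (⟨a, b⟩ * ⟨c, d⟩ : K) = ⟨xor (a && c) (b && d), xor (xor (a && d) (b && c)) (b && d)⟩ from rfl]
    cases a <;> cases b <;> cases c <;> cases d <;> simp <;>
      first
        | ring1
        | linear_combination ho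
        | linear_combination -ho
        | linear_combination ho + h2
        | linear_combination -ho + h2
        | linear_combination h2
        | linear_combination o * h2
        | linear_combination -ho - o * h2
        | linear_combination -ho + o * h2
        | linear_combination -ho - h2
        | linear_combination -ho - (o + 1) * h2
  map_add' := by
    rintro ⟨a, b⟩ ⟨c, d⟩
    rw [show (⟨a, b⟩ + ⟨c, d⟩ : K) = ⟨xor a c, xor b d⟩ from rfl]
    cases a <;> cases b <;> cases c <;> cases d <;> simp <;>
      first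
        | ring1
        | linear_combination -h2
        | linear_combination -o * h2
        | linear_combination (-1 - o) * h2

theorem toF_w (o : F) (ho : o ^ 2 = o + 1) (h2 : (2 : F) = 0) : toF o ho h2 w = o := by
  simp [toF, w]

end K

/-- The even bits. -/
def mask : ℕ := 0x55555555

/-- An entry of a packed row. -/
def ent (x j : ℕ) : K := ⟨x.testBit (2 * j), x.testBit (2 * j + 1)⟩

/-- Multiplication of a row by `ω`. -/
def wmul (x : ℕ) : ℕ := ((x >>> 1) &&& mask) ||| (((x &&& mask) ^^^ ((x >>> 1) &&& mask)) <<< 1)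

/-- Multiplication of a row by a scalar. -/
def smulRow (c : K) (x : ℕ) : ℕ := (if c.l then x else 0) ^^^ (if c.h then wmul x else 0)

theorem ent_xor (x y j : ℕ) : ent (x ^^^ y) j = ent x j + ent y j := by
  simp only [ent, Nat.testBit_xor]
  rfl

theorem ent_zero (j : ℕ) : ent 0 j = 0 := by
  simp [ent]
  rfl

theorem mask_even : ∀ j < 16, mask.testBit (2 * j) = true := by decide

theorem mask_odd : ∀ j < 17, mask.testBit (2 * j + 1) = false := by decide

theorem ent_wmul (x j : ℕ) (hj : j < 16) : ent (wmul x) j = K.w * ent x j := by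
  rcases j with _ | i
  · simp only [ent, wmul, Nat.testBit_or, Nat.testBit_shiftLeft, Nat.testBit_xor, Nat.testBit_and,
      Nat.testBit_shiftRight]
    simp [show mask.testBit 0 = true from rfl, show mask.testBit 1 = false from rfl, -Nat.testBit_zero]
    cases x.testBit 0 <;> cases x.testBit 1 <;> decide
  · simp only [ent, wmul, Nat.testBit_or, Nat.testBit_shiftLeft, Nat.testBit_xor, Nat.testBit_and,
      Nat.testBit_shiftRight]
    rw [show 2 * (i + 1) - 1 = 2 * i + 1 by omega, mask_even (i + 1) hj, mask_odd (i + 1) (by omega),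
      mask_odd i (by omega), show 2 * (i + 1) + 1 - 1 = 2 * (i + 1) by omega, mask_even (i + 1) hj,
      show 1 + 2 * (i + 1) = 2 * (i + 1) + 1 by omega]
    simp [show 1 ≤ 2 * (i + 1) + 1 by omega]
    cases x.testBit (2 * (i + 1)) <;> cases x.testBit (2 * (i + 1) + 1) <;> decide

theorem ent_smulRow (c : K) (x j : ℕ) (hj : j < 16) : ent (smulRow c x) j = c * ent x j := by
  rw [smulRow, ent_xor]
  obtain ⟨a, b⟩ := c
  cases a <;> cases b <;> simp [ent_zero, ent_wmul x j hj]
  all_goals generalize ent x j = e <;> revert e <;> decide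

/-- The matrix of a list of packed rows. -/
def toM (n : ℕ) (R : List ℕ) : Matrix (Fin n) (Fin n) K := fun i j => ent (R.getD i 0) j

/-- A combination of rows. -/
def comb (B : List ℕ) (x : ℕ) (ls : List ℕ) : ℕ :=
  ls.foldr (fun l acc => smulRow (ent x l) (B.getD l 0) ^^^ acc) 0

/-- The product. -/
def mulP (n : ℕ) (A B : List ℕ) : List ℕ :=
  (List.range n).map fun i => comb B (A.getD i 0) (List.range n)

/-- The sum. -/
def addP (n : ℕ) (A B : List ℕ) : List ℕ := (List.range n).map fun i => A.getD i 0 ^^^ B.getD i 0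

/-- A scalar matrix. -/
def scalP (n : ℕ) (c : K) : List ℕ := (List.range n).map fun i => smulRow c (1 <<< (2 * i))

theorem toM_range (n : ℕ) (f : ℕ → ℕ) (i j : Fin n) :
    toM n ((List.range n).map f) i j = ent (f i) j := by
  rw [toM, List.getD_eq_getElem _ _ (by simp), List.getElem_map, List.getElem_range]

theorem ent_comb (B : List ℕ) (x j : ℕ) (hj : j < 16) : ∀ ls : List ℕ,
    ent (comb B x ls) j = (ls.map fun l => ent x l * ent (B.getD l 0) j).sum
  | [] => ent_zero j
  | l :: ls => by
    rw [List.map_cons, List.sum_cons, ← ent_comb B x j hj ls, ← ent_smulRow _ _ _ hj, ← ent_xor]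
    rfl

theorem toM_mulP {n : ℕ} (hn : n ≤ 16) (A B : List ℕ) : toM n (mulP n A B) = toM n A * toM n B := by
  ext i j
  rw [mulP, toM_range, ent_comb _ _ _ (by omega), Matrix.mul_apply]
  rw [show (∑ l : Fin n, toM n A i l * toM n B l j) =
    ∑ l : Fin n, (fun l : ℕ => ent (A.getD i 0) l * ent (B.getD l 0) j) l from rfl,
    Fin.sum_univ_eq_sum_range fun l : ℕ => ent (A.getD i 0) l * ent (B.getD l 0) j]
  rfl

theorem toM_addP (n : ℕ) (A B : List ℕ) : toM n (addP n A B) = toM n A + toM n B := by
  ext i j
  rw [addP, toM_range, ent_xor]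
  rfl

theorem ent_one : ∀ i < 16, ∀ j < 16, ent (1 <<< (2 * i)) j = if i = j then 1 else 0 := by decide +kernel

theorem toM_scalP {n : ℕ} (hn : n ≤ 16) (c : K) :
    toM n (scalP n c) = algebraMap K (Matrix (Fin n) (Fin n) K) c := by
  ext i j
  rw [scalP, toM_range, ent_smulRow _ _ _ (by omega), ent_one _ (by omega) _ (by omega),
    Matrix.algebraMap_matrix_apply]
  by_cases h : i = j
  · simp [h]
  · simp [h, Fin.val_ne_of_ne h]

/-- A polynomial from its coefficients. -/
noncomputable def toPol (q : List K) : K[X] := q.foldr (fun c p => C c + X * p) 0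

/-- Evaluation. -/
def evP (n : ℕ) (s : List ℕ) (q : List K) : List ℕ :=
  q.foldr (fun c acc => addP n (scalP n c) (mulP n s acc)) (scalP n 0)

theorem toM_evP {n : ℕ} (hn : n ≤ 16) (s : List ℕ) : ∀ q : List K, toM n (evP n s q) = aeval (toM n s) (toPol q)
  | [] => by simpa [evP, toPol] using toM_scalP hn 0
  | c :: q => by
    show toM n (addP n (scalP n c) (mulP n s (evP n s q))) = aeval (toM n s) (C c + X * toPol q)
    rw [toM_addP, toM_scalP hn, toM_mulP hn, toM_evP hn s q, map_add, map_mul, aeval_C, aeval_X]

/-- Upper unitriangular. -/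
def isUnitUpper (n : ℕ) (U : List ℕ) : Bool :=
  (List.range n).all fun i =>
    ent (U.getD i 0) i == 1 && (List.range n).all fun j => !(decide (j < i)) || ent (U.getD i 0) j == 0

/-- Lower triangular with diagonal product one. -/
def isLowerOne (n : ℕ) (L : List ℕ) : Bool :=
  ((List.range n).map fun i => ent (L.getD i 0) i).prod == 1 &&
    (List.range n).all fun i => (List.range n).all fun j => !(decide (i < j)) || ent (L.getD i 0) j == 0

theorem det_eq_one_of_check {n : ℕ} (hn : n ≤ 16) {s U : List ℕ} (hU : isUnitUpper n U = true)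
    (hL : isLowerOne n (mulP n s U) = true) : (toM n s).det = 1 := by
  simp only [isUnitUpper, List.all_eq_true, List.mem_range, Bool.and_eq_true, beq_iff_eq, Bool.or_eq_true,
    Bool.not_eq_true', decide_eq_false_iff_not] at hU
  simp only [isLowerOne, List.all_eq_true, List.mem_range, Bool.and_eq_true, beq_iff_eq, Bool.or_eq_true,
    Bool.not_eq_true', decide_eq_false_iff_not] at hL
  have h1 : (toM n U).det = 1 := by
    rw [Matrix.det_of_isUpperTriangular (fun i j hij => ?_)]
    · exact Finset.prod_eq_one fun i _ => (hU i i.2).1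
    · exact ((hU i i.2).2 j j.2).resolve_left fun h => h (by exact hij)
  have h2 : (toM n (mulP n s U)).det = 1 := by
    rw [Matrix.det_of_isLowerTriangular (toM n (mulP n s U)) (fun i j hij => ?_)]
    · rw [← hL.1]
      show (∏ i : Fin n, (fun i : ℕ => ent ((mulP n s U).getD i 0) i) i) = _
      rw [Fin.prod_univ_eq_prod_range fun i : ℕ => ent ((mulP n s U).getD i 0) i]
      rfl
    · exact (hL.2 i i.2 j j.2).resolve_left fun h => h (by exact hij)
  rw [toM_mulP hn, Matrix.det_mul, h1, mul_one] at h2
  exact h2

/-- The pool of polynomials of the first factor. -/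
def pool : List (List K) :=
  ([[1, 2, 1], [2, 1, 1], [3, 3, 1], [1, 0, 1, 1], [2, 1, 1, 1], [2, 2, 3, 1], [2, 3, 2, 1], [3, 1, 1, 1],
    [3, 2, 3, 1], [3, 3, 2, 1]] : List (List ℕ)).map (List.map K.ofCode)

/-- The product of the pool. -/
noncomputable def poolPol : K[X] := (pool.map toPol).prod

/-- The selected part of the pool. -/
def sel (m : List Bool) : List (List K) := ((m.zip pool).filter fun p => p.1).map Prod.snd

/-- A certificate: `s`, `z`, their triangularising matrices and the selection. -/
structure Cert where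
  /-- The size. -/
  n : ℕ
  /-- The first factor. -/
  s : List ℕ
  /-- The second factor. -/
  z : List ℕ
  /-- The matrix that triangularises `s`. -/
  us : List ℕ
  /-- The matrix that triangularises `z`. -/
  uz : List ℕ
  /-- The matrix of the blocks. -/
  a : List ℕ
  /-- The selection. -/
  m : List Bool

/-- The coefficient of a block. -/
def coef (q : List K) (l : ℕ) : K := q.getD l 0

/-- The offset of a block. -/
def off (b : List (List K)) (a : ℕ) : ℕ := ((b.take a).map fun q => q.length - 1).sum

/-- The entry required between two blocks. -/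
def req (b : List (List K)) (a l a' l' : ℕ) : K :=
  if a' = a then
    (if l + 1 < (b.getD a []).length - 1 then (if l' = l + 1 then 1 else 0) else coef (b.getD a []) l')
  else 0

/-- The check. -/
def check (b : List (List K)) (c : Cert) : Bool :=
  decide (c.n ≤ 16) && decide (off b b.length = c.n) &&
  (b.all fun q => decide (2 ≤ q.length) && q.getD (q.length - 1) 0 == 1) &&
  (mulP c.n (mulP c.n c.a c.z) c.s == mulP c.n c.s c.z) &&
  isUnitUpper c.n c.us && isLowerOne c.n (mulP c.n c.s c.us) &&
  isUnitUpper c.n c.uz && isLowerOne c.n (mulP c.n c.z c.uz) &&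
  (((sel c.m).map (evP c.n c.s)).foldr (mulP c.n) (scalP c.n 1) == scalP c.n 0) &&
  (List.range b.length).all fun a => (List.range ((b.getD a []).length - 1)).all fun l =>
    (List.range b.length).all fun a' => (List.range ((b.getD a' []).length - 1)).all fun l' =>
      ent (c.a.getD (off b a' + l') 0) (off b a + l) == req b a l a' l'

theorem toPol_spec : ∀ q : List K, 1 ≤ q.length → q.getD (q.length - 1) 0 = 1 →
    (toPol q).Monic ∧ (toPol q).natDegree = q.length - 1
  | [], h, _ => by simp at h
  | [c], _, h1 => by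
    have : c = 1 := by simpa using h1
    subst this
    simp [toPol]
  | c :: d :: q, _, h1 => by
    haveI : Nontrivial K := ⟨0, 1, by decide⟩
    obtain ⟨hm, hd⟩ := toPol_spec (d :: q) (by simp) (by simpa using h1)
    have e : toPol (c :: d :: q) = X * toPol (d :: q) + C c := by rw [add_comm]; rfl
    have hX : (X * toPol (d :: q)).Monic := monic_X.mul hm
    have hXd : (X * toPol (d :: q)).natDegree = q.length + 1 := by
      rw [monic_X.natDegree_mul hm, natDegree_X, hd]
      simp [Nat.add_comm]
    rw [e]
    refine ⟨hX.add_of_left ?_, ?_⟩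
    · refine lt_of_le_of_lt degree_C_le ?_
      rw [degree_eq_natDegree hX.ne_zero, hXd]
      exact_mod_cast Nat.succ_pos _
    · rw [natDegree_add_C, hXd]
      simp

theorem coeff_toPol : ∀ (q : List K) (i : ℕ), (toPol q).coeff i = coef q i
  | [], i => by simp [toPol, coef]
  | c :: q, 0 => by simp [toPol, coef]
  | c :: q, i + 1 => by
    show (C c + X * toPol q).coeff (i + 1) = _
    rw [coeff_add, coeff_C_succ, zero_add, coeff_X_mul, coeff_toPol q i]
    simp [coef]

theorem sel_dvd (m : List Bool) : ((sel m).map toPol).prod ∣ poolPol := by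
  refine (List.Sublist.map toPol ?_).prod_dvd_prod
  refine ((List.filter_sublist).map Prod.snd).trans ?_
  generalize pool = L
  induction m generalizing L with
  | nil => simp
  | cons a m ih =>
    cases L with
    | nil => simp
    | cons q L => simpa using (ih L).cons_cons q

variable {F : Type u} [Field F]

theorem fac_of_check (φ : K →+* F) {b : List (List K)} {c : Cert} (h : check b c = true) :
    FacM.{u} (poolPol.map φ) ↑(b.map fun q => (toPol q).map φ) := by
  classical
  simp only [check, Bool.and_eq_true, decide_eq_true_eq, beq_iff_eq, List.all_eq_true, List.mem_range] at h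
  obtain ⟨⟨⟨⟨⟨⟨⟨⟨⟨hn, hoff⟩, hb⟩, heq⟩, hUs⟩, hLs⟩, hUz⟩, hLz⟩, hker⟩, hA⟩ := h
  let Q : Fin b.length → F[X] := fun a => (toPol b[a.1]).map φ
  have hfam := facM_of_family (R := poolPol.map φ) (Q := Q)
  rw [show (Finset.univ : Finset (Fin b.length)).val.map Q = ↑(b.map fun q => (toPol q).map φ) by
    rw [Fin.univ_val_map, Multiset.coe_eq_coe]
    refine List.Perm.of_eq (List.ext_getElem (by simp) fun i h1 h2 => ?_)
    simp [Q]] at hfam
  refine hfam fun V _ _ _ S x hx => ?_
  haveI : Nontrivial K := ⟨0, 1, by decide⟩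
  let k : Fin b.length → ℕ := fun a => b[a.1].length - 1
  have hb' : ∀ a : Fin b.length, (toPol b[a.1]).Monic ∧ (toPol b[a.1]).natDegree = k a := fun a => by
    have := hb b[a.1] (List.getElem_mem _)
    exact toPol_spec _ (by omega) this.2
  have hk : ∀ a, (Q a).natDegree = k a := fun a => by rw [(hb' a).1.natDegree_map, (hb' a).2]
  have hdec : Dec S x k := by
    have := hx.dec
    rwa [show (fun a => (Q a).natDegree) = k from funext hk] at this
  obtain ⟨B, hB⟩ := hdec.exists_basis
  have hget : ∀ a : Fin b.length, b.getD a [] = b[a.1] := fun a => List.getD_eq_getElem _ _ a.2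
  have hoffsum : ∀ (m : ℕ) (hm : m ≤ b.length), off b m = ∑ a : Fin m, k (a.castLE hm) := fun m hm => by
    induction m with
    | zero => simp [off]
    | succ m ih =>
      rw [Fin.sum_univ_castSucc, off, List.take_succ_eq_append_getElem hm, List.map_append, List.sum_append,
        ← off, ih (by omega)]
      simp [k, Fin.castLE]
  have hsum : ∑ a, k a = c.n := by
    rw [← hoff, hoffsum b.length le_rfl]
    simp
  let e : (Σ a, Fin (k a)) ≃ Fin c.n := finSigmaFinEquiv.trans (finCongr hsum)
  have he : ∀ a l, (e ⟨a, l⟩ : ℕ) = off b a + l := fun a l => by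
    show ((finCongr hsum (finSigmaFinEquiv ⟨a, l⟩)) : ℕ) = _
    rw [finCongr_apply, Fin.val_cast, finSigmaFinEquiv_apply, hoffsum a a.2.le]
  let bb : Basis (Fin c.n) F V := B.reindex e
  let Ψ : Matrix (Fin c.n) (Fin c.n) K →+* End F V :=
    (Matrix.toLinAlgEquiv bb).toRingEquiv.toRingHom.comp φ.mapMatrix
  have h2 : ∀ y : V, -y = y := fun y => by
    rw [← neg_one_smul F y, ← map_one φ, ← map_neg φ, show (-1 : K) = 1 by decide, map_one, one_smul]
  have hS : S = Ψ (toM c.n c.a) := by
    refine bb.ext fun j => ?_
    obtain ⟨⟨a, l⟩, rfl⟩ := e.surjective j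
    show S (bb (e ⟨a, l⟩)) = Matrix.toLinAlgEquiv bb (φ.mapMatrix (toM c.n c.a)) (bb (e ⟨a, l⟩))
    rw [Matrix.toLinAlgEquiv_self]
    have hbe : ∀ p, bb (e p) = B p := fun p => by simp [bb]
    rw [← e.sum_comp, Fintype.sum_sigma]
    simp only [hbe, hB, RingHom.mapMatrix_apply, Matrix.map_apply]
    have hent : ∀ (a' : Fin b.length) (l' : Fin (k a')),
        toM c.n c.a (e ⟨a', l'⟩) (e ⟨a, l⟩) = req b a l a' l' := fun a' l' => by
      rw [toM, he, he]
      exact hA a a.2 l (by rw [hget]; exact l.2) a' a'.2 l' (by rw [hget]; exact l'.2)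
    simp only [hent]
    rw [Finset.sum_eq_single a (fun a' _ ha' => ?_) (fun ha => absurd (Finset.mem_univ a) ha)]
    swap
    · exact Finset.sum_eq_zero fun l' _ => by
        rw [req, if_neg (fun e => ha' (Fin.ext e)), map_zero, zero_smul]
    simp only [req, if_pos, hget]
    rw [← Module.End.mul_apply, ← pow_succ']
    by_cases hl : (l : ℕ) + 1 < k a
    · rw [Finset.sum_eq_single (⟨l + 1, hl⟩ : Fin (k a))]
      · rw [if_pos hl, if_pos rfl, map_one, one_smul]
      · intro l' _ hl'
        rw [if_pos hl, if_neg (fun e => hl' (Fin.ext e)), map_zero, zero_smul]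
      · exact fun h => absurd (Finset.mem_univ _) h
    · simp only [if_neg (show ¬ (l : ℕ) + 1 < b[a.1].length - 1 from hl)]
      have hz := hx.kill a
      rw [aeval_eq_sum_range, LinearMap.sum_apply, Finset.sum_range_succ] at hz
      have hlast : (Q a).coeff (Q a).natDegree = 1 := ((hb' a).1.map φ).coeff_natDegree
      rw [LinearMap.smul_apply, hlast, one_smul, add_eq_zero_iff_eq_neg, eq_comm, neg_eq_iff_eq_neg] at hz
      rw [show (l : ℕ) + 1 = (Q a).natDegree by rw [hk]; have := l.2; omega, hz, h2, hk,
        ← Fin.sum_univ_eq_sum_range (fun i => ((Q a).coeff i • S ^ i) (x a)) (k a)]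
      refine Finset.sum_congr rfl fun l' _ => ?_
      rw [LinearMap.smul_apply, coeff_map, coeff_toPol]
  have hdet : ∀ M : List ℕ, (toM c.n M).det = 1 → LinearMap.det (Ψ (toM c.n M)) = 1 := fun M hM => by
    show LinearMap.det (Matrix.toLin bb bb (φ.mapMatrix (toM c.n M))) = 1
    rw [LinearMap.det_toLin, ← RingHom.map_det, hM, map_one]
  have hev : ∀ (M : Matrix (Fin c.n) (Fin c.n) K) (P : K[X]), aeval (Ψ M) (P.map φ) = Ψ (aeval M P) := fun M P => by
    induction P using Polynomial.induction_on with
    | C a =>
      rw [map_C, aeval_C, aeval_C]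
      show _ = Matrix.toLinAlgEquiv bb (φ.mapMatrix (algebraMap K _ a))
      rw [show φ.mapMatrix (algebraMap K (Matrix (Fin c.n) (Fin c.n) K) a) =
        algebraMap F (Matrix (Fin c.n) (Fin c.n) F) (φ a) by
          ext i j; simp [Matrix.algebraMap_matrix_apply, apply_ite φ], AlgEquiv.commutes]
    | add p q hp hq => rw [Polynomial.map_add, map_add, map_add, map_add, hp, hq]
    | monomial i a ih =>
      rw [show C a * X ^ (i + 1) = C a * X ^ i * X by ring, Polynomial.map_mul, Polynomial.map_X,
        map_mul (aeval (Ψ M)), ih, aeval_X, map_mul (aeval M) _ X, aeval_X, map_mul Ψ]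
  have hprod : ∀ L : List (List K), toM c.n ((L.map (evP c.n c.s)).foldr (mulP c.n) (scalP c.n 1)) =
      aeval (toM c.n c.s) (L.map toPol).prod := fun L => by
    induction L with
    | nil => rw [List.map_nil, List.foldr_nil, toM_scalP hn, map_one, List.map_nil, List.prod_nil, map_one]
    | cons q L ih =>
      rw [List.map_cons, List.foldr_cons, toM_mulP hn, ih, toM_evP hn, List.map_cons, List.prod_cons, map_mul]
  refine ⟨Ψ (toM c.n c.s), Ψ (toM c.n c.z), ?_, hdet _ (det_eq_one_of_check hn hUz hLz),
    hdet _ (det_eq_one_of_check hn hUs hLs), ?_⟩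
  · rw [hS, ← map_mul, ← map_mul, ← map_mul, ← toM_mulP hn, ← toM_mulP hn, ← toM_mulP hn, heq]
  · obtain ⟨r, hr⟩ := sel_dvd c.m
    rw [hev, hr, map_mul, ← hprod, hker, toM_scalP hn, map_zero, zero_mul, map_zero]

end CfsgLib.OreLevi.Four
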