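import Cfsg.Agent.Lib.OreLevi.FactorFourSmall
import Cfsg.Agent.Lib.OreLevi.FactorFourData5
import Cfsg.Agent.Lib.OreLevi.FactorFourData6
import Cfsg.Agent.Lib.OreLevi.FactorFourData7
import Cfsg.Agent.Lib.OreLevi.FactorFourData8

/-!
The choice of heads: every admissible list of cyclic blocks over the field with four elements
becomes, after replacing large blocks by linear or quadratic heads, a certified small family.
-/

set_option autoImplicit false
set_option linter.unusedSectionVars false

namespace CfsgLib.OreLevi.Four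

open Polynomial Module CfsgLib.SLComm

attribute [-instance] Fintype.subtypeEq Fintype.subtypeEq'

universe u

variable {F : Type u} [Field F]

/-- The patterns with a block of degree four. -/
def tableQ : List (List (List ℕ) × Cert) := table5 ++ table6 ++ table7 ++ table8

/-- Whether a list of codes is certified in the quartic table. -/
def certifiedQ (l : List (List ℕ)) : Bool := tableQ.any fun e => e.1 == l

theorem facC_of_certifiedQ (φ : K →+* F) {l : List (List ℕ)} (h : certifiedQ l = true) : FacC φ ↑l := by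
  simp only [certifiedQ, List.any_eq_true, beq_iff_eq] at h
  obtain ⟨e, he, rfl⟩ := h
  have hc : check (e.1.map (List.map K.ofCode)) e.2 = true := by
    simp only [tableQ, List.mem_append] at he
    rcases he with ((he | he) | he) | he
    exacts [List.all_eq_true.1 table5_check e he, List.all_eq_true.1 table6_check e he,
      List.all_eq_true.1 table7_check e he, List.all_eq_true.1 table8_check e he]
  have := fac_of_check φ hc
  rw [List.map_map] at this
  rw [FacC, Multiset.map_coe]
  exact this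

/-- The monic quartic codes in the fixing patterns. -/
theorem quartic_certified : ∀ b < 4, ∀ c < 4, ∀ d < 4, certifiedQ [[1, b, c, d, 1]] = true ∧
    certifiedQ [[1, 0, 1], [1, b, c, d, 1]] = true ∧ certifiedQ [[2, b, c, d, 1], [2, 1], [2, 1]] = true ∧
      certifiedQ [[3, b, c, d, 1], [3, 1], [3, 1]] = true := by
  decide +kernel

/-- Evaluation of a code in the model field. -/
def evalC (q : List ℕ) (x : K) : K := (q.map K.ofCode).foldr (fun c acc => c + x * acc) 0

theorem eval_toPol_map (φ : K →+* F) (x : K) : ∀ q : List ℕ, (polC φ q).eval (φ x) = φ (evalC q x)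
  | [] => by simp [polC, toPol, evalC]
  | a :: q => by
    have e : polC φ (a :: q) = C (φ (K.ofCode a)) + X * polC φ q := by
      simp only [polC, List.map_cons]
      show (C (K.ofCode a) + X * toPol (q.map K.ofCode)).map φ = _
      rw [Polynomial.map_add, Polynomial.map_mul, map_C, map_X]
    rw [e, eval_add, eval_mul, eval_C, eval_X, eval_toPol_map φ x q, ← map_mul, ← map_add]
    rfl

theorem polC_monic (φ : K →+* F) {q : List ℕ} (h1 : 1 ≤ q.length) (h2 : q.getD (q.length - 1) 0 = 1) :
    (polC φ q).Monic ∧ (polC φ q).natDegree = q.length - 1 := by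
  haveI : Nontrivial K := ⟨0, 1, by decide⟩
  have h := toPol_spec (q.map K.ofCode) (by simpa using h1) (by
    rw [List.length_map, List.getD_eq_getElem _ _ (by rw [List.length_map]; omega), List.getElem_map,
      ← List.getD_eq_getElem _ 0 (by omega), h2]
    rfl)
  exact ⟨h.1.map φ, by rw [polC, h.1.natDegree_map, h.2, List.length_map]⟩

theorem coeff_polC (φ : K →+* F) (q : List ℕ) (i : ℕ) : (polC φ q).coeff i = φ (K.ofCode (q.getD i 0)) := by
  rw [polC, coeff_map, coeff_toPol, coef]
  congr 1
  rcases lt_or_ge i q.length with h | h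
  · rw [List.getD_eq_getElem _ _ (by simpa using h), List.getElem_map, List.getD_eq_getElem _ _ h]
  · rw [List.getD_eq_default _ _ (by simpa using h), List.getD_eq_default _ _ h]
    rfl

theorem ofCode_surj : ∀ x : K, ∃ a : Fin 4, K.ofCode a = x := by decide

theorem exists_code {φ : K →+* F} (hφ : Function.Surjective φ) {p : F[X]} (hp : p.Monic) :
    ∃ q : List ℕ, q.length = p.natDegree + 1 ∧ (∀ i, q.getD i 0 < 4) ∧ q.getD p.natDegree 0 = 1 ∧ p = polC φ q := by
  have hc : ∀ y : F, ∃ a < 4, φ (K.ofCode a) = y := fun y => by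
    obtain ⟨x, rfl⟩ := hφ y
    obtain ⟨a, rfl⟩ := ofCode_surj x
    exact ⟨a, a.2, rfl⟩
  choose code hlt hcode using hc
  refine ⟨(List.range p.natDegree).map (fun i => code (p.coeff i)) ++ [1], by simp, fun i => ?_, ?_, ?_⟩
  · rcases lt_trichotomy i p.natDegree with h | h | h
    · rw [List.getD_eq_getElem _ _ (by simp; omega), List.getElem_append_left (by simpa using h)]
      simp [hlt]
    · subst h; rw [List.getD_eq_getElem _ _ (by simp), List.getElem_append_right (by simp)]; simp
    · rw [List.getD_eq_default _ _ (by simp; omega)]; norm_num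
  · rw [List.getD_eq_getElem _ _ (by simp), List.getElem_append_right (by simp)]; simp
  · ext i
    rw [coeff_polC]
    rcases lt_trichotomy i p.natDegree with h | h | h
    · rw [List.getD_eq_getElem _ _ (by simp; omega), List.getElem_append_left (by simpa using h)]
      simp [hcode]
    · subst h
      rw [List.getD_eq_getElem _ _ (by simp), List.getElem_append_right (by simp)]
      simp [hp.coeff_natDegree, K.ofCode]
    · rw [coeff_eq_zero_of_natDegree_lt h, List.getD_eq_default _ _ (by simp; omega)]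
      simp [K.ofCode]

/-- All nonlinear small blocks. -/
def atoms : List (List ℕ) := types 1 ++ types 2 ++ types 3 ++ types 4

/-- The linear blocks. -/
def lins : List (List ℕ) := [[1, 1], [2, 1], [3, 1]]

/-- A root at which the code is no power of a linear polynomial. -/
def mixed (q : List ℕ) (n : ℕ) (r : K) : Bool :=
  decide (evalC q r = 0) && decide (∀ e : K, ∃ x : K, evalC q x ≠ (x + e) ^ n)

theorem mixed_spec {q : List ℕ} {n : ℕ} {r : K} (h : mixed q n r = true) :
    evalC q r = 0 ∧ ∀ e : K, ∃ x : K, evalC q x ≠ (x + e) ^ n := by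
  simpa [mixed] using h

theorem quad_atom : ∀ a < 4, ∀ b < 4, a = 0 ∨ [a, b, 1] ∈ atoms ∨ ∃ r : K, mixed [a, b, 1] 2 r = true := by
  decide +kernel

/-- The test for cubic codes. -/
def cubicOK (a b c : ℕ) : Bool :=
  decide (a = 0 ∨ [a, b, c, 1] ∈ atoms ∨ ∃ r : K, mixed [a, b, c, 1] 3 r = true)

theorem cubicOK_all : ∀ a < 4, ∀ b < 4, ∀ c < 4, cubicOK a b c = true := by decide +kernel

theorem cubic_atom (a : ℕ) (ha : a < 4) (b : ℕ) (hb : b < 4) (c : ℕ) (hc : c < 4) :
    a = 0 ∨ [a, b, c, 1] ∈ atoms ∨ ∃ r : K, mixed [a, b, c, 1] 3 r = true := by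
  simpa [cubicOK] using cubicOK_all a ha b hb c hc

theorem neg_eq_self (φ : K →+* F) (y : F) : -y = y := by
  rw [← neg_one_mul y, ← map_one φ, ← map_neg φ, show (-1 : K) = 1 by decide, map_one, one_mul]

theorem eval_pow_of_root {φ : K →+* F} (hφ : Function.Surjective φ) {d : F[X]} (hd : d.Monic) (hirr : Irreducible d)
    {r : F} (hr : d.eval r = 0) (k : ℕ) : ∃ e : K, ∀ x : K, (d ^ k).eval (φ x) = φ ((x + e) ^ k) := by
  have hdeg := natDegree_eq_of_degree_eq_some (degree_eq_one_of_irreducible_of_root hirr hr)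
  obtain ⟨e, he⟩ := hφ (d.coeff 0)
  refine ⟨e, fun x => ?_⟩
  rw [eval_pow, hd.eq_X_add_C hdeg, eval_add, eval_X, eval_C, ← he, map_pow, map_add]

theorem mem_atoms {φ : K →+* F} (hφ : Function.Bijective φ) {p d : F[X]} {k : ℕ} (hd : d.Monic)
    (hirr : Irreducible d) (hp : p = d ^ k) (hdeg1 : 2 ≤ p.natDegree) (hdeg3 : p.natDegree ≤ 3)
    (h0 : p.coeff 0 ≠ 0) : ∃ Q ∈ atoms, p = polC φ Q := by
  have hpm : p.Monic := hp ▸ hd.pow k
  obtain ⟨q, hlen, hlt, hlast, rfl⟩ := exists_code hφ.2 hpm
  refine ⟨q, ?_, rfl⟩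
  by_contra hq
  have key : ∀ (r : K) (n : ℕ), evalC q r = 0 → (polC φ q).natDegree = n →
      (∀ e : K, ∃ x : K, evalC q x ≠ (x + e) ^ n) → False := by
    intro r n hr hn hne
    have h1 : (d ^ k).eval (φ r) = 0 := by rw [← hp, eval_toPol_map, hr, map_zero]
    rw [eval_pow] at h1
    have hdr := eq_zero_of_pow_eq_zero h1
    have hdd := natDegree_eq_of_degree_eq_some (degree_eq_one_of_irreducible_of_root hirr hdr)
    rw [hp, natDegree_pow, show d.natDegree = 1 from hdd, mul_one] at hn
    subst hn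
    obtain ⟨e, he⟩ := eval_pow_of_root hφ.2 hd hirr hdr k
    obtain ⟨x, hx⟩ := hne e
    refine hx (hφ.1 ?_)
    rw [← eval_toPol_map, hp, he]
  rw [coeff_polC] at h0
  have ha : q.getD 0 0 ≠ 0 := fun e => h0 (by rw [e]; simp [K.ofCode])
  rcases (by omega : (polC φ q).natDegree = 2 ∨ (polC φ q).natDegree = 3) with hn | hn <;> rw [hn] at hlen hlast
  · obtain ⟨a, b, c, rfl⟩ := List.length_eq_three.1 hlen
    simp only [List.getD_cons_succ, List.getD_cons_zero] at hlast ha
    subst hlast
    rcases quad_atom a (by simpa using hlt 0) b (by simpa using hlt 1) with h | h | ⟨r, hm⟩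
    exacts [ha h, hq h, key r 2 (mixed_spec hm).1 hn (mixed_spec hm).2]
  · obtain ⟨a, b, c, e, rfl⟩ : ∃ a b c e, q = [a, b, c, e] := by
      match q, hlen with
      | [a, b, c, e], _ => exact ⟨a, b, c, e, rfl⟩
    simp only [List.getD_cons_succ, List.getD_cons_zero] at hlast ha
    subst hlast
    rcases cubic_atom a (by simpa using hlt 0) b (by simpa using hlt 1) c (by simpa using hlt 2) with h | h | ⟨r, hm⟩
    exacts [ha h, hq h, key r 3 (mixed_spec hm).1 hn (mixed_spec hm).2]

/-- The exponent of the determinant of a code. -/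
def ex (q : List ℕ) : ℕ :=
  match q.headD 0 with
  | 2 => 1
  | 3 => 2
  | _ => 0

theorem types_ex : ((List.range 5).all fun c => c == 0 || (types c).all fun Q => ex Q == dexp c && !(lins.contains Q)) =
    true := by
  decide +kernel

/-- The multisets of codes without factorisation. -/
def BadM (m : Multiset (List ℕ)) : Prop :=
  m = ↑[[1, 1]] ∨ m = ↑[[2, 1], [2, 1], [2, 1]] ∨ m = ↑[[3, 1], [3, 1], [3, 1]] ∨ m = ↑[[1, 0, 1]] ∨
    m = ↑[[1, 0, 1], [1, 1]]

theorem facC_one_class (φ : K →+* F) {c : ℕ} (hc0 : c ≠ 0) (hc : c < 5) {Q : List ℕ} (hQ : Q ∈ types c)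
    {m : Multiset (List ℕ)} (hm : ∀ q ∈ m, q ∈ lins ∨ q = Q) (hex : (m.map ex).sum % 3 = 0) :
    FacC φ m ∨ (BadM m ∧ (Q = [1, 0, 1] ∨ Q ∉ m)) := by
  classical
  have htypes := List.all_eq_true.1 types_ex c (List.mem_range.2 hc)
  simp only [beq_iff_eq, Bool.or_eq_true, hc0, false_or, List.all_eq_true, Bool.and_eq_true, Bool.not_eq_true',
    List.contains_eq_mem, decide_eq_false_iff_not] at htypes
  obtain ⟨hexQ, hQl⟩ := htypes Q hQ
  have hne : ∀ e ∈ lins, Q ≠ e := fun e he h => hQl (h ▸ he)
  have h1 := hne [1, 1] (by decide)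
  have h2 := hne [2, 1] (by decide)
  have h3 := hne [3, 1] (by decide)
  set v : Vec := (m.count Q, m.count [1, 1], m.count [2, 1], m.count [3, 1]) with hv
  have hmv : m = ↑(pat Q v) := by
    ext q
    simp only [pat, hv, ← Multiset.coe_add, Multiset.coe_replicate, Multiset.count_add, Multiset.count_replicate]
    by_cases hq : q = Q ∨ q ∈ lins
    · simp only [lins, List.mem_cons, List.not_mem_nil, or_false] at hq
      rcases hq with rfl | rfl | rfl | rfl
      · simp [h1.symm, h2.symm, h3.symm]
      all_goals simp [h1, h2, h3]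
    · push_neg at hq
      rw [Multiset.count_eq_zero.2 fun h => (hm q h).elim hq.2 hq.1]
      simp only [lins, List.mem_cons, List.not_mem_nil, or_false, not_or] at hq
      simp [Ne.symm hq.1, Ne.symm hq.2.1, Ne.symm hq.2.2.1, Ne.symm hq.2.2.2]
  have hdet : detc c v = true := by
    rw [hmv] at hex
    simp only [pat, Multiset.map_coe, Multiset.sum_coe, List.map_append, List.map_replicate, List.sum_append,
      List.sum_replicate, smul_eq_mul, hexQ, show ex [1, 1] = 0 from rfl, show ex [2, 1] = 1 from rfl,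
      show ex [3, 1] = 2 from rfl] at hex
    simp only [detc, beq_iff_eq]
    rw [Nat.mul_comm] at hex
    omega
  by_cases hb : bad c v = true
  · refine Or.inr ?_
    simp only [bad, Bool.or_eq_true, beq_iff_eq, Bool.and_eq_true] at hb
    have hQ1 : c = 1 → Q = [1, 0, 1] := fun e => by subst e; simpa [types] using hQ
    have hcount : v.1 = 0 → Q ∉ m := fun e => Multiset.count_eq_zero.1 e
    rcases hb with ((e | e) | e) | ⟨hc1, e | e⟩
    · exact ⟨Or.inl (by rw [hmv, e]; rfl), Or.inr (hcount (by rw [e]))⟩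
    · exact ⟨Or.inr (Or.inl (by rw [hmv, e]; rfl)), Or.inr (hcount (by rw [e]))⟩
    · exact ⟨Or.inr (Or.inr (Or.inl (by rw [hmv, e]; rfl))), Or.inr (hcount (by rw [e]))⟩
    · exact ⟨Or.inr (Or.inr (Or.inr (Or.inl (by rw [hmv, e, hQ1 hc1]; rfl)))), Or.inl (hQ1 hc1)⟩
    · exact ⟨Or.inr (Or.inr (Or.inr (Or.inr (by rw [hmv, e, hQ1 hc1]; rfl)))), Or.inl (hQ1 hc1)⟩
  · rw [hmv]
    refine Or.inl (facC_small φ hc hQ v ?_ fun e => absurd e hc0)
    rw [ok, hdet, Bool.eq_false_iff.2 hb]
    rfl

/-- Being a power of a common linear polynomial. -/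
def compat (Q2 Q3 : List ℕ) : Prop := ∃ e : K, ∀ x : K, evalC Q2 x = (x + e) ^ 2 ∧ evalC Q3 x = (x + e) ^ 3

instance (Q2 Q3 : List ℕ) : Decidable (compat Q2 Q3) := by unfold compat; infer_instance

theorem compat_spec : ∀ Q2 ∈ atoms, ∀ Q3 ∈ atoms, Q2.length = 3 → Q3.length = 4 → compat Q2 Q3 →
    Q3 ∈ types 2 ∧ ex Q3 = 0 ∧
      (Q2 = [1, 0, 1] → certified [Q3, [1, 0, 1]] = true ∧ certified [Q3, [1, 0, 1], [1, 1]] = true) := by
  decide +kernel

theorem atoms_class {Q : List ℕ} (h : Q ∈ atoms) : ∃ c, c ≠ 0 ∧ c < 5 ∧ Q ∈ types c := by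
  simp only [atoms, List.mem_append] at h
  rcases h with ((h | h) | h) | h
  exacts [⟨1, by decide, by decide, h⟩, ⟨2, by decide, by decide, h⟩, ⟨3, by decide, by decide, h⟩,
    ⟨4, by decide, by decide, h⟩]

theorem atoms_length : ∀ Q ∈ atoms, Q.length = 3 ∨ Q.length = 4 := by decide +kernel

theorem facC_replicate (φ : K →+* F) {Q : List ℕ} (hQ : Q ∈ types 2) : ∀ j : ℕ,
    FacC φ (Multiset.replicate j Q)
  | 0 => by rw [Multiset.replicate_zero]; exact facC_zero φ
  | j + 1 => by
    rw [Multiset.replicate_succ, ← Multiset.singleton_add]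
    exact (facC_core φ (c := 2) (by decide) hQ (k := (1, 0, 0, 0)) (by decide)).add (facC_replicate φ hQ j)

theorem facC_or_bad (φ : K →+* F) {m : Multiset (List ℕ)} (hm : ∀ q ∈ m, q ∈ lins ∨ q ∈ atoms)
    (hu : ∀ q ∈ m, ∀ q' ∈ m, q ∈ atoms → q' ∈ atoms → q.length = q'.length → q = q')
    (hc : ∀ q ∈ m, ∀ q' ∈ m, q ∈ atoms → q' ∈ atoms → q.length = 3 → q'.length = 4 → compat q q')
    (hex : (m.map ex).sum % 3 = 0) : FacC φ m ∨ BadM m := by
  classical
  by_cases h3 : ∃ Q ∈ m, Q ∈ atoms ∧ Q.length = 4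
  · obtain ⟨Q3, hQ3m, hQ3a, hQ3l⟩ := h3
    by_cases h2 : ∃ Q ∈ m, Q ∈ atoms ∧ Q.length = 3
    · obtain ⟨Q2, hQ2m, hQ2a, hQ2l⟩ := h2
      obtain ⟨hQ3t, hQ3e, hcert⟩ := compat_spec Q2 hQ2a Q3 hQ3a hQ2l hQ3l (hc _ hQ2m _ hQ3m hQ2a hQ3a hQ2l hQ3l)
      obtain ⟨c, hc0, hc5, hQ2t⟩ := atoms_class hQ2a
      obtain ⟨j, hj⟩ : ∃ j, m.count Q3 = j + 1 := ⟨m.count Q3 - 1, by
        have := Multiset.count_pos.2 hQ3m; omega⟩
      have hsplit : m = Multiset.replicate (j + 1) Q3 + m.filter (fun q => ¬ q = Q3) := by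
        conv_lhs => rw [← Multiset.filter_add_not (fun q => q = Q3) m]
        rw [Multiset.filter_eq', hj]
      have hrest := facC_one_class φ hc0 hc5 hQ2t (m := m.filter fun q => ¬ q = Q3) (fun q hq => by
        obtain ⟨hqm, hq3⟩ := Multiset.mem_filter.1 hq
        refine (hm q hqm).imp id fun hqa => ?_
        rcases atoms_length q hqa with hl | hl
        · exact hu q hqm Q2 hQ2m hqa hQ2a (hl.trans hQ2l.symm)
        · exact absurd (hu q hqm Q3 hQ3m hqa hQ3a (hl.trans hQ3l.symm)) hq3) (by
        rw [hsplit, Multiset.map_add, Multiset.sum_add, Multiset.map_replicate, Multiset.sum_replicate, hQ3e] at hex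
        simpa using hex)
      rw [hsplit]
      rcases hrest with h | ⟨hbad, hQ2⟩
      · exact Or.inl ((facC_replicate φ hQ3t _).add h)
      have hQJ : Q2 = [1, 0, 1] := hQ2.resolve_right fun h => h (Multiset.mem_filter.2 ⟨hQ2m, fun e => by
        rw [e, hQ3l] at hQ2l; omega⟩)
      subst hQJ
      obtain ⟨hc1, hc2⟩ := hcert rfl
      have hmem : [1, 0, 1] ∈ m.filter fun q => ¬ q = Q3 := Multiset.mem_filter.2 ⟨hQ2m, fun e => by
        rw [← e] at hQ3l; simp at hQ3l⟩
      refine Or.inl ?_
      rw [Multiset.replicate_succ, ← Multiset.singleton_add, add_comm ({Q3} : Multiset (List ℕ)), add_assoc]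
      refine (facC_replicate φ hQ3t j).add ?_
      rcases hbad with e | e | e | e | e <;> rw [e] at hmem ⊢
      · simp at hmem
      · simp at hmem
      · simp at hmem
      · exact facC_of_certified φ hc1
      · exact facC_of_certified φ hc2
    · push_neg at h2
      obtain ⟨c, hc0, hc5, hQt⟩ := atoms_class hQ3a
      refine (facC_one_class φ hc0 hc5 hQt (fun q hq => (hm q hq).imp id fun hqa => ?_) hex).imp id And.left
      exact hu q hq Q3 hQ3m hqa hQ3a (((atoms_length q hqa).resolve_left (h2 q hq hqa)).trans hQ3l.symm)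
  · push_neg at h3
    by_cases h2 : ∃ Q ∈ m, Q ∈ atoms
    · obtain ⟨Q2, hQ2m, hQ2a⟩ := h2
      obtain ⟨c, hc0, hc5, hQt⟩ := atoms_class hQ2a
      refine (facC_one_class φ hc0 hc5 hQt (fun q hq => (hm q hq).imp id fun hqa => ?_) hex).imp id And.left
      exact hu q hq Q2 hQ2m hqa hQ2a (((atoms_length q hqa).resolve_right (h3 q hq hqa)).trans
        ((atoms_length _ hQ2a).resolve_right (h3 _ hQ2m hQ2a)).symm)
    · push_neg at h2
      refine (facC_one_class φ (c := 1) (by decide) (by decide) (Q := [1, 0, 1]) (by decide)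
        (fun q hq => Or.inl ((hm q hq).resolve_right (h2 q hq))) hex).imp id And.left

theorem map_update {α β : Type*} [Fintype α] [DecidableEq α] [DecidableEq β] (f : α → β) (i : α) (b : β) :
    (Finset.univ : Finset α).val.map (Function.update f i b) =
      b ::ₘ ((Finset.univ : Finset α).val.map f).erase (f i) := by
  rw [← Multiset.cons_erase (Finset.mem_univ_val i), Multiset.map_cons, Multiset.map_cons,
    Function.update_self, Multiset.erase_cons_head]
  exact congrArg _ (Multiset.map_congr rfl fun x hx => Function.update_of_ne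
    ((Finset.univ.nodup.mem_erase_iff).1 hx).1 _ _)

theorem coeff_zero_ne_of_det {V : Type u} [AddCommGroup V] [Module F V] [FiniteDimensional F V] {ι : Type}
    [Fintype ι] {S : End F V} {x : ι → V} {P : ι → F[X]} (hb : BDec S x P) (hdet : LinearMap.det S = 1) (i : ι) :
    (P i).coeff 0 ≠ 0 := fun e => by
  have := (BDec.det rfl hb).symm.trans hdet
  rw [dprod, Finset.prod_eq_zero (Finset.mem_univ i) (by rw [e, mul_zero])] at this
  exact zero_ne_one this

theorem ex_pow (φ : K →+* F) : ∀ a < 4, a ≠ 0 → φ (K.ofCode a) = φ K.w ^ ex [a] := by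
  intro a ha h0
  rw [← map_pow]
  congr 1
  revert a
  decide

theorem root_of_linear {φ : K →+* F} {V : Type u} [AddCommGroup V] [Module F V] {S : End F V} {v : V} (a : ℕ)
    (h : aeval S (polC φ [a, 1]) v = 0) : S v = φ (K.ofCode a) • v := by
  have e : polC φ [a, 1] = C (φ (K.ofCode a)) + X := by
    simp [polC, toPol, K.ofCode, Polynomial.map_add, Polynomial.map_mul]
  rw [e, map_add, aeval_C, aeval_X, LinearMap.add_apply, Module.algebraMap_end_apply, add_eq_zero_iff_eq_neg] at h
  rw [← neg_neg (S v), ← h, ← neg_smul, neg_eq_self φ]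

/-- The heads. -/
theorem exists_heads {φ : K →+* F} (hφ : Function.Bijective φ) {V : Type u} [AddCommGroup V] [Module F V]
    [FiniteDimensional F V] {S : End F V} (hdet : LinearMap.det S = 1) (hns : ∀ e : F, S ≠ e • 1)
    (hrank : 2 ≤ finrank F (LinearMap.range (S - 1))) {ι : Type} [Fintype ι] {P : ι → F[X]} {x : ι → V}
    (hb : BDec S x P)
    (hatom : ∀ i, 1 ≤ (P i).natDegree ∧
      ((P i).natDegree ≤ 3 → ∃ (d : F[X]) (k : ℕ), d.Monic ∧ Irreducible d ∧ P i = d ^ k))
    (hterm : ∀ i j, i ≠ j → (P i).natDegree ≤ 3 → (P j).natDegree ≤ 3 →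
      4 ≤ (P i).natDegree + (P j).natDegree → ¬ IsCoprime (P i) (P j)) :
    ∃ H : ι → F[X], FacM.{u} (poolPol.map φ) ((Finset.univ : Finset ι).val.map H) ∧
      ∀ i, H i = P i ∨ ((H i).Monic ∧ 1 ≤ (H i).natDegree ∧ (H i).natDegree + 3 ≤ (P i).natDegree ∧
        (H i).coeff 0 = (P i).coeff 0) := by
  classical
  have h0 := coeff_zero_ne_of_det hb hdet
  choose cd hlen hlt hlast hcd using fun i => exists_code hφ.2 (hb.monic i)
  have hhead : ∀ i, (cd i).getD 0 0 ≠ 0 := fun i e => h0 i (by rw [hcd i, coeff_polC, e]; simp [K.ofCode])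
  -- the default heads
  let hc : ι → List ℕ := fun i => if (P i).natDegree ≤ 3 then cd i else [(cd i).getD 0 0, 1]
  have hhc0 : ∀ i, (hc i).getD 0 0 = (cd i).getD 0 0 := fun i => by simp only [hc]; split_ifs <;> rfl
  have hlinmem : ∀ a < 4, a ≠ 0 → [a, 1] ∈ lins := by decide
  have hcode1 : ∀ i, (P i).natDegree = 1 → cd i = [(cd i).getD 0 0, 1] := fun i hi => by
    have := hlast i; have hl := hlen i
    rw [hi] at this hl
    obtain ⟨a, b, e⟩ := List.length_eq_two.1 hl
    rw [e] at this ⊢
    simp only [List.getD_cons_succ, List.getD_cons_zero] at this ⊢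
    rw [this]
  have hatomcd : ∀ i, 2 ≤ (P i).natDegree → (P i).natDegree ≤ 3 → cd i ∈ atoms := fun i h2 h3 => by
    obtain ⟨d, k, hd, hirr, hp⟩ := (hatom i).2 h3
    obtain ⟨Q, hQ, hPQ⟩ := mem_atoms hφ hd hirr hp h2 h3 (h0 i)
    have hlQ : Q.length = (cd i).length := by
      have hfin : ∀ Q ∈ atoms, Q.getD (Q.length - 1) 0 = 1 := by decide
      have hl := atoms_length Q hQ
      have := congrArg natDegree hPQ
      rw [(polC_monic φ (by omega) (hfin Q hQ)).2] at this
      have := hlen i
      omega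
    have hlt4 : ∀ Q ∈ atoms, ∀ x ∈ Q, x < 4 := by decide
    have hinj : ∀ a < 4, ∀ b < 4, K.ofCode a = K.ofCode b → a = b := by decide
    have : Q = cd i := List.ext_getElem hlQ fun l h1 h2' => by
      have hl1 := hlt4 Q hQ _ (List.getElem_mem h1)
      have hl2 := hlt i l
      rw [List.getD_eq_getElem _ _ h2'] at hl2
      refine hinj _ hl1 _ hl2 (hφ.1 ?_)
      rw [← List.getD_eq_getElem _ 0 h1, ← List.getD_eq_getElem _ 0 h2', ← coeff_polC, ← coeff_polC, ← hPQ, ← hcd i]
    exact this ▸ hQ
  have hmem : ∀ i, hc i ∈ lins ∨ hc i ∈ atoms := fun i => by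
    simp only [hc]
    split_ifs with h3
    · rcases (by have := (hatom i).1; omega : (P i).natDegree = 1 ∨ 2 ≤ (P i).natDegree) with h1 | h2
      · rw [hcode1 i h1]; exact Or.inl (hlinmem _ (hlt i 0) (hhead i))
      · exact Or.inr (hatomcd i h2 h3)
    · exact Or.inl (hlinmem _ (hlt i 0) (hhead i))
  have hsmall : ∀ i, hc i ∈ atoms → 2 ≤ (P i).natDegree ∧ (P i).natDegree ≤ 3 ∧ hc i = cd i := fun i hi => by
    have hnl : ∀ a < 4, [a, 1] ∉ atoms := by decide
    by_cases h3 : (P i).natDegree ≤ 3
    · have e : hc i = cd i := if_pos h3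
      refine ⟨?_, h3, e⟩
      by_contra h2
      rw [e, hcode1 i (by have := (hatom i).1; omega)] at hi
      exact hnl _ (hlt i 0) hi
    · rw [show hc i = [(cd i).getD 0 0, 1] from if_neg h3] at hi
      exact absurd hi (hnl _ (hlt i 0))
  set m : Multiset (List ℕ) := (Finset.univ : Finset ι).val.map hc with hmdef
  have hmi : ∀ q ∈ m, ∃ i, hc i = q := fun q hq => by
    obtain ⟨i, -, e⟩ := Multiset.mem_map.1 hq; exact ⟨i, e⟩
  have hpair : ∀ i j, hc i ∈ atoms → hc j ∈ atoms → P i ≠ P j →
      compat (hc i) (hc j) ∧ (P i).natDegree ≠ (P j).natDegree ∨ (P j).natDegree < (P i).natDegree := by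
    intro i j hi hj hne
    obtain ⟨hi2, hi3, ei⟩ := hsmall i hi
    obtain ⟨hj2, hj3, ej⟩ := hsmall j hj
    rcases lt_or_ge (P j).natDegree (P i).natDegree with h | hij
    · exact Or.inr h
    have hnc := hterm i j (fun e => hne (by rw [e])) hi3 hj3 (by omega)
    obtain ⟨d, k, hd, hdi, hPi⟩ := (hatom i).2 hi3
    obtain ⟨d', k', hd', hdi', hPj⟩ := (hatom j).2 hj3
    have hdd : d = d' := by
      by_contra hdne
      refine hnc ?_
      rw [hPi, hPj]
      refine IsCoprime.pow ?_
      rw [hdi.coprime_iff_not_dvd]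
      exact fun h => hdne (eq_of_monic_of_associated hd hd' (hdi.associated_of_dvd hdi' h))
    subst hdd
    have e1 : (P i).natDegree = k * d.natDegree := by rw [hPi, natDegree_pow]
    have e2 : (P j).natDegree = k' * d.natDegree := by rw [hPj, natDegree_pow]
    have hneq : (P i).natDegree ≠ (P j).natDegree := fun e => hne (by
      rw [hPi, hPj, Nat.eq_of_mul_eq_mul_right hdi.natDegree_pos (e1.symm.trans (e.trans e2))])
    have hd1 : d.natDegree = 1 := by
      have hdv1 : d.natDegree ∣ (P i).natDegree := ⟨k, by rw [e1]; ring⟩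
      have hdv2 : d.natDegree ∣ (P j).natDegree := ⟨k', by rw [e2]; ring⟩
      rw [show (P i).natDegree = 2 by omega] at hdv1
      rw [show (P j).natDegree = 3 by omega] at hdv2
      exact Nat.dvd_one.1 (by simpa using Nat.dvd_gcd hdv1 hdv2)
    rw [hd1, mul_one] at e1 e2
    obtain ⟨e, he⟩ := hφ.2 (d.coeff 0)
    refine Or.inl ⟨⟨e, fun y => ⟨hφ.1 ?_, hφ.1 ?_⟩⟩, hneq⟩
    · rw [ei, ← eval_toPol_map, ← hcd i, hPi, eval_pow, hd.eq_X_add_C hd1, eval_add, eval_X, eval_C, ← he,
        map_pow, map_add, show k = 2 by omega]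
    · rw [ej, ← eval_toPol_map, ← hcd j, hPj, eval_pow, hd.eq_X_add_C hd1, eval_add, eval_X, eval_C, ← he,
        map_pow, map_add, show k' = 3 by omega]
  have hlenhc : ∀ i, hc i ∈ atoms → (hc i).length = (P i).natDegree + 1 := fun i hi => by
    rw [(hsmall i hi).2.2, hlen]
  have hu : ∀ q ∈ m, ∀ q' ∈ m, q ∈ atoms → q' ∈ atoms → q.length = q'.length → q = q' := by
    intro q hq q' hq' ha ha' hl
    obtain ⟨i, rfl⟩ := hmi q hq
    obtain ⟨j, rfl⟩ := hmi q' hq'
    rw [hlenhc i ha, hlenhc j ha'] at hl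
    by_cases hP : P i = P j
    · rw [(hsmall i ha).2.2, (hsmall j ha').2.2]
      refine List.ext_getElem (by rw [hlen, hlen, hP]) fun l h1 h2 => ?_
      have hinj : ∀ a < 4, ∀ b < 4, K.ofCode a = K.ofCode b → a = b := by decide
      have hl1 := hlt i l
      have hl2 := hlt j l
      rw [List.getD_eq_getElem _ _ h1] at hl1
      rw [List.getD_eq_getElem _ _ h2] at hl2
      refine hinj _ hl1 _ hl2 (hφ.1 ?_)
      rw [← List.getD_eq_getElem _ 0 h1, ← List.getD_eq_getElem _ 0 h2, ← coeff_polC, ← coeff_polC, ← hcd i, ← hcd j,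
        hP]
    · rcases hpair i j ha ha' hP with ⟨-, h⟩ | h <;> omega
  have hcompat : ∀ q ∈ m, ∀ q' ∈ m, q ∈ atoms → q' ∈ atoms → q.length = 3 → q'.length = 4 → compat q q' := by
    intro q hq q' hq' ha ha' hl hl'
    obtain ⟨i, rfl⟩ := hmi q hq
    obtain ⟨j, rfl⟩ := hmi q' hq'
    rw [hlenhc i ha] at hl
    rw [hlenhc j ha'] at hl'
    rcases hpair i j ha ha' (fun e => by rw [e] at hl; omega) with ⟨h, -⟩ | h
    · exact h
    · omega
  have hex : (m.map ex).sum % 3 = 0 := by
    have hprod := (BDec.det rfl hb).symm.trans hdet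
    have hterm' : ∀ i, (-1 : F) ^ (P i).natDegree * (P i).coeff 0 = φ K.w ^ ex (hc i) := fun i => by
      have hex' : ex (hc i) = ex [(hc i).getD 0 0] := by
        cases hc i <;> rfl
      rw [show (-1 : F) = 1 from neg_eq_self φ 1, one_pow, one_mul, hcd i, coeff_polC, hex', hhc0,
        ex_pow φ _ (hlt i 0) (hhead i)]
    rw [dprod, Finset.prod_congr rfl fun i _ => hterm' i, Finset.prod_pow_eq_pow_sum] at hprod
    rw [hmdef, Multiset.map_map]
    show (∑ i, ex (hc i)) % 3 = 0
    generalize (∑ i, ex (hc i)) = N at hprod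
    rw [← Nat.mod_add_div N 3, pow_add, pow_mul, ← map_pow φ K.w 3, show K.w ^ 3 = 1 by decide, map_one, one_pow,
      mul_one, ← map_pow, ← map_one φ] at hprod
    have := hφ.1 hprod
    have hlt3 := Nat.mod_lt N (show 0 < 3 by omega)
    generalize N % 3 = r at this hlt3
    interval_cases r <;> revert this <;> decide
  have hdefault : ∀ i, polC φ (hc i) = P i ∨ ((polC φ (hc i)).Monic ∧ 1 ≤ (polC φ (hc i)).natDegree ∧
      (polC φ (hc i)).natDegree + 3 ≤ (P i).natDegree ∧ (polC φ (hc i)).coeff 0 = (P i).coeff 0) := fun i => by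
    by_cases h3 : (P i).natDegree ≤ 3
    · exact Or.inl (by rw [show hc i = cd i from if_pos h3, ← hcd i])
    · rw [show hc i = [(cd i).getD 0 0, 1] from if_neg h3]
      have h := polC_monic φ (q := [(cd i).getD 0 0, 1]) (by simp) (by simp)
      refine Or.inr ⟨h.1, by rw [h.2]; simp, by rw [h.2]; simp; omega, ?_⟩
      rw [hcd i, coeff_polC, coeff_polC]
      rfl
  rcases facC_or_bad φ (fun q hq => by obtain ⟨i, rfl⟩ := hmi q hq; exact hmem i) hu hcompat hex with h | hbad
  · exact ⟨fun i => polC φ (hc i), by rwa [FacC, hmdef, Multiset.map_map] at h, hdefault⟩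
  -- a bad family has a big block, whose head is changed
  by_cases hbig : ∃ i, 4 ≤ (P i).natDegree
  · obtain ⟨i, hi⟩ := hbig
    have hci : hc i = [(cd i).getD 0 0, 1] := if_neg (by omega)
    have hin : [(cd i).getD 0 0, 1] ∈ m := hci ▸ Multiset.mem_map_of_mem hc (Finset.mem_univ_val i)
    suffices ∃ q, FacC φ (q ::ₘ m.erase [(cd i).getD 0 0, 1]) ∧ (polC φ q = P i ∨ ((polC φ q).Monic ∧
        1 ≤ (polC φ q).natDegree ∧ (polC φ q).natDegree + 3 ≤ (P i).natDegree ∧
          (polC φ q).coeff 0 = (P i).coeff 0)) by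
      obtain ⟨q, hfac, hq⟩ := this
      refine ⟨fun l => polC φ (Function.update hc i q l), ?_, fun l => ?_⟩
      · rw [FacC, ← hci, hmdef, ← map_update hc i q, Multiset.map_map] at hfac
        exact hfac
      · by_cases hl : l = i
        · subst hl; simp only [Function.update_self]; exact hq
        · simp only [Function.update_of_ne hl]; exact hdefault l
    -- the replacement code: a quartic block itself, or a quadratic head
    let qh : List ℕ := if (P i).natDegree = 4 then cd i else [(cd i).getD 0 0, if (cd i).getD 0 0 = 1 then 2 else 1, 1]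
    refine ⟨qh, ?_, ?_⟩
    · have hq4 : (P i).natDegree = 4 → ∃ b c d, b < 4 ∧ c < 4 ∧ d < 4 ∧ cd i = [(cd i).getD 0 0, b, c, d, 1] := by
        intro h4
        have hl := hlen i
        have hl4 := hlast i
        rw [h4] at hl hl4
        match hcdi : cd i, hl with
        | [a, b, c, d, e], _ =>
          rw [hcdi] at hl4
          simp only [List.getD_cons_succ, List.getD_cons_zero] at hl4
          subst hl4
          refine ⟨b, c, d, ?_, ?_, ?_, rfl⟩
          · simpa [hcdi] using hlt i 1
          · simpa [hcdi] using hlt i 2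
          · simpa [hcdi] using hlt i 3
      rcases hbad with e | e | e | e | e
      · rw [e] at hin ⊢
        have ha : (cd i).getD 0 0 = 1 := by simpa using hin
        have hgoal : FacC φ ↑[qh] := by
          by_cases h4 : (P i).natDegree = 4
          · obtain ⟨b, c, d, hb', hc', hd', he⟩ := hq4 h4
            rw [show qh = cd i from if_pos h4, he, ha]
            exact facC_of_certifiedQ φ (quartic_certified b hb' c hc' d hd').1
          · simp only [qh, if_neg h4, ha, if_true]
            exact facC_of_certified φ (by decide +kernel)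
        rw [ha]
        simpa using hgoal
      · rw [e] at hin ⊢
        have ha : (cd i).getD 0 0 = 2 := by simpa using hin
        have hgoal : FacC φ ↑[qh, [2, 1], [2, 1]] := by
          by_cases h4 : (P i).natDegree = 4
          · obtain ⟨b, c, d, hb', hc', hd', he⟩ := hq4 h4
            rw [show qh = cd i from if_pos h4, he, ha]
            exact facC_of_certifiedQ φ (quartic_certified b hb' c hc' d hd').2.2.1
          · simp only [qh, if_neg h4, ha, show (2 : ℕ) ≠ 1 by decide, if_false]
            exact facC_of_certified φ (by decide +kernel)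
        rw [ha]
        simpa using hgoal
      · rw [e] at hin ⊢
        have ha : (cd i).getD 0 0 = 3 := by simpa using hin
        have hgoal : FacC φ ↑[qh, [3, 1], [3, 1]] := by
          by_cases h4 : (P i).natDegree = 4
          · obtain ⟨b, c, d, hb', hc', hd', he⟩ := hq4 h4
            rw [show qh = cd i from if_pos h4, he, ha]
            exact facC_of_certifiedQ φ (quartic_certified b hb' c hc' d hd').2.2.2
          · simp only [qh, if_neg h4, ha, show (3 : ℕ) ≠ 1 by decide, if_false]
            exact facC_of_certified φ (by decide +kernel)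
        rw [ha]
        simpa using hgoal
      · rw [e] at hin
        simp at hin
      · rw [e] at hin ⊢
        have ha : (cd i).getD 0 0 = 1 := by simpa using hin
        have hgoal : FacC φ ↑[[1, 0, 1], qh] := by
          by_cases h4 : (P i).natDegree = 4
          · obtain ⟨b, c, d, hb', hc', hd', he⟩ := hq4 h4
            rw [show qh = cd i from if_pos h4, he, ha]
            exact facC_of_certifiedQ φ (quartic_certified b hb' c hc' d hd').2.1
          · simp only [qh, if_neg h4, ha, if_true]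
            exact facC_of_certified φ (by decide +kernel)
        rw [ha]
        refine (Eq.mpr (congrArg _ ?_) hgoal)
        rw [show ((↑[[1, 0, 1], [1, 1]] : Multiset (List ℕ)).erase [1, 1]) = ↑[[1, 0, 1]] by decide]
        exact Multiset.coe_eq_coe.2 (List.Perm.swap _ _ _)
    · by_cases h4 : (P i).natDegree = 4
      · exact Or.inl (by rw [show qh = cd i from if_pos h4, ← hcd i])
      · simp only [qh, if_neg h4]
        have h := polC_monic φ (q := [(cd i).getD 0 0, if (cd i).getD 0 0 = 1 then 2 else 1, 1]) (by simp) (by simp)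
        refine Or.inr ⟨h.1, by rw [h.2]; simp, by rw [h.2]; simp; omega, ?_⟩
        rw [hcd i, coeff_polC, coeff_polC]
        rfl
  -- otherwise the map itself is exceptional
  push_neg at hbig
  have hP : ∀ i, P i = polC φ (hc i) := fun i => by
    rw [show hc i = cd i from if_pos (by have := hbig i; omega), ← hcd i]
  have hkill : ∀ i, aeval S (polC φ (hc i)) (x i) = 0 := fun i => hP i ▸ hb.kill i
  have hscalar : ∀ a, (∀ i, hc i = [a, 1]) → False := fun a ha => hns (φ (K.ofCode a)) (LinearMap.ext fun z => by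
    obtain ⟨p, rfl⟩ := hb.span z
    rw [map_sum, LinearMap.smul_apply, Module.End.one_apply, Finset.smul_sum]
    refine Finset.sum_congr rfl fun i _ => ?_
    have hc : aeval S (X * p i) = aeval S (p i * X) := by rw [mul_comm]
    rw [map_mul, map_mul, aeval_X] at hc
    rw [← Module.End.mul_apply, hc, Module.End.mul_apply,
      root_of_linear (φ := φ) (S := S) (v := x i) a (ha i ▸ hkill i), map_smul])
  have hall : ∀ {l : List (List ℕ)}, m = ↑l → ∀ i, hc i ∈ l := fun {l} e i => by
    have := Multiset.mem_map_of_mem hc (Finset.mem_univ_val i)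
    rwa [← hmdef, e, Multiset.mem_coe] at this
  have hsq : polC φ [1, 0, 1] = (X - 1) ^ 2 := by
    have h2 : (2 : F) = 0 := by
      rw [← one_add_one_eq_two]
      exact add_eq_zero_iff_eq_neg.2 (neg_eq_self φ 1).symm
    have h2' : (2 : F[X]) = 0 := by rw [← map_ofNat C 2, h2, map_zero]
    have e : polC φ [1, 0, 1] = X ^ 2 + 1 := by
      simp [polC, toPol, K.ofCode, Polynomial.map_add, Polynomial.map_mul]
      ring
    rw [e]
    linear_combination (X : F[X]) * h2'
  have hjordan : (∀ i, hc i = [1, 1] ∨ hc i = [1, 0, 1]) →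
      (∀ i j, hc i = [1, 0, 1] → hc j = [1, 0, 1] → i = j) → False := by
    intro hor huniq
    have hone : ∀ i, hc i = [1, 1] → (S - 1) (x i) = 0 := fun i hi => by
      rw [LinearMap.sub_apply, root_of_linear 1 (hi ▸ hkill i)]
      simp [K.ofCode]
    have htwo : ∀ i, hc i = [1, 0, 1] → (S - 1) ((S - 1) (x i)) = 0 := fun i hi => by
      have := hi ▸ hkill i
      rwa [hsq, map_pow, map_sub, aeval_X, map_one, pow_two, Module.End.mul_apply] at this
    obtain ⟨w, hw⟩ : ∃ w : V, ∀ i, (S - 1) (x i) ∈ Submodule.span F {w} ∧ (S - 1) ((S - 1) (x i)) = 0 := by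
      by_cases hj : ∃ j, hc j = [1, 0, 1]
      · obtain ⟨j, hj⟩ := hj
        refine ⟨(S - 1) (x j), fun i => ?_⟩
        rcases hor i with h | h
        · exact ⟨by rw [hone i h]; exact zero_mem _, by rw [hone i h, map_zero]⟩
        · exact ⟨by rw [huniq i j h hj]; exact Submodule.mem_span_singleton_self _, htwo i h⟩
      · push_neg at hj
        exact ⟨0, fun i => ⟨by rw [hone i ((hor i).resolve_right (hj i))]; exact zero_mem _,
          by rw [hone i ((hor i).resolve_right (hj i)), map_zero]⟩⟩
    have hle : LinearMap.range (S - 1) ≤ Submodule.span F {w} := by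
      rintro _ ⟨z, rfl⟩
      obtain ⟨p, rfl⟩ := hb.span z
      rw [map_sum]
      refine Submodule.sum_mem _ fun i _ => ?_
      obtain ⟨r, hr⟩ := X_sub_C_dvd_sub_C_eval (a := (1 : F)) (p := p i)
      have ep : p i = C ((p i).eval 1) + (X - C 1) * r := by rw [← hr]; ring
      have e1 : (S - 1) (aeval S (p i) (x i)) = (p i).eval 1 • (S - 1) (x i) := by
        conv_lhs => rw [ep]
        rw [map_add, map_mul, aeval_C, map_sub, aeval_X, aeval_C, map_one, LinearMap.add_apply,
          Module.algebraMap_end_apply, map_add, map_smul, Module.End.mul_apply]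
        have hcomm : (S - 1) ((S - 1) (aeval S r (x i))) = aeval S r ((S - 1) ((S - 1) (x i))) := by
          have : aeval S ((X - 1) * (X - 1) * r) = aeval S (r * ((X - 1) * (X - 1))) := by rw [mul_comm]
          simpa [map_mul, Module.End.mul_apply] using LinearMap.congr_fun this (x i)
        rw [hcomm, (hw i).2, map_zero, add_zero]
      rw [e1]
      exact Submodule.smul_mem _ _ (hw i).1
    have h1 := Submodule.finrank_mono hle
    have h2 : finrank F (Submodule.span F {w}) ≤ 1 := by
      refine (finrank_span_le_card ({w} : Set V)).trans ?_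
      simp
    omega
  exfalso
  rcases hbad with e | e | e | e | e
  · exact hscalar 1 fun i => by simpa using hall e i
  · exact hscalar 2 fun i => by simpa using hall e i
  · exact hscalar 3 fun i => by simpa using hall e i
  all_goals
    refine hjordan (fun i => by have := hall e i; simp at this; tauto) fun i j hi hj => ?_
    by_contra hne
    have h2 : 2 ≤ m.count [1, 0, 1] := by
      rw [hmdef, Multiset.count_map, ← Finset.filter_val, ← Finset.card_def]
      exact Finset.one_lt_card.2 ⟨i, by simp [hi], j, by simp [hj], hne⟩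
    rw [e] at h2
    simp at h2

end CfsgLib.OreLevi.Four
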