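import Cfsg.Agent.Lib.SLComm.Split

/-!
Factorisations `S = L z L⁻¹ z⁻¹` with `L` killed by a given polynomial, and the gluing of two
coprime ones by a lower and an upper triangular block.
-/

set_option autoImplicit false
set_option linter.unusedSectionVars false

namespace CfsgLib.OreLevi.Four

open Polynomial Module CfsgLib.SLComm

attribute [-instance] Fintype.subtypeEq Fintype.subtypeEq'

universe u

variable {F : Type u} [Field F]
variable {V : Type u} [AddCommGroup V] [Module F V] [FiniteDimensional F V]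
variable {W : Type u} [AddCommGroup W] [Module F W] [FiniteDimensional F W]

/-- `S` is a commutator of determinant-one maps, the first killed by `R`. -/
def Fac (R : F[X]) (S : End F V) : Prop :=
  ∃ L z : End F V, S * z * L = L * z ∧ LinearMap.det z = 1 ∧ LinearMap.det L = 1 ∧ aeval L R = 0

theorem Fac.mono {R R' : F[X]} {S : End F V} (h : Fac R S) (hd : R ∣ R') : Fac R' S := by
  obtain ⟨L, z, he, hz, hL, hR⟩ := h
  obtain ⟨q, rfl⟩ := hd
  exact ⟨L, z, he, hz, hL, by rw [map_mul, hR, zero_mul]⟩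

theorem Fac.conj {R : F[X]} {T : End F W} (h : Fac R T) (e : W ≃ₗ[F] V) :
    Fac R ((e : W →ₗ[F] V) ∘ₗ T ∘ₗ (e.symm : V →ₗ[F] W)) := by
  obtain ⟨L, z, he, hz, hL, hR⟩ := h
  have hap : ∀ A : End F W, (e.conjAlgEquiv F A : End F V) = (e : W →ₗ[F] V) ∘ₗ A ∘ₗ (e.symm : V →ₗ[F] W) :=
    fun A => LinearMap.ext fun v => by simp [LinearEquiv.conjAlgEquiv]
  refine ⟨e.conjAlgEquiv F L, e.conjAlgEquiv F z, ?_, ?_, ?_, ?_⟩
  · rw [← hap, ← map_mul, ← map_mul, ← map_mul, he]
  · rw [hap, LinearMap.det_conj, hz]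
  · rw [hap, LinearMap.det_conj, hL]
  · rw [aeval_algHom_apply, hR, map_zero]

theorem Fac.prod {R : F[X]} {S : End F V} {T : End F W} (hS : Fac R S) (hT : Fac R T) :
    Fac R (LinearMap.prodMap S T) := by
  obtain ⟨L, z, he, hz, hL, hR⟩ := hS
  obtain ⟨L', z', he', hz', hL', hR'⟩ := hT
  refine ⟨LinearMap.prodMap L L', LinearMap.prodMap z z', ?_, ?_, ?_, ?_⟩
  · rw [LinearMap.prodMap_mul, LinearMap.prodMap_mul, LinearMap.prodMap_mul, he, he']
  · rw [LinearMap.det_prodMap, hz, hz', one_mul]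
  · rw [LinearMap.det_prodMap, hL, hL', one_mul]
  · rw [show LinearMap.prodMap L L' = LinearMap.prodMapAlgHom F V W (L, L') from rfl, aeval_algHom_apply,
      aeval_prod_apply, hR, hR']
    exact map_zero _

theorem fac_of_finrank_zero (R : F[X]) (S : End F V) (h : finrank F V = 0) : Fac R S := by
  haveI : Subsingleton V := Module.finrank_zero_iff.1 h
  exact ⟨1, 1, Subsingleton.elim _ _, map_one _, map_one _, Subsingleton.elim _ _⟩

/-- The lower unitriangular map. -/
def Lb (C : V →ₗ[F] W) : End F (V × W) :=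
  (LinearMap.fst F V W).prod (C ∘ₗ LinearMap.fst F V W + LinearMap.snd F V W)

/-- The upper unitriangular map. -/
def Ub (B : W →ₗ[F] V) : End F (V × W) :=
  (LinearMap.fst F V W + B ∘ₗ LinearMap.snd F V W).prod (LinearMap.snd F V W)

theorem Lb_apply (C : V →ₗ[F] W) (p : V × W) : Lb C p = (p.1, C p.1 + p.2) := rfl

theorem Ub_apply (B : W →ₗ[F] V) (p : V × W) : Ub B p = (p.1 + B p.2, p.2) := rfl

theorem Lb_mul (C C' : V →ₗ[F] W) : Lb C * Lb C' = Lb (C + C') :=
  LinearMap.ext fun p => by simp [Lb_apply, add_assoc]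

theorem Ub_mul (B B' : W →ₗ[F] V) : Ub B * Ub B' = Ub (B + B') :=
  LinearMap.ext fun p => Prod.ext (by simp [Ub_apply]; abel) (by simp [Ub_apply])

theorem Lb_zero : Lb (0 : V →ₗ[F] W) = 1 := LinearMap.ext fun p => by simp [Lb_apply]

theorem Ub_zero : Ub (0 : W →ₗ[F] V) = 1 := LinearMap.ext fun p => by simp [Ub_apply]

theorem det_Lb (C : V →ₗ[F] W) : LinearMap.det (Lb C) = 1 := by
  let b₁ := Module.finBasis F V
  let b₂ := Module.finBasis F W
  rw [← LinearMap.det_toMatrix (b₁.prod b₂), ← Matrix.fromBlocks_toBlocks (LinearMap.toMatrix _ _ (Lb C))]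
  have h11 : (LinearMap.toMatrix (b₁.prod b₂) (b₁.prod b₂) (Lb C)).toBlocks₁₁ = 1 := by
    ext i j
    simp [Matrix.toBlocks₁₁, LinearMap.toMatrix_apply, Lb_apply, Matrix.one_apply, Finsupp.single_apply, eq_comm]
  have h12 : (LinearMap.toMatrix (b₁.prod b₂) (b₁.prod b₂) (Lb C)).toBlocks₁₂ = 0 := by
    ext i j
    simp [Matrix.toBlocks₁₂, LinearMap.toMatrix_apply, Lb_apply]
  have h22 : (LinearMap.toMatrix (b₁.prod b₂) (b₁.prod b₂) (Lb C)).toBlocks₂₂ = 1 := by
    ext i j
    simp [Matrix.toBlocks₂₂, LinearMap.toMatrix_apply, Lb_apply, Matrix.one_apply, Finsupp.single_apply, eq_comm]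
  rw [h11, h12, h22, Matrix.det_fromBlocks_zero₁₂, Matrix.det_one, Matrix.det_one, one_mul]

theorem det_Ub (B : W →ₗ[F] V) : LinearMap.det (Ub B) = 1 := by
  let b₁ := Module.finBasis F V
  let b₂ := Module.finBasis F W
  rw [← LinearMap.det_toMatrix (b₁.prod b₂), ← Matrix.fromBlocks_toBlocks (LinearMap.toMatrix _ _ (Ub B))]
  have h11 : (LinearMap.toMatrix (b₁.prod b₂) (b₁.prod b₂) (Ub B)).toBlocks₁₁ = 1 := by
    ext i j
    simp [Matrix.toBlocks₁₁, LinearMap.toMatrix_apply, Ub_apply, Matrix.one_apply, Finsupp.single_apply, eq_comm]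
  have h21 : (LinearMap.toMatrix (b₁.prod b₂) (b₁.prod b₂) (Ub B)).toBlocks₂₁ = 0 := by
    ext i j
    simp [Matrix.toBlocks₂₁, LinearMap.toMatrix_apply, Ub_apply]
  have h22 : (LinearMap.toMatrix (b₁.prod b₂) (b₁.prod b₂) (Ub B)).toBlocks₂₂ = 1 := by
    ext i j
    simp [Matrix.toBlocks₂₂, LinearMap.toMatrix_apply, Ub_apply, Matrix.one_apply, Finsupp.single_apply, eq_comm]
  rw [h11, h21, h22, Matrix.det_fromBlocks_zero₂₁, Matrix.det_one, Matrix.det_one, one_mul]

/-- The Sylvester equation of two maps with coprime annihilators. -/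
theorem exists_sylvester {R₁ R₂ : F[X]} (hco : IsCoprime R₁ R₂) {L₁ : End F V} {L₂ : End F W}
    (h₁ : aeval L₁ R₁ = 0) (h₂ : aeval L₂ R₂ = 0) (Z : V →ₗ[F] W) :
    ∃ X : V →ₗ[F] W, X ∘ₗ L₁ - L₂ ∘ₗ X = Z := by
  let T : (V →ₗ[F] W) →ₗ[F] (V →ₗ[F] W) :=
    { toFun := fun X => X ∘ₗ L₁ - L₂ ∘ₗ X
      map_add' := fun X Y => by rw [LinearMap.add_comp, LinearMap.comp_add]; abel
      map_smul' := fun c X => by rw [LinearMap.smul_comp, LinearMap.comp_smul, RingHom.id_apply, smul_sub] }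
  have hinj : Function.Injective T := by
    refine (injective_iff_map_eq_zero _).2 fun X hX => ?_
    have hc : X ∘ₗ L₁ = L₂ ∘ₗ X := sub_eq_zero.1 hX
    have hp : ∀ p : F[X], X ∘ₗ aeval L₁ p = aeval L₂ p ∘ₗ X := fun p => by
      induction p using Polynomial.induction_on with
      | C c => exact LinearMap.ext fun v => by simp
      | add p q hp hq => rw [map_add, map_add, LinearMap.comp_add, LinearMap.add_comp, hp, hq]
      | monomial k c ih =>
        have e : C c * Polynomial.X ^ (k + 1) = Polynomial.X * (C c * Polynomial.X ^ k) := by ring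
        rw [e, map_mul (aeval L₁) Polynomial.X, map_mul (aeval L₂) Polynomial.X, aeval_X, aeval_X, Module.End.mul_eq_comp, Module.End.mul_eq_comp,
          ← LinearMap.comp_assoc, hc, LinearMap.comp_assoc, ih, ← LinearMap.comp_assoc]
    obtain ⟨a, b, hab⟩ := hco
    have e := hp R₁
    rw [h₁, LinearMap.comp_zero] at e
    have e2 : aeval L₂ (a * R₁) = 1 := by
      rw [show a * R₁ = 1 - b * R₂ by rw [← hab]; ring, map_sub, map_one, map_mul, h₂, mul_zero, sub_zero]
    calc X = aeval L₂ (a * R₁) ∘ₗ X := by rw [e2]; rfl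
      _ = 0 := by rw [map_mul, Module.End.mul_eq_comp, LinearMap.comp_assoc, ← e, LinearMap.comp_zero]
  obtain ⟨X, hX⟩ := LinearMap.injective_iff_surjective.1 hinj Z
  exact ⟨X, hX⟩

/-- Gluing two coprime factorisations. -/
theorem Fac.glue {R₁ R₂ : F[X]} (hco : IsCoprime R₁ R₂) {G₁ : End F V} {G₂ : End F W} (h₁ : Fac R₁ G₁)
    (h₂ : Fac R₂ G₂) (C : V →ₗ[F] W) (B : W →ₗ[F] V) :
    Fac (R₁ * R₂) (Lb C * LinearMap.prodMap G₁ G₂ * Ub B) := by
  obtain ⟨L₁, z₁, he₁, hz₁, hl₁, hR₁⟩ := h₁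
  obtain ⟨L₂, z₂, he₂, hz₂, hl₂, hR₂⟩ := h₂
  obtain ⟨z₁', hz₁'⟩ : ∃ z' : End F V, z₁ * z' = 1 ∧ z' * z₁ = 1 := by
    have hu : IsUnit z₁ := (LinearMap.isUnit_iff_isUnit_det z₁).2 (by rw [hz₁]; exact isUnit_one)
    obtain ⟨u, rfl⟩ := hu
    exact ⟨↑u⁻¹, u.mul_inv, u.inv_mul⟩
  obtain ⟨z₂', hz₂'⟩ : ∃ z' : End F W, z₂ * z' = 1 ∧ z' * z₂ = 1 := by
    have hu : IsUnit z₂ := (LinearMap.isUnit_iff_isUnit_det z₂).2 (by rw [hz₂]; exact isUnit_one)
    obtain ⟨u, rfl⟩ := hu
    exact ⟨↑u⁻¹, u.mul_inv, u.inv_mul⟩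
  obtain ⟨X, hX⟩ := exists_sylvester hco hR₁ hR₂ (C ∘ₗ L₁)
  obtain ⟨Y', hY'⟩ := exists_sylvester hco.symm hR₂ hR₁ (-(z₁' ∘ₗ B ∘ₗ z₂ ∘ₗ L₂))
  let Y : W →ₗ[F] V := z₁ ∘ₗ Y' ∘ₗ z₂'
  have hXm : Lb (-X) * Lb X = 1 := by rw [Lb_mul, neg_add_cancel, Lb_zero]
  refine ⟨Lb X * LinearMap.prodMap L₁ L₂ * Lb (-X), Ub Y * LinearMap.prodMap z₁ z₂ * Lb (-X), ?_, ?_, ?_, ?_⟩
  · have hL : Lb X * LinearMap.prodMap L₁ L₂ = Lb C * LinearMap.prodMap L₁ L₂ * Lb X := by
      refine LinearMap.ext fun p => Prod.ext (by simp [Lb_apply]) ?_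
      have := LinearMap.congr_fun hX p.1
      simp only [LinearMap.sub_apply, LinearMap.comp_apply, sub_eq_iff_eq_add] at this
      simp [Lb_apply, this]
      abel
    have h2 : Ub B * Ub Y * LinearMap.prodMap z₁ z₂ * LinearMap.prodMap L₁ L₂ =
        LinearMap.prodMap z₁ z₂ * LinearMap.prodMap L₁ L₂ * Ub Y' := by
      refine LinearMap.ext fun p => Prod.ext ?_ (by simp [Ub_apply])
      have := congrArg z₁ (LinearMap.congr_fun hY' p.2)
      simp only [LinearMap.sub_apply, LinearMap.comp_apply, LinearMap.neg_apply, map_sub, map_neg,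
        ← Module.End.mul_apply, hz₁'.1] at this
      simp only [Module.End.mul_apply, Module.End.one_apply] at this
      simp only [Y, Module.End.mul_apply, Ub_apply, LinearMap.prodMap_apply, map_add, LinearMap.comp_apply]
      rw [show z₂' (z₂ (L₂ p.2)) = L₂ p.2 from LinearMap.congr_fun hz₂'.2 _]
      rw [sub_eq_iff_eq_add] at this
      rw [this]
      abel
    have hY : LinearMap.prodMap z₁ z₂ * Ub Y' = Ub Y * LinearMap.prodMap z₁ z₂ := by
      refine LinearMap.ext fun p => Prod.ext ?_ (by simp [Ub_apply])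
      simp only [Y, Module.End.mul_apply, Ub_apply, LinearMap.prodMap_apply, map_add, LinearMap.comp_apply]
      rw [show z₂' (z₂ p.2) = p.2 from LinearMap.congr_fun hz₂'.2 _]
    calc Lb C * LinearMap.prodMap G₁ G₂ * Ub B * (Ub Y * LinearMap.prodMap z₁ z₂ * Lb (-X)) *
          (Lb X * LinearMap.prodMap L₁ L₂ * Lb (-X))
        = Lb C * LinearMap.prodMap G₁ G₂ * (Ub B * Ub Y * LinearMap.prodMap z₁ z₂ * (Lb (-X) * Lb X) *
            LinearMap.prodMap L₁ L₂) * Lb (-X) := by simp only [mul_assoc]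
      _ = Lb C * LinearMap.prodMap G₁ G₂ * (LinearMap.prodMap z₁ z₂ * LinearMap.prodMap L₁ L₂ * Ub Y') * Lb (-X) := by
          rw [hXm, mul_one, h2]
      _ = Lb C * (LinearMap.prodMap G₁ G₂ * LinearMap.prodMap z₁ z₂ * LinearMap.prodMap L₁ L₂) * Ub Y' * Lb (-X) := by
          simp only [mul_assoc]
      _ = Lb C * LinearMap.prodMap L₁ L₂ * (LinearMap.prodMap z₁ z₂ * Ub Y') * Lb (-X) := by
          rw [LinearMap.prodMap_mul, LinearMap.prodMap_mul, he₁, he₂, ← LinearMap.prodMap_mul]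
          simp only [mul_assoc]
      _ = Lb X * LinearMap.prodMap L₁ L₂ * Lb (-X) * (Ub Y * LinearMap.prodMap z₁ z₂ * Lb (-X)) := by
          rw [hY, hL]
          have e : Lb X * Lb (-X) = 1 := by rw [Lb_mul, add_neg_cancel, Lb_zero]
          simp only [mul_assoc]
          rw [← mul_assoc (Lb X) (Lb (-X)), e, one_mul]
  · rw [map_mul, map_mul, det_Ub, det_Lb, LinearMap.det_prodMap, hz₁, hz₂, one_mul, one_mul, one_mul]
  · rw [map_mul, map_mul, det_Lb, det_Lb, LinearMap.det_prodMap, hl₁, hl₂, one_mul, one_mul, one_mul]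
  · let u : (End F (V × W))ˣ := ⟨Lb X, Lb (-X), by rw [Lb_mul, add_neg_cancel, Lb_zero], hXm⟩
    let conjHom : End F (V × W) →ₐ[F] End F (V × W) :=
      { toFun := fun A => (u : End F (V × W)) * A * (↑u⁻¹ : End F (V × W))
        map_one' := by simp
        map_mul' := fun A A' => by simp [mul_assoc]
        map_zero' := by simp
        map_add' := fun A A' => by rw [mul_add, add_mul]
        commutes' := fun c => by
          rw [← Algebra.commutes, mul_assoc, Units.mul_inv, mul_one] }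
    rw [show Lb X * LinearMap.prodMap L₁ L₂ * Lb (-X) = conjHom (LinearMap.prodMapAlgHom F V W (L₁, L₂)) from rfl,
      aeval_algHom_apply, aeval_algHom_apply, aeval_prod_apply, map_mul, map_mul, hR₁, hR₂, zero_mul, mul_zero]
    exact (congrArg conjHom (map_zero _)).trans (map_zero _)

/-- A family of cyclic blocks all of whose maps factor. -/
def FacM (R : F[X]) (m : Multiset F[X]) : Prop :=
  ∀ (ι : Type) [Fintype ι] (P : ι → F[X]), (Finset.univ : Finset ι).val.map P = m →
    ∀ (V : Type u) [AddCommGroup V] [Module F V] [FiniteDimensional F V] (S : End F V) (x : ι → V),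
      BDec S x P → Fac R S

theorem facM_zero (R : F[X]) : FacM R 0 := fun ι _ P hP V _ _ _ S x hb => by
  have : IsEmpty ι := ⟨fun i => by simpa [hP] using Multiset.mem_map_of_mem P (Finset.mem_univ i)⟩
  exact fac_of_finrank_zero R S (by rw [← hb.sum]; simp)

theorem exists_le_map {α β : Type*} [DecidableEq α] (f : α → β) :
    ∀ (a : Multiset β) (s : Multiset α), a ≤ s.map f → ∃ t ≤ s, t.map f = a := by
  intro a
  induction a using Multiset.induction with
  | empty => exact fun s _ => ⟨0, Multiset.zero_le _, rfl⟩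
  | cons b a ih =>
    intro s h
    obtain ⟨i, hi, rfl⟩ := Multiset.mem_map.1 (Multiset.mem_of_le h (Multiset.mem_cons_self b a))
    obtain ⟨t, ht, rfl⟩ := ih (s.erase i) (by
      classical
      rw [← Multiset.cons_le_cons_iff (f i), ← Multiset.map_cons, Multiset.cons_erase hi]; exact h)
    exact ⟨i ::ₘ t, (Multiset.cons_le_cons i ht).trans_eq (Multiset.cons_erase hi), Multiset.map_cons _ _ _⟩

theorem FacM.add {R : F[X]} {m₁ m₂ : Multiset F[X]} (h₁ : FacM R m₁) (h₂ : FacM R m₂) : FacM R (m₁ + m₂) := by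
  classical
  intro ι _ P hP V _ _ _ S x hb
  obtain ⟨t, ht, htm⟩ := exists_le_map P m₁ Finset.univ.val (by rw [hP]; exact Multiset.le_add_right _ _)
  let T : Finset ι := ⟨t, Multiset.nodup_of_le ht Finset.univ.nodup⟩
  obtain ⟨p, hp⟩ : ∃ p : ι → Prop, ∀ i, p i ↔ i ∈ T := ⟨_, fun _ => Iff.rfl⟩
  obtain ⟨hc, y, hy⟩ := hb.split p
  obtain ⟨-, y', hy'⟩ := hb.split fun i => ¬ p i
  have hsub : ∀ (q : ι → Prop) [DecidablePred q], (Finset.univ : Finset {i // q i}).val.map (fun i : {i // q i} => P i) =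
      (Finset.univ.filter q).val.map P := fun q _ => by
    rw [← Finset.subtype_univ, ← Finset.subtype_map, Finset.map_val, Multiset.map_map]
    rfl
  have e1 : (Finset.univ.filter p).val.map P = m₁ := by
    rw [show Finset.univ.filter p = T by ext i; simp [hp]]
    exact htm
  have e2 : (Finset.univ.filter fun i => ¬ p i).val.map P = m₂ := by
    have := congrArg (Multiset.map P) (Multiset.filter_add_not p (Finset.univ : Finset ι).val)
    rw [Multiset.map_add, hP, ← Finset.filter_val, ← Finset.filter_val, e1] at this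
    exact add_left_cancel this
  rw [restrict_conj hc (orb_inv S x p) (orb_inv S x fun i => ¬ p i)]
  exact ((h₁ _ _ (by rw [hsub]; exact e1) _ _ _ hy).prod
    (h₂ _ _ (by rw [hsub]; exact e2) _ _ _ hy')).conj _

/-- Two families with the same polynomials differ by a renumbering. -/
theorem exists_equiv_of_map_eq {ι κ : Type} [Fintype ι] [Fintype κ] {α : Type*} {P : ι → α} {Q : κ → α}
    (h : (Finset.univ : Finset κ).val.map Q = (Finset.univ : Finset ι).val.map P) : ∃ e : κ ≃ ι, P ∘ e = Q := by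
  classical
  have hc : ∀ a, Fintype.card {k // Q k = a} = Fintype.card {i // P i = a} := fun a => by
    rw [Fintype.card_subtype, Fintype.card_subtype]
    have := congrArg (Multiset.count a) h
    rw [Multiset.count_map, Multiset.count_map] at this
    rw [Finset.card_def, Finset.card_def, Finset.filter_val, Finset.filter_val]
    simpa only [eq_comm] using this
  refine ⟨Equiv.ofFiberEquiv (f := Q) (g := P) fun a => Fintype.equivOfCardEq (hc a), funext fun k => ?_⟩
  exact Equiv.ofFiberEquiv_map _ k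

theorem facM_of_family {R : F[X]} {κ : Type} [Fintype κ] {Q : κ → F[X]}
    (h : ∀ (V : Type u) [AddCommGroup V] [Module F V] [FiniteDimensional F V] (S : End F V) (x : κ → V),
      BDec S x Q → Fac R S) : FacM R ((Finset.univ : Finset κ).val.map Q) := by
  intro ι _ P hP V _ _ _ S x hb
  obtain ⟨e, he⟩ := exists_equiv_of_map_eq hP.symm
  exact h V S (x ∘ e) (he ▸ hb.reindex e)

end CfsgLib.OreLevi.Four
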