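import Cfsg.Agent.Lib.OreLevi.FactorFourData1
import Cfsg.Agent.Lib.OreLevi.FactorFourData2
import Cfsg.Agent.Lib.OreLevi.FactorFourData3
import Cfsg.Agent.Lib.OreLevi.FactorFourData4

/-!
Families of blocks of degree at most three over the field with four elements: one type of
nonlinear block with any number of linear ones, decomposed into the certified patterns.
-/

set_option autoImplicit false
set_option linter.unusedSectionVars false

namespace CfsgLib.OreLevi.Four

open Polynomial Module CfsgLib.SLComm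

universe u

variable {F : Type u} [Field F]

/-- The table. -/
def table : List (List (List ℕ) × Cert) := table1 ++ table2 ++ table3 ++ table4

/-- The polynomial of a code. -/
noncomputable def polC (φ : K →+* F) (q : List ℕ) : F[X] := (toPol (q.map K.ofCode)).map φ

/-- Every map with these coded blocks factors over the pool. -/
def FacC (φ : K →+* F) (m : Multiset (List ℕ)) : Prop := FacM.{u} (poolPol.map φ) (m.map (polC φ))

theorem facC_zero (φ : K →+* F) : FacC φ 0 := by
  rw [FacC, Multiset.map_zero]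
  exact facM_zero _

theorem FacC.add {φ : K →+* F} {m₁ m₂ : Multiset (List ℕ)} (h₁ : FacC φ m₁) (h₂ : FacC φ m₂) :
    FacC φ (m₁ + m₂) := by
  rw [FacC, Multiset.map_add]
  exact FacM.add h₁ h₂

/-- Whether a list of codes is certified. -/
def certified (l : List (List ℕ)) : Bool := table.any fun e => e.1.length == l.length && e.1.isPerm l

theorem facC_of_certified (φ : K →+* F) {l : List (List ℕ)} (h : certified l = true) : FacC φ ↑l := by
  simp only [certified, List.any_eq_true, Bool.and_eq_true, beq_iff_eq] at h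
  obtain ⟨e, he, -, hperm⟩ := h
  have hc : check (e.1.map (List.map K.ofCode)) e.2 = true := by
    simp only [table, List.mem_append] at he
    rcases he with ((he | he) | he) | he
    exacts [List.all_eq_true.1 table1_check e he, List.all_eq_true.1 table2_check e he,
      List.all_eq_true.1 table3_check e he, List.all_eq_true.1 table4_check e he]
  have := fac_of_check φ hc
  rw [List.map_map] at this
  rw [FacC, Multiset.map_coe, ← Multiset.coe_eq_coe.2 ((List.isPerm_iff.1 hperm).map (polC φ))]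
  exact this

/-- A count vector: blocks of the chosen type and linear blocks with roots `1`, `ω`, `ω + 1`. -/
abbrev Vec := ℕ × ℕ × ℕ × ℕ

/-- The blocks of a vector. -/
def pat (Q : List ℕ) (v : Vec) : List (List ℕ) :=
  List.replicate v.1 Q ++ List.replicate v.2.1 [1, 1] ++ List.replicate v.2.2.1 [2, 1] ++ List.replicate v.2.2.2 [3, 1]

/-- Exchange of the two primitive roots. -/
def swapV (v : Vec) : Vec := (v.1, v.2.1, v.2.2.2, v.2.2.1)

/-- The cores without a nonlinear block. -/
def coresLin : List Vec :=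
  [(0, 2, 0, 0), (0, 3, 0, 0), (0, 0, 1, 1), (0, 1, 1, 1), (0, 1, 3, 0), (0, 2, 3, 0), (0, 0, 6, 0), (0, 0, 9, 0),
    (0, 1, 6, 0), (0, 0, 4, 1), (0, 1, 0, 3), (0, 2, 0, 3), (0, 0, 0, 6), (0, 0, 0, 9), (0, 1, 0, 6), (0, 0, 1, 4)]

/-- The cores for determinant `ω`. -/
def coresW : List Vec :=
  [(1, 0, 0, 1), (1, 0, 2, 0), (2, 0, 1, 0), (3, 0, 0, 0), (1, 1, 0, 1), (1, 1, 2, 0), (1, 0, 5, 0), (2, 1, 1, 0),
    (3, 1, 0, 0), (1, 0, 0, 4)]

/-- The cores of a class. -/
def cores : ℕ → List Vec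
  | 1 => coresLin ++ [(2, 0, 0, 0), (3, 0, 0, 0), (1, 2, 0, 0), (1, 3, 0, 0), (1, 0, 1, 1), (1, 1, 1, 1), (2, 1, 0, 0),
      (3, 1, 0, 0), (1, 0, 3, 0), (1, 1, 3, 0), (1, 0, 6, 0), (2, 0, 3, 0), (1, 0, 0, 3), (1, 1, 0, 3), (1, 0, 0, 6),
      (2, 0, 0, 3)]
  | 2 => coresLin ++ [(1, 0, 0, 0), (1, 1, 0, 0), (1, 0, 3, 0), (1, 0, 0, 3)]
  | 3 => coresLin ++ coresW
  | 4 => coresLin ++ coresW.map swapV
  | _ => coresLin

/-- The nonlinear blocks of a class. -/
def types : ℕ → List (List ℕ)
  | 1 => [[1, 0, 1]]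
  | 2 => [[1, 2, 1], [1, 3, 1], [1, 0, 1, 1], [1, 0, 2, 1], [1, 0, 3, 1], [1, 1, 0, 1], [1, 2, 0, 1], [1, 3, 0, 1],
      [1, 1, 1, 1], [1, 3, 2, 1], [1, 2, 3, 1]]
  | 3 => [[2, 1, 1], [2, 2, 1], [2, 0, 0, 1], [2, 1, 1, 1], [2, 1, 3, 1], [2, 2, 2, 1], [2, 2, 3, 1], [2, 3, 1, 1],
      [2, 3, 2, 1], [2, 0, 1]]
  | 4 => [[3, 1, 1], [3, 3, 1], [3, 0, 0, 1], [3, 1, 1, 1], [3, 1, 2, 1], [3, 2, 1, 1], [3, 2, 3, 1], [3, 3, 2, 1],
      [3, 3, 3, 1], [3, 0, 1]]
  | _ => [[1, 1]]

/-- The exponent of the determinant of a class. -/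
def dexp : ℕ → ℕ
  | 3 => 1
  | 4 => 2
  | _ => 0

/-- The determinant condition. -/
def detc (c : ℕ) (v : Vec) : Bool := (dexp c * v.1 + v.2.2.1 + 2 * v.2.2.2) % 3 == 0

/-- The vectors without factorisation. -/
def bad (c : ℕ) (v : Vec) : Bool :=
  v == (0, 1, 0, 0) || v == (0, 0, 3, 0) || v == (0, 0, 0, 3) || (c == 1 && (v == (1, 0, 0, 0) || v == (1, 1, 0, 0)))

/-- The admissible vectors. -/
def ok (c : ℕ) (v : Vec) : Bool := detc c v && !bad c v

/-- Componentwise order. -/
def leV (k v : Vec) : Bool :=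
  decide (k.1 ≤ v.1) && decide (k.2.1 ≤ v.2.1) && decide (k.2.2.1 ≤ v.2.2.1) && decide (k.2.2.2 ≤ v.2.2.2)

/-- Componentwise difference. -/
def subV (v k : Vec) : Vec := (v.1 - k.1, v.2.1 - k.2.1, v.2.2.1 - k.2.2.1, v.2.2.2 - k.2.2.2)

/-- Whether a vector is a sum of cores. -/
def span : ℕ → ℕ → Vec → Bool
  | 0, _, v => v == (0, 0, 0, 0)
  | f + 1, c, v => v == (0, 0, 0, 0) || (cores c).any fun k => leV k v && (ok c (subV v k) && span f c (subV v k))

theorem cores_certified :
    ((List.range 5).all fun c => (types c).all fun Q => (cores c).all fun k => certified (pat Q k)) = true := by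
  decide +kernel

theorem facC_core (φ : K →+* F) {c : ℕ} (hc : c < 5) {Q : List ℕ} (hQ : Q ∈ types c) {k : Vec} (hk : k ∈ cores c) :
    FacC φ ↑(pat Q k) :=
  facC_of_certified φ
    (List.all_eq_true.1 (List.all_eq_true.1 (List.all_eq_true.1 cores_certified c (List.mem_range.2 hc)) Q hQ) k hk)

theorem pat_sub (Q : List ℕ) {k v : Vec} (h : leV k v = true) :
    (↑(pat Q v) : Multiset (List ℕ)) = ↑(pat Q k) + ↑(pat Q (subV v k)) := by
  obtain ⟨a, b, c, d⟩ := k
  obtain ⟨a', b', c', d'⟩ := v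
  simp only [leV, Bool.and_eq_true, decide_eq_true_eq] at h
  obtain ⟨⟨⟨ha, hb⟩, hc⟩, hd⟩ := h
  simp only [pat, subV, ← Multiset.coe_add, Multiset.coe_replicate]
  conv_lhs => rw [← Nat.add_sub_cancel' ha, ← Nat.add_sub_cancel' hb, ← Nat.add_sub_cancel' hc,
    ← Nat.add_sub_cancel' hd]
  simp only [Multiset.replicate_add]
  abel

theorem facC_span (φ : K →+* F) {c : ℕ} (hc : c < 5) {Q : List ℕ} (hQ : Q ∈ types c) : ∀ (f : ℕ) (v : Vec),
    span f c v = true → FacC φ ↑(pat Q v) := by
  intro f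
  induction f with
  | zero =>
    intro v h
    simp only [span, beq_iff_eq] at h
    subst h
    exact facC_zero φ
  | succ f ih =>
    intro v h
    simp only [span, Bool.or_eq_true, beq_iff_eq, List.any_eq_true, Bool.and_eq_true] at h
    rcases h with rfl | ⟨k, hk, hle, -, hs⟩
    · exact facC_zero φ
    rw [pat_sub Q hle]
    exact (facC_core φ hc hQ hk).add (ih _ hs)

/-- The bound of the first coordinate in the box. -/
def boxB : ℕ → ℕ
  | 1 => 4
  | 2 => 2
  | 3 => 6
  | 4 => 6
  | _ => 1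

theorem box_span : ((List.range 5).all fun c => (List.range (boxB c)).all fun b => (List.range 4).all fun n₀ =>
    (List.range 10).all fun n₁ => (List.range 10).all fun n₂ =>
      (decide (4 ≤ n₁) && decide (4 ≤ n₂)) || !ok c (b, n₀, n₁, n₂) || span 30 c (b, n₀, n₁, n₂)) = true := by
  decide +kernel

theorem bad_false {c b n₀ n₁ n₂ : ℕ}
    (h : (c ≠ 1 ∧ 1 ≤ b) ∨ 2 ≤ b ∨ 2 ≤ n₀ ∨ (1 ≤ n₁ ∧ 1 ≤ n₂) ∨ 4 ≤ n₁ ∨ 4 ≤ n₂) :
    bad c (b, n₀, n₁, n₂) = false := by
  rw [Bool.eq_false_iff]
  intro hb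
  simp only [bad, Bool.or_eq_true, beq_iff_eq, Bool.and_eq_true, Prod.mk.injEq] at hb
  omega

/-- Every admissible family of one class factors. -/
theorem facC_small (φ : K →+* F) {c : ℕ} (hc : c < 5) {Q : List ℕ} (hQ : Q ∈ types c) :
    ∀ v : Vec, ok c v = true → (c = 0 → v.1 = 0) → FacC φ ↑(pat Q v) := by
  suffices H : ∀ (N b n₀ n₁ n₂ : ℕ), b + n₀ + n₁ + n₂ = N → ok c (b, n₀, n₁, n₂) = true → (c = 0 → b = 0) →
      FacC φ ↑(pat Q (b, n₀, n₁, n₂)) from fun ⟨b, n₀, n₁, n₂⟩ h h0 => H _ b n₀ n₁ n₂ rfl h h0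
  intro N
  induction N using Nat.strong_induction_on with
  | _ N ih =>
    intro b n₀ n₁ n₂ hN hok h0
    have hd : (dexp c * b + n₁ + 2 * n₂) % 3 = 0 := by
      simp only [ok, detc, Bool.and_eq_true, beq_iff_eq] at hok
      exact hok.1
    have step : ∀ k : Vec, k ∈ cores c → leV k (b, n₀, n₁, n₂) = true → 0 < k.1 + k.2.1 + k.2.2.1 + k.2.2.2 →
        detc c (subV (b, n₀, n₁, n₂) k) = true → bad c (subV (b, n₀, n₁, n₂) k) = false →
        FacC φ ↑(pat Q (b, n₀, n₁, n₂)) := by
      intro k hk hle hpos hdet hbad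
      rw [pat_sub Q hle]
      obtain ⟨k₁, k₂, k₃, k₄⟩ := k
      simp only [leV, Bool.and_eq_true, decide_eq_true_eq] at hle
      simp only at hpos
      refine (facC_core φ hc hQ hk).add (ih _ ?_ _ _ _ _ rfl ?_ fun e => ?_)
      · simp only [] at hle ⊢; omega
      · show ok c (subV (b, n₀, n₁, n₂) (k₁, k₂, k₃, k₄)) = true
        rw [ok, hdet, hbad]; rfl
      · have := h0 e
        omega
    by_cases hn0 : 4 ≤ n₀
    · exact step (0, 2, 0, 0) (by interval_cases c <;> decide) (by simp [leV]; omega) (by decide)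
        (by simp [detc, subV]; omega) (by simp only [subV]; refine bad_false ?_; omega)
    by_cases hpair : 4 ≤ n₁ ∧ 4 ≤ n₂
    · exact step (0, 0, 1, 1) (by interval_cases c <;> decide) (by simp [leV]; omega) (by decide)
        (by simp [detc, subV]; omega) (by simp only [subV]; refine bad_false ?_; omega)
    by_cases hn1 : 10 ≤ n₁
    · exact step (0, 0, 6, 0) (by interval_cases c <;> decide) (by simp [leV]; omega) (by decide)
        (by simp [detc, subV]; omega) (by simp only [subV]; refine bad_false ?_; omega)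
    by_cases hn2 : 10 ≤ n₂
    · exact step (0, 0, 0, 6) (by interval_cases c <;> decide) (by simp [leV]; omega) (by decide)
        (by simp [detc, subV]; omega) (by simp only [subV]; refine bad_false ?_; omega)
    by_cases hb : boxB c ≤ b
    · interval_cases c
      · have := h0 rfl; simp [boxB] at hb; omega
      · exact step (2, 0, 0, 0) (by decide) (by simp [leV, boxB] at hb ⊢; omega) (by decide)
          (by simp [boxB] at hb; simp [detc, subV, dexp] at hd ⊢; omega) (by simp [boxB] at hb; simp only [subV]; refine bad_false ?_; omega)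
      · exact step (1, 0, 0, 0) (by decide) (by simp [leV, boxB] at hb ⊢; omega) (by decide)
          (by simp [boxB] at hb; simp [detc, subV, dexp] at hd ⊢; omega) (by simp [boxB] at hb; simp only [subV]; refine bad_false ?_; omega)
      · exact step (3, 0, 0, 0) (by decide) (by simp [leV, boxB] at hb ⊢; omega) (by decide)
          (by simp [boxB] at hb; simp [detc, subV, dexp] at hd ⊢; omega) (by simp [boxB] at hb; simp only [subV]; refine bad_false ?_; omega)
      · exact step (3, 0, 0, 0) (by decide) (by simp [leV, boxB] at hb ⊢; omega) (by decide)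
          (by simp [boxB] at hb; simp [detc, subV, dexp] at hd ⊢; omega) (by simp [boxB] at hb; simp only [subV]; refine bad_false ?_; omega)
    have h := List.all_eq_true.1 (List.all_eq_true.1 (List.all_eq_true.1 (List.all_eq_true.1 (List.all_eq_true.1 box_span
      c (List.mem_range.2 hc)) b (List.mem_range.2 (by omega))) n₀ (List.mem_range.2 (by omega)))
      n₁ (List.mem_range.2 (by omega))) n₂ (List.mem_range.2 (by omega))
    simp only [Bool.or_eq_true, Bool.and_eq_true, decide_eq_true_eq, Bool.not_eq_true', hok,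
      Bool.true_eq_false, or_false] at h
    exact facC_span φ hc hQ 30 _ (h.resolve_left hpair)

end CfsgLib.OreLevi.Four
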