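import Cfsg.Agent.Lib.OreLevi.FactorFourCore

/-!
A cyclic map is, in a suitable basis, lower times block diagonal times upper unitriangular, with cyclic
diagonal blocks of prescribed polynomials.
-/

set_option autoImplicit false
set_option linter.unusedSectionVars false

namespace CfsgLib.OreLevi.Four

open Polynomial Module CfsgLib.SLComm

attribute [-instance] Fintype.subtypeEq Fintype.subtypeEq'

universe u

variable {F : Type u} [Field F]

/-- The polynomial with the given coefficients. -/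
noncomputable def po (n : ℕ) : (Fin n → F) →ₗ[F] F[X] :=
  (Polynomial.degreeLT F n).subtype ∘ₗ (Polynomial.degreeLTEquiv F n).symm.toLinearMap

/-- The coefficients below `n`. -/
noncomputable def co (n : ℕ) : F[X] →ₗ[F] (Fin n → F) := LinearMap.pi fun i => Polynomial.lcoeff F i

theorem co_apply (n : ℕ) (p : F[X]) (i : Fin n) : co n p i = p.coeff i := rfl

theorem po_deg {n : ℕ} (x : Fin n → F) : (po n x).degree < n :=
  mem_degreeLT.1 ((Polynomial.degreeLTEquiv F n).symm x).2

theorem po_co {n : ℕ} {p : F[X]} (h : p.degree < n) : po n (co n p) = p := by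
  have : co n p = Polynomial.degreeLTEquiv F n ⟨p, mem_degreeLT.2 h⟩ := rfl
  rw [po, LinearMap.comp_apply, LinearEquiv.coe_coe, this, LinearEquiv.symm_apply_apply]
  rfl

theorem co_po {n : ℕ} (x : Fin n → F) : co n (po n x) = x :=
  (Polynomial.degreeLTEquiv F n).apply_symm_apply x

theorem po_single {n : ℕ} (i : Fin n) : po n (Pi.single i (1 : F)) = X ^ (i : ℕ) := by
  rw [show (Pi.single i (1 : F) : Fin n → F) = co n (X ^ (i : ℕ)) by
    funext j; rw [co_apply, coeff_X_pow, Pi.single_apply]; simp only [Fin.ext_iff], po_co]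
  rw [degree_X_pow]
  exact_mod_cast i.2

/-- The top coefficient. -/
noncomputable def carry (n : ℕ) : (Fin n → F) →ₗ[F] F := (Polynomial.lcoeff F (n - 1)).comp (po n)

/-- Multiplication by `X` modulo `χ`. -/
noncomputable def mulX (χ : F[X]) : End F (Fin χ.natDegree → F) :=
  co χ.natDegree ∘ₗ (LinearMap.mulLeft F X ∘ₗ po χ.natDegree -
    (LinearMap.toSpanSingleton F F[X] χ) ∘ₗ carry χ.natDegree)

theorem deg_mulX {χ : F[X]} (hm : χ.Monic) (ha : 1 ≤ χ.natDegree) (x : Fin χ.natDegree → F) :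
    (X * po χ.natDegree x - carry χ.natDegree x • χ).degree < (χ.natDegree : WithBot ℕ) := by
  refine (degree_lt_iff_coeff_zero _ _).2 fun m hm' => ?_
  obtain ⟨k, rfl⟩ : ∃ k, m = k + 1 := ⟨m - 1, by omega⟩
  rw [coeff_sub, coeff_X_mul, coeff_smul, smul_eq_mul]
  rcases hm'.eq_or_lt with e | e
  · have hk : k = χ.natDegree - 1 := by omega
    rw [← e, hm.coeff_natDegree, mul_one, hk]
    exact sub_self _
  · rw [(degree_lt_iff_coeff_zero _ _).1 (po_deg x) k (by omega), coeff_eq_zero_of_natDegree_lt e, mul_zero, sub_zero]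

theorem po_mulX {χ : F[X]} (hm : χ.Monic) (ha : 1 ≤ χ.natDegree) (x : Fin χ.natDegree → F) :
    po χ.natDegree (mulX χ x) = X * po χ.natDegree x - carry χ.natDegree x • χ := by
  have : mulX χ x = co χ.natDegree (X * po χ.natDegree x - carry χ.natDegree x • χ) := rfl
  rw [this, po_co (deg_mulX hm ha x)]

theorem mulX_pow {χ : F[X]} (hm : χ.Monic) (ha : 1 ≤ χ.natDegree) (p : F[X]) :
    po χ.natDegree (aeval (mulX χ) p (co χ.natDegree 1)) = p %ₘ χ := by
  have h1 : (1 : F[X]).degree < χ.natDegree := by rw [degree_one]; exact_mod_cast ha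
  have hdeg : ∀ x : Fin χ.natDegree → F, (po χ.natDegree x) %ₘ χ = po χ.natDegree x := fun x =>
    (modByMonic_eq_self_iff hm).2 (by rw [degree_eq_natDegree hm.ne_zero]; exact po_deg x)
  induction p using Polynomial.induction_on with
  | C c =>
    rw [aeval_C, Module.algebraMap_end_apply, map_smul, po_co h1,
      (modByMonic_eq_self_iff hm).2 (degree_C_le.trans_lt (by
        rw [degree_eq_natDegree hm.ne_zero]; exact_mod_cast ha)), smul_eq_C_mul, mul_one]
  | add p q hp hq => rw [map_add, LinearMap.add_apply, map_add, hp, hq, add_modByMonic]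
  | monomial k c ih =>
    have e : C c * X ^ (k + 1) = X * (C c * X ^ k) := by ring
    rw [e, map_mul, aeval_X, Module.End.mul_apply, ← hdeg (mulX χ _), po_mulX hm ha, ih]
    set v := aeval (mulX χ) (C c * X ^ k) (co χ.natDegree 1)
    rw [sub_modByMonic, smul_eq_C_mul, (modByMonic_eq_zero_iff_dvd hm).2 (dvd_mul_left χ _), sub_zero,
      mul_modByMonic, (modByMonic_eq_self_iff hm).2 (degree_modByMonic_lt _ hm), ← mul_modByMonic]

theorem cyc_mulX {χ : F[X]} (hm : χ.Monic) (ha : 1 ≤ χ.natDegree) : Cyc (mulX χ) χ := by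
  refine cyc_mk hm (by rw [finrank_fin_fun]) (v := co χ.natDegree 1) (fun w => ⟨po χ.natDegree w, ?_⟩) ?_
  · rw [← co_po (aeval (mulX χ) _ _), mulX_pow hm ha,
      (modByMonic_eq_self_iff hm).2 (by rw [degree_eq_natDegree hm.ne_zero]; exact po_deg w), co_po]
  · rw [← co_po (aeval (mulX χ) _ _), mulX_pow hm ha, modByMonic_self, map_zero]
    exact hm

theorem mulX_injective {χ : F[X]} (hm : χ.Monic) (ha : 1 ≤ χ.natDegree) (h0 : χ.coeff 0 ≠ 0) :
    Function.Injective (mulX χ) := by
  refine (injective_iff_map_eq_zero _).2 fun x hx => ?_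
  have h := po_mulX hm ha x
  rw [hx, map_zero] at h
  have hc := congrArg (fun p => p.coeff 0) h
  simp only [coeff_zero, coeff_sub, coeff_X_mul_zero, coeff_smul, smul_eq_mul, zero_sub, zero_eq_neg,
    mul_eq_zero, h0, or_false] at hc
  rw [hc, zero_smul, sub_zero, eq_comm, mul_eq_zero] at h
  rw [← co_po x, h.resolve_left X_ne_zero, map_zero]

theorem exists_sum_monic {a : ℕ} (ha : 1 ≤ a) : ∀ (m : ℕ) (q : ℕ → F[X]),
    (∀ i, i < m → (q i).Monic ∧ (q i).natDegree + i + 1 = m) → ∀ R : F[X],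
      (∀ l, a + m ≤ l + 1 → R.coeff l = 0) →
      (m = 0 → R = 0) → ∃ B : ℕ → F[X], (∀ i, (B i).degree < a) ∧ ∑ i ∈ Finset.range m, B i * q i = R
  | 0, _, _, R, _, hR => ⟨fun _ => 0, fun _ => by rw [degree_zero]; exact WithBot.bot_lt_coe a, by simp [hR rfl]⟩
  | m + 1, q, hq, R, hR, _ => by
    obtain ⟨hqm, hqd⟩ := hq 0 (Nat.succ_pos m)
    have hA : (R /ₘ q 0).degree < a := by
      rcases eq_or_ne (R /ₘ q 0) 0 with h | h
      · rw [h, degree_zero]; exact WithBot.bot_lt_coe a
      rw [degree_eq_natDegree h, Nat.cast_lt, natDegree_divByMonic _ hqm]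
      have : R.natDegree < a + m := by
        by_contra hge
        have hR0 : R ≠ 0 := fun e => h (by rw [e, zero_divByMonic])
        exact leadingCoeff_ne_zero.2 hR0 (hR _ (by omega))
      omega
    have hdeg : (q 0).natDegree = m := by omega
    have hR' : ∀ l, a + m ≤ l + 1 → (R %ₘ q 0).coeff l = 0 := fun l hl => by
      refine coeff_eq_zero_of_degree_lt ((degree_modByMonic_lt R hqm).trans_le ?_)
      rw [degree_eq_natDegree hqm.ne_zero, Nat.cast_le]
      omega
    obtain ⟨B, hB, hsum⟩ := exists_sum_monic ha m (fun i => q (i + 1))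
      (fun i hi => by obtain ⟨h1, h2⟩ := hq (i + 1) (by omega); exact ⟨h1, by omega⟩) (R %ₘ q 0) hR' fun hm0 => by
        have h1 : q 0 = 1 := eq_one_of_monic_natDegree_zero hqm (by omega)
        rw [h1, modByMonic_one]
    refine ⟨fun i => if i = 0 then R /ₘ q 0 else B (i - 1), fun i => ?_, ?_⟩
    · show (if i = 0 then (R /ₘ q 0 : F[X]) else B (i - 1)).degree < _
      split
      · exact hA
      · exact hB _
    · rw [Finset.sum_range_succ']
      simp only [Nat.succ_ne_zero, if_false, Nat.add_sub_cancel, if_true]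
      rw [hsum, mul_comm, modByMonic_add_div R (q 0)]

/-- The basis polynomials. -/
noncomputable def wpoly (χ₁ : F[X]) (B : ℕ → F[X]) : ℕ → F[X]
  | 0 => χ₁
  | k + 1 => X * (wpoly χ₁ B k - B k)

theorem wpoly_deg {χ₁ : F[X]} (h1 : χ₁.Monic) {B : ℕ → F[X]} (hB : ∀ i, (B i).degree < χ₁.natDegree) :
    ∀ k, (wpoly χ₁ B k).Monic ∧ (wpoly χ₁ B k).natDegree = χ₁.natDegree + k
  | 0 => ⟨h1, rfl⟩
  | k + 1 => by
    obtain ⟨hm, hd⟩ := wpoly_deg h1 hB k
    have hlt : (B k).degree < (wpoly χ₁ B k).degree := by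
      rw [degree_eq_natDegree hm.ne_zero, hd]
      exact (hB k).trans_le (by exact_mod_cast Nat.le_add_right _ _)
    have hm' : (wpoly χ₁ B k - B k).Monic := hm.sub_of_left hlt
    have hd' : (wpoly χ₁ B k - B k).natDegree = χ₁.natDegree + k := by
      rw [natDegree_eq_of_degree_eq (degree_sub_eq_left_of_degree_lt hlt), hd]
    exact ⟨monic_X.mul hm', by rw [wpoly, natDegree_X_mul hm'.ne_zero, hd']; omega⟩

theorem wpoly_sum (χ₁ χ₂ : F[X]) (B : ℕ → F[X]) : ∀ k,
    χ₁ * χ₂ = ∑ j ∈ Finset.range k, C (χ₂.coeff j) * wpoly χ₁ B j + wpoly χ₁ B k * divX^[k] χ₂ +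
      X * ∑ i ∈ Finset.range k, B i * divX^[i + 1] χ₂
  | 0 => by simp [wpoly]
  | k + 1 => by
    rw [wpoly_sum χ₁ χ₂ B k, Finset.sum_range_succ, Finset.sum_range_succ]
    have hc : ∀ (m l : ℕ), (divX^[m] χ₂).coeff l = χ₂.coeff (l + m) := by
      intro m
      induction m with
      | zero => simp
      | succ m ih => intro l; rw [Function.iterate_succ_apply', coeff_divX, ih, add_right_comm, add_assoc]
    have h := X_mul_divX_add (divX^[k] χ₂)
    rw [hc k 0, zero_add, ← Function.iterate_succ_apply' divX k χ₂] at h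
    conv_lhs => rw [← h]
    rw [wpoly]
    ring

theorem divX_iter {χ : F[X]} (hm : χ.Monic) {m : ℕ} (h : m ≤ χ.natDegree) :
    (divX^[m] χ).Monic ∧ (divX^[m] χ).natDegree + m = χ.natDegree := by
  induction m with
  | zero => exact ⟨hm, rfl⟩
  | succ m ih =>
    obtain ⟨hm', hd⟩ := ih (by omega)
    rw [Function.iterate_succ_apply']
    have hne : (divX^[m] χ).natDegree ≠ 0 := by omega
    have hd2 := natDegree_divX_eq_natDegree_tsub_one (p := divX^[m] χ)
    refine ⟨?_, by omega⟩
    rw [Monic, leadingCoeff, hd2, coeff_divX, Nat.sub_add_cancel (by omega)]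
    exact hm'.coeff_natDegree

variable {V : Type u} [AddCommGroup V] [Module F V] [FiniteDimensional F V]

theorem exists_split_block {S : End F V} {P χ₁ χ₂ : F[X]} (hS : Cyc S P) (h1 : χ₁.Monic) (h2 : χ₂.Monic)
    (ha : 1 ≤ χ₁.natDegree) (hb : 1 ≤ χ₂.natDegree) (hd : χ₁.natDegree + χ₂.natDegree = P.natDegree)
    (hc : χ₁.coeff 0 * χ₂.coeff 0 = P.coeff 0) (h0 : P.coeff 0 ≠ 0) :
    ∃ (e : ((Fin χ₁.natDegree → F) × (Fin χ₂.natDegree → F)) ≃ₗ[F] V) (G₁ : End F (Fin χ₁.natDegree → F))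
      (G₂ : End F (Fin χ₂.natDegree → F)) (C : (Fin χ₁.natDegree → F) →ₗ[F] (Fin χ₂.natDegree → F))
      (B : (Fin χ₂.natDegree → F) →ₗ[F] (Fin χ₁.natDegree → F)),
      Cyc G₁ χ₁ ∧ Cyc G₂ χ₂ ∧ ∀ p, S (e p) = e ((Lb C * LinearMap.prodMap G₁ G₂ * Ub B) p) := by
  classical
  set a := χ₁.natDegree with hadef
  set b := χ₂.natDegree with hbdef
  obtain ⟨v, hv⟩ := hS.2.2.2
  have hPm := hS.1
  -- the correction polynomials
  have hmm : (χ₁ * χ₂).Monic := h1.mul h2
  have hmd : (χ₁ * χ₂).natDegree = P.natDegree := by rw [h1.natDegree_mul h2]; exact hd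
  have hRdiv : X ∣ χ₁ * χ₂ - P := by rw [X_dvd_iff, coeff_sub, mul_coeff_zero, hc, sub_self]
  obtain ⟨R, hR⟩ := hRdiv
  have hRdeg : ∀ l, a + b ≤ l + 1 → R.coeff l = 0 := fun l hl => by
    rw [← coeff_X_mul, ← hR, coeff_sub]
    rcases hl.eq_or_lt with e | e
    · rw [show l + 1 = (χ₁ * χ₂).natDegree by omega, hmm.coeff_natDegree, hmd, hPm.coeff_natDegree, sub_self]
    · rw [coeff_eq_zero_of_natDegree_lt (by omega), coeff_eq_zero_of_natDegree_lt (by omega), sub_zero]
  obtain ⟨Bp, hBp, hBsum⟩ := exists_sum_monic ha b (fun i => divX^[i + 1] χ₂) (fun i hi => by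
    obtain ⟨hm', hd'⟩ := divX_iter h2 (m := i + 1) (by omega)
    exact ⟨hm', by omega⟩) R hRdeg (fun hb0 => by omega)
  set w := wpoly χ₁ Bp with hw
  have hkey : P = ∑ j ∈ Finset.range b, C (χ₂.coeff j) * w j + w b := by
    have hQb : divX^[b] χ₂ = 1 := by
      obtain ⟨hm', hd'⟩ := divX_iter h2 (m := b) le_rfl
      exact eq_one_of_monic_natDegree_zero hm' (by omega)
    have h := wpoly_sum χ₁ χ₂ Bp b
    rw [hQb, mul_one, hBsum, ← hR] at h
    linear_combination h
  -- the coordinate map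
  let lw : (Fin b → F) →ₗ[F] F[X] := Fintype.linearCombination F fun j : Fin b => w j
  let E : ((Fin a → F) × (Fin b → F)) →ₗ[F] F[X] := (po a).coprod lw
  have hEdeg : ∀ p, (E p).degree < (a + b : ℕ) := by
    intro p
    refine (degree_add_le _ _).trans_lt (max_lt ((po_deg p.1).trans_le (by exact_mod_cast Nat.le_add_right a b)) ?_)
    refine (degree_sum_le _ _).trans_lt ((Finset.sup_lt_iff (WithBot.bot_lt_coe _)).2 fun j _ => ?_)
    refine (degree_smul_le _ _).trans_lt ?_
    rw [degree_eq_natDegree (wpoly_deg h1 hBp j).1.ne_zero, (wpoly_deg h1 hBp j).2, Nat.cast_lt]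
    have := j.2
    omega
  have hE0 : ∀ p, E p = 0 → p = 0 := by
    rintro ⟨x, y⟩ hp
    have hp' : po a x + ∑ j : Fin b, y j • w j = 0 := hp
    have hy : y = 0 := by
      by_contra hy
      obtain ⟨j, hj, hmax⟩ := (Finset.univ.filter fun j => y j ≠ 0).exists_max_image (fun j : Fin b => j.val) (by
        obtain ⟨j, hj⟩ := Function.ne_iff.1 hy
        exact ⟨j, by simpa using hj⟩)
      have h := congrArg (fun p => p.coeff (a + j.val)) hp'
      simp only [coeff_add, coeff_zero, finsetSum_coeff, coeff_smul, smul_eq_mul] at h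
      rw [(degree_lt_iff_coeff_zero _ _).1 (po_deg x) _ (Nat.le_add_right _ _), zero_add,
        Finset.sum_eq_single j] at h
      · obtain ⟨hm', hd'⟩ := wpoly_deg h1 hBp j
        rw [← hd', hm'.coeff_natDegree, mul_one] at h
        exact (Finset.mem_filter.1 hj).2 h
      · intro i _ hi
        by_cases hyi : y i = 0
        · rw [hyi, zero_mul]
        have : i.val < j.val := lt_of_le_of_ne (hmax i (by simpa using hyi)) fun e => hi (Fin.ext e)
        rw [coeff_eq_zero_of_natDegree_lt (by rw [(wpoly_deg h1 hBp i).2]; omega), mul_zero]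
      · simp
    subst hy
    simp only [Pi.zero_apply, zero_smul, Finset.sum_const_zero, add_zero] at hp'
    exact Prod.ext (by rw [← co_po x, hp', map_zero]; rfl) rfl
  let φ : F[X] →ₗ[F] V := (LinearMap.applyₗ v).comp (aeval S).toLinearMap
  have hinj : Function.Injective (φ ∘ₗ E) := by
    refine (injective_iff_map_eq_zero _).2 fun p hp => hE0 p ?_
    refine eq_zero_of_dvd_of_degree_lt (hS.dvd hv hp) ((hEdeg p).trans_le ?_)
    rw [degree_eq_natDegree hPm.ne_zero, ← hd]
  have hfin : finrank F ((Fin a → F) × (Fin b → F)) = finrank F V := by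
    rw [finrank_prod, finrank_fin_fun, finrank_fin_fun, hd, hS.2.1]
  let e := LinearEquiv.ofBijective (φ ∘ₗ E) ⟨hinj, (LinearMap.injective_iff_surjective_of_finrank_eq_finrank hfin).1 hinj⟩
  have he : ∀ p, e p = aeval S (E p) v := fun p => rfl
  -- the blocks
  have h10 : χ₁.coeff 0 ≠ 0 := fun h => h0 (by rw [← hc, h, zero_mul])
  let G1e := LinearEquiv.ofBijective (mulX χ₁)
    ⟨mulX_injective h1 ha h10, LinearMap.injective_iff_surjective.1 (mulX_injective h1 ha h10)⟩
  let Cm : (Fin a → F) →ₗ[F] (Fin b → F) :=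
    (LinearMap.toSpanSingleton F (Fin b → F) (co b (1 : F[X]))).comp ((carry a).comp G1e.symm.toLinearMap)
  let Bm : (Fin b → F) →ₗ[F] (Fin a → F) := Fintype.linearCombination F fun j : Fin b => co a (Bp j)
  refine ⟨e, mulX χ₁, mulX χ₂, Cm, Bm, cyc_mulX h1 ha, cyc_mulX h2 hb, ?_⟩
  -- the relation on the second coordinates
  have hstep : ∀ y : Fin b → F, P ∣ X * (lw y - po a (Bm y)) - lw (mulX χ₂ y) := by
    intro y
    let Φ : (Fin b → F) →ₗ[F] F[X] := LinearMap.mulLeft F X ∘ₗ (lw - po a ∘ₗ Bm) - lw ∘ₗ mulX χ₂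
    show P ∣ Φ y
    rw [pi_eq_sum_univ' y, map_sum]
    refine Finset.dvd_sum fun j _ => ?_
    rw [map_smul, smul_eq_C_mul]
    refine dvd_mul_of_dvd_right ?_ _
    show P ∣ X * (lw (Pi.single j (1 : F)) - po a (Bm (Pi.single j (1 : F)))) - lw (mulX χ₂ (Pi.single j (1 : F)))
    have hl : ∀ i : Fin b, lw (Pi.single i (1 : F)) = w i := fun i => by
      simp [lw, Fintype.linearCombination_apply, Pi.single_apply]
    have hB1 : po a (Bm (Pi.single j (1 : F))) = Bp j := by
      rw [show Bm (Pi.single j (1 : F)) = co a (Bp j) by simp [Bm, Fintype.linearCombination_apply, Pi.single_apply],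
        po_co (hBp j)]
    rw [hl, hB1, show X * (w j - Bp j) = w (j + 1) from rfl]
    have hm : mulX χ₂ (Pi.single j (1 : F)) = co b (X * X ^ (j : ℕ) - (if j.val + 1 = b then (1 : F) else 0) • χ₂) := by
      show co b (X * po b (Pi.single j (1 : F)) - carry b (Pi.single j (1 : F)) • χ₂) = _
      rw [po_single, show carry b (Pi.single j (1 : F)) = (X ^ (j : ℕ) : F[X]).coeff (b - 1) by
        show (po b (Pi.single j (1 : F))).coeff (b - 1) = _; rw [po_single], coeff_X_pow]
      have hj2 := j.2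
      simp only [show (b - 1 = (j : ℕ)) = ((j : ℕ) + 1 = b) from propext ⟨fun h => by omega, fun h => by omega⟩]
    by_cases hlast : j.val + 1 = b
    · rw [hm, if_pos hlast, one_smul, hlast, ← pow_succ', hlast]
      have : lw (co b (X ^ b - χ₂)) = -∑ i ∈ Finset.range b, C (χ₂.coeff i) * w i := by
        rw [← Fin.sum_univ_eq_sum_range (fun i => C (χ₂.coeff i) * w i), ← Finset.sum_neg_distrib]
        refine (Fintype.linearCombination_apply F _ _).trans (Finset.sum_congr rfl fun i _ => ?_)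
        rw [co_apply, coeff_sub, coeff_X_pow, if_neg (Nat.ne_of_lt i.2), zero_sub, neg_smul, smul_eq_C_mul]
      rw [this, sub_neg_eq_add, add_comm, ← hkey]
    · have hlt : j.val + 1 < b := by have := j.2; omega
      rw [hm, if_neg hlast, zero_smul, sub_zero, ← pow_succ', show X ^ (j.val + 1) = po b (Pi.single ⟨j.val + 1, hlt⟩ (1 : F))
        from (po_single (n := b) ⟨j.val + 1, hlt⟩).symm, co_po, hl, sub_self]
      exact dvd_zero _
  rintro ⟨x, y⟩
  rw [he, he, ← Module.End.mul_apply]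
  have hcomp : (Lb Cm * LinearMap.prodMap (mulX χ₁) (mulX χ₂) * Ub Bm) (x, y) =
      (mulX χ₁ (x + Bm y), carry a (x + Bm y) • co b (1 : F[X]) + mulX χ₂ y) := by
    simp only [Module.End.mul_apply, Ub_apply, LinearMap.prodMap_apply, Lb_apply]
    congr 1
    show carry a (G1e.symm (G1e (x + Bm y))) • co b (1 : F[X]) + _ = _
    rw [LinearEquiv.symm_apply_apply]
  have hw0 : lw (co b (1 : F[X])) = χ₁ := by
    rw [show (co b (1 : F[X]) : Fin b → F) = Pi.single ⟨0, hb⟩ (1 : F) by
      rw [← pow_zero (X : F[X]), ← co_po (Pi.single (⟨0, hb⟩ : Fin b) (1 : F)), po_single]]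
    simp [lw, Fintype.linearCombination_apply, Pi.single_apply, hw, wpoly]
  have hEim : E (mulX χ₁ (x + Bm y), carry a (x + Bm y) • co b (1 : F[X]) + mulX χ₂ y) =
      X * E (x, y) - (X * (lw y - po a (Bm y)) - lw (mulX χ₂ y)) := by
    show po a (mulX χ₁ (x + Bm y)) + lw (carry a (x + Bm y) • co b (1 : F[X]) + mulX χ₂ y) = X * (po a x + lw y) - _
    rw [po_mulX h1 ha, map_add lw, map_smul lw, hw0, map_add (po a)]
    ring
  rw [hcomp, hEim, map_sub, LinearMap.sub_apply]
  obtain ⟨q, hq⟩ := hstep y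
  rw [hq, map_mul (aeval S) P q, hS.2.2.1, zero_mul, LinearMap.zero_apply, sub_zero, map_mul, aeval_X]

end CfsgLib.OreLevi.Four
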