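import Cfsg.Agent.Lib.OreLevi.FactorChoice

/-!
Every nonscalar matrix of determinant one is `s * z * s⁻¹ * z⁻¹` with `s` killed by
`(X - l)^(n-2) * (X^2 - τ X + δ)` and both determinants prescribed.
-/

set_option autoImplicit false
set_option linter.unusedSectionVars false

namespace CfsgLib.OreLevi

open Module Polynomial CfsgLib.SLComm

universe u

variable {F : Type u} [Field F]
variable {V : Type u} [AddCommGroup V] [Module F V] [FiniteDimensional F V]

/-- The quadratic factor. -/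
noncomputable def quad (τ δ : F) : F[X] := X ^ 2 - C τ * X + C δ

theorem quad_monic (τ δ : F) : (quad τ δ).Monic := by rw [quad]; monicity!

theorem natDegree_quad (τ δ : F) : (quad τ δ).natDegree = 2 := by rw [quad]; compute_degree!

theorem quad_eval (τ δ x : F) : (quad τ δ).eval x = x ^ 2 - τ * x + δ := by simp [quad]

/-- The hypothesis on the quadratic. -/
def NoRoot (τ δ : F) : Prop := ∀ x : F, x ^ 2 - τ * x + δ ≠ 0

theorem NoRoot.delta_ne {τ δ : F} (h : NoRoot τ δ) : δ ≠ 0 := fun e => h 0 (by simp [e])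

theorem NoRoot.inv {τ δ : F} (h : NoRoot τ δ) : NoRoot (τ / δ) δ⁻¹ := fun x hx => by
  have hδ := h.delta_ne
  have hx0 : x ≠ 0 := fun e => by simp [e, hδ] at hx
  refine h x⁻¹ ?_
  field_simp at hx ⊢
  linear_combination hx

theorem NoRoot.irreducible {τ δ : F} (h : NoRoot τ δ) : Irreducible (quad τ δ) := by
  rw [irreducible_iff_roots_eq_zero_of_degree_le_three (by rw [natDegree_quad]) (by rw [natDegree_quad]; omega)]
  refine Multiset.eq_zero_of_forall_notMem fun y hy => h y ?_
  rw [← quad_eval]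
  exact isRoot_of_mem_roots hy

theorem NoRoot.coprime {τ δ : F} (h : NoRoot τ δ) (m : ℕ) : IsCoprime ((X - 1 : F[X]) ^ m) (quad τ δ) := by
  refine IsCoprime.pow_left ?_
  rw [← map_one C, (irreducible_X_sub_C (1 : F)).coprime_iff_not_dvd, dvd_iff_isRoot]
  intro e
  exact h 1 (by rw [← quad_eval]; exact e)

/-- The polynomial of a factor. -/
noncomputable def ppoly (m : ℕ) (τ δ : F) : F[X] := (X - 1) ^ m * quad τ δ

theorem ppoly_monic (m : ℕ) (τ δ : F) : (ppoly m τ δ).Monic :=
  ((by simpa using monic_X_sub_C (1 : F)) : (X - 1 : F[X]).Monic).pow m |>.mul (quad_monic τ δ)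

theorem natDegree_ppoly (m : ℕ) (τ δ : F) : (ppoly m τ δ).natDegree = m + 2 := by
  rw [ppoly, Monic.natDegree_mul (((by simpa using monic_X_sub_C (1 : F)) : (X - 1 : F[X]).Monic).pow m)
    (quad_monic τ δ), natDegree_quad, natDegree_pow, show (X - 1 : F[X]).natDegree = 1 by
      simpa using natDegree_X_sub_C (1 : F), mul_one]

/-- A factorisation with the side conditions of the enclosing step. -/
def Peel (τ δ : F) (S : End F V) (b : V) (c : V →ₗ[F] F) : Prop :=
  ∃ (m : ℕ) (L U : End F V), S = L * U ∧ Cyc L (ppoly m τ δ) ∧ Cyc U (ppoly m (τ / δ) δ⁻¹) ∧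
    (m = 0 ∨ (∃ φ : V →ₗ[F] F, (∀ z, φ (L z) = φ z) ∧ φ b ≠ 0) ∧ ∃ y, U y = y ∧ c y ≠ 0)

/-- One step. -/
theorem peel_step [Finite F] {τ δ : F} (h : NoRoot τ δ) {S : End F V} {f : V →ₗ[F] F} {v : V} (hfv : f v = 1)
    (hfS : f (S v) = 1) {b : V} {c : V →ₗ[F] F} (hfb : f b ≠ 0) (hcv : c v ≠ 0)
    (hp : Peel τ δ (resKer S f v hfS) ⟨S v - v, by simp [hfv, hfS]⟩ ((f.comp S).comp (LinearMap.ker f).subtype)) :
    Peel τ δ S b c := by
  obtain ⟨m, L', U', heq', hL', hU', hlink⟩ := hp
  set π : V →ₗ[F] (LinearMap.ker f) := (LinearMap.id - f.smulRight v).codRestrict (LinearMap.ker f)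
    fun y => by simp [hfv] with hπdef
  have hπ : ∀ y, (π y : V) = y - f y • v := fun y => rfl
  have hπW : ∀ z : (LinearMap.ker f), π z = z := fun z => Subtype.ext (by
    rw [hπ, LinearMap.mem_ker.1 z.2, zero_smul, sub_zero])
  have hπv : π v = 0 := Subtype.ext (by rw [hπ, hfv, one_smul, sub_self, Submodule.coe_zero])
  have hfW : ∀ z : (LinearMap.ker f), f (z : V) = 0 := fun z => LinearMap.mem_ker.1 z.2
  let L : End F V := f.smulRight (S v) + (LinearMap.ker f).subtype ∘ₗ L' ∘ₗ π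
  let U : End F V := f.smulRight v + (((f.comp S).comp (LinearMap.ker f).subtype).comp π).smulRight v +
    (LinearMap.ker f).subtype ∘ₗ U' ∘ₗ π
  have hLv : L v = S v := by simp [L, hfv, hπv]
  have hLW : ∀ z : (LinearMap.ker f), L z = (L' z : V) := fun z => by simp [L, hfW, hπW]
  have hUv : U v = v := by simp [U, hfv, hπv]
  have hUW : ∀ z : (LinearMap.ker f), U z = f (S z) • v + (U' z : V) := fun z => by simp [U, hfW, hπW]
  have hsplit : ∀ y, y = f y • v + (π y : V) := fun y => by rw [hπ]; abel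
  have heq : S = L * U := LinearMap.ext fun y => by
    rw [hsplit y, map_add, map_smul, map_add, map_smul, Module.End.mul_apply, Module.End.mul_apply, hUv, hLv, hUW,
      map_add, map_smul, hLv, hLW, ← Module.End.mul_apply L', ← heq']
    show _ = _ + (_ + res S f v (π y : V))
    rw [res_apply]
    abel
  have hdim : finrank F (LinearMap.ker f) + 1 = finrank F V := by
    have h1 := LinearMap.finrank_range_add_finrank_ker f
    rw [LinearMap.range_eq_top.2 (fun t => ⟨t • v, by simp [hfv]⟩ : Function.Surjective f), finrank_top,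
      Module.finrank_self] at h1
    omega
  have hinvL : ∀ w ∈ (LinearMap.ker f), L w ∈ (LinearMap.ker f) := fun w hw => by rw [hLW ⟨w, hw⟩]; exact (L' _).2
  have hpol : ∀ (p : F[X]) (z : (LinearMap.ker f)), aeval L p (z : V) = ((aeval L' p z : (LinearMap.ker f)) : V) := by
    intro p
    induction p using Polynomial.induction_on with
    | C a => exact fun z => by simp
    | add p q hp hq => exact fun z => by simp [hp, hq]
    | monomial n a ih =>
      intro z
      rw [show C a * X ^ (n + 1) = X * (C a * X ^ n) by ring, map_mul, map_mul (aeval L'), Module.End.mul_apply,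
        Module.End.mul_apply, ih, aeval_X, aeval_X, hLW]
  have hev : ∀ (τ δ : F), NoRoot τ δ → m = 0 → (ppoly m τ δ).eval 1 ≠ 0 := fun τ δ h hm => by
    simpa [ppoly, hm, quad_eval] using h 1
  have hmul : ∀ (τ δ : F), (X - 1) * ppoly m τ δ = ppoly (m + 1) τ δ := fun τ δ => by
    rw [ppoly, ppoly, pow_succ']; ring
  suffices hs : Cyc L ((X - 1) * ppoly m τ δ) ∧ Cyc U ((X - 1) * ppoly m (τ / δ) δ⁻¹) ∧ ∀ z, f (L z) = f z from
    ⟨m + 1, L, U, heq, hmul τ δ ▸ hs.1, hmul (τ / δ) δ⁻¹ ▸ hs.2.1, Or.inr ⟨⟨f, hs.2.2, hfb⟩, v, hUv, hcv⟩⟩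
  refine ⟨?_, ?_, fun z => ?_⟩
  · obtain ⟨w₀, hw₀⟩ := hL'.2.2.2
    refine cyc_cons (W₀ := LinearMap.ker f) (w₀ := (w₀ : V)) (x := v) hL'.1 (by rw [hL'.2.1]; exact hdim) w₀.2
      (fun w hw => ?_) (by rw [hpol, hL'.2.2.1]; rfl) hinvL (by rw [hLv]; simp [hfv, hfS])
      (fun y => ⟨f y, (π y : V), (π y).2, hsplit y⟩) ?_
    · obtain ⟨p, hp⟩ := hw₀ ⟨w, hw⟩
      exact ⟨p, by rw [hpol, hp]⟩
    · rcases hlink with hm | ⟨⟨φ, hφ, hφb⟩, -⟩
      · exact Or.inl (hev τ δ h hm)
      refine Or.inr ⟨φ.comp π, fun w hw => ?_, ?_⟩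
      · show φ (π (L w)) = φ (π w)
        rw [hLW ⟨w, hw⟩, hπW, show π w = ⟨w, hw⟩ from hπW ⟨w, hw⟩, hφ]
      · show φ (π (L v - v)) ≠ 0
        rw [hLv, show π (S v - v) = (⟨S v - v, by simp [hfv, hfS]⟩ : LinearMap.ker f) from hπW ⟨S v - v, _⟩]
        exact hφb
  · exact cyc_cons_upper (W₀ := LinearMap.ker f) U' hU' ((f.comp S).comp (LinearMap.ker f).subtype) hUv
      (fun e => one_ne_zero (α := F) (by rw [← hfv, e, map_zero])) hdim hUW
      (fun y => ⟨f y, π y, hsplit y⟩) (by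
        rcases hlink with hm | ⟨-, hy⟩
        · exact Or.inl (hev _ _ h.inv hm)
        · exact Or.inr hy)
  · rw [hsplit z, map_add, map_smul, hLv, hLW]
    simp [hfv, hfS, hfW]

/-- The conic of the base case has a point. -/
theorem exists_conic [Finite F] {s τ δ : F} (hs : s ≠ 2) (hτ : τ ≠ 0) :
    ∃ a β : F, a * a - s * a * β + β * β - τ * a + τ * β + δ = 0 := by
  classical
  have := Fintype.ofFinite F
  obtain ⟨p, hp⟩ := CharP.exists F
  have := hp
  let P : MvPolynomial (Fin 3) F := MvPolynomial.X 0 * MvPolynomial.X 0 +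
    MvPolynomial.C (-s) * (MvPolynomial.X 0 * MvPolynomial.X 1) + MvPolynomial.X 1 * MvPolynomial.X 1 +
    MvPolynomial.C (-τ) * (MvPolynomial.X 0 * MvPolynomial.X 2) +
    MvPolynomial.C τ * (MvPolynomial.X 1 * MvPolynomial.X 2) +
    MvPolynomial.C δ * (MvPolynomial.X 2 * MvPolynomial.X 2)
  have h2 : ∀ i j : Fin 3, (MvPolynomial.X i * MvPolynomial.X j : MvPolynomial (Fin 3) F).totalDegree ≤ 2 :=
    fun i j => (MvPolynomial.totalDegree_mul _ _).trans (by simp)
  have hC : ∀ (r : F) (i j : Fin 3),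
      (MvPolynomial.C r * (MvPolynomial.X i * MvPolynomial.X j)).totalDegree ≤ 2 := fun r i j =>
    (MvPolynomial.totalDegree_mul _ _).trans (by simpa using h2 i j)
  have hP : P.totalDegree ≤ 2 := by
    refine (MvPolynomial.totalDegree_add _ _).trans (max_le ?_ (hC _ _ _))
    refine (MvPolynomial.totalDegree_add _ _).trans (max_le ?_ (hC _ _ _))
    refine (MvPolynomial.totalDegree_add _ _).trans (max_le ?_ (hC _ _ _))
    refine (MvPolynomial.totalDegree_add _ _).trans (max_le ?_ (h2 _ _))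
    exact (MvPolynomial.totalDegree_add _ _).trans (max_le (h2 _ _) (hC _ _ _))
  have hdvd := char_dvd_card_solutions p (f := P) (by simpa using Nat.lt_succ_of_le hP)
  obtain ⟨⟨x, hx⟩, hx0⟩ : ∃ x : {x : Fin 3 → F // MvPolynomial.eval x P = 0}, x.1 ≠ 0 := by
    by_contra hc
    push Not at hc
    have h1 : Fintype.card {x : Fin 3 → F // MvPolynomial.eval x P = 0} = 1 :=
      Fintype.card_eq_one_iff.2 ⟨⟨0, by simp [P]⟩, fun y => Subtype.ext (hc y)⟩
    rw [h1, Nat.dvd_one] at hdvd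
    exact CharP.char_ne_one F p hdvd
  simp only [P, map_add, map_mul, MvPolynomial.eval_X, MvPolynomial.eval_C] at hx
  by_cases hz : x 2 = 0
  swap
  · refine ⟨x 0 / x 2, x 1 / x 2, ?_⟩
    field_simp
    linear_combination hx
  rw [hz] at hx
  have hy : x 1 ≠ 0 := fun e => hx0 (funext fun i => by
    rw [e] at hx
    have h0 : x 0 = 0 := mul_self_eq_zero.1 (by linear_combination hx)
    fin_cases i <;> simp [h0, e, hz])
  obtain ⟨r, hr⟩ : ∃ r : F, r * r - s * r + 1 = 0 := ⟨x 0 / x 1, by field_simp; linear_combination hx⟩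
  obtain ⟨x₀, hx₀⟩ : ∃ x₀ : F, x₀ * (2 * r - s) - τ * (r - 1) ≠ 0 := by
    by_cases h : 2 * r - s = 0
    · refine ⟨0, ?_⟩
      rw [zero_mul, zero_sub, neg_ne_zero]
      refine mul_ne_zero hτ (sub_ne_zero.2 fun e => hs ?_)
      rw [e] at h; linear_combination -h
    · exact ⟨(τ * (r - 1) + 1) / (2 * r - s), by rw [div_mul_cancel₀ _ h]; simp⟩
  obtain ⟨β, hβ⟩ : ∃ β : F, β * (x₀ * (2 * r - s) - τ * (r - 1)) = -(x₀ * x₀ - τ * x₀ + δ) :=
    ⟨_, div_mul_cancel₀ _ hx₀⟩
  exact ⟨r * β + x₀, β, by linear_combination β * β * hr + hβ⟩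

theorem cyc_quad {τ δ : F} (h : NoRoot τ δ) (hd : finrank F V = 2) {g : End F V}
    (hg : aeval g (quad τ δ) = 0) : Cyc g (ppoly 0 τ δ) := by
  have : Nontrivial V := Module.nontrivial_of_finrank_pos (R := F) (by omega)
  obtain ⟨v, hv⟩ := exists_ne (0 : V)
  have hg2 : ∀ x, g (g x) = τ • g x - δ • x := fun x => by
    have h1 := LinearMap.congr_fun hg x
    simp only [quad, map_add, map_sub, map_mul, aeval_X, aeval_C, LinearMap.add_apply, LinearMap.sub_apply,
      Module.End.mul_apply, Module.algebraMap_end_apply, pow_two, LinearMap.zero_apply] at h1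
    linear_combination (norm := module) h1
  have hli : LinearIndependent F ![v, g v] := by
    refine (LinearIndependent.pair_iff' hv).2 fun a ha => h a ?_
    have h1 := hg2 v
    rw [← ha, map_smul, ← ha] at h1
    refine (smul_eq_zero.1 (?_ : (a ^ 2 - τ * a + δ) • v = 0)).resolve_right hv
    linear_combination (norm := module) h1
  refine cyc_mk (ppoly_monic _ _ _) (by rw [natDegree_ppoly, hd]) (v := v) (fun w => ?_) (by simp [ppoly, hg])
  let bb := basisOfLinearIndependentOfCardEqFinrank hli (by simp [hd])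
  refine ⟨C (bb.repr w 0) + C (bb.repr w 1) * X, ?_⟩
  conv_rhs => rw [← bb.sum_repr w]
  simp [bb, Fin.sum_univ_two, coe_basisOfLinearIndependentOfCardEqFinrank]

/-- The base case. -/
theorem peel_two [Finite F] {τ δ : F} (h : NoRoot τ δ) (hτ : τ ≠ 0) {S : End F V} (hd : finrank F V = 2)
    (hdet : LinearMap.det S = 1) (hS : Big S) (b : V) (c : V →ₗ[F] F) : Peel τ δ S b c := by
  classical
  obtain ⟨w, hw⟩ : ∃ w : V, ∀ a : F, S w ≠ a • w := by
    by_contra hc
    push Not at hc
    let e := Module.finBasisOfFinrankEq F V hd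
    obtain ⟨α, hα⟩ := hc (e 0)
    obtain ⟨β, hβ⟩ := hc (e 1)
    obtain ⟨γ, hγ⟩ := hc (e 0 + e 1)
    rw [map_add, hα, hβ, smul_add] at hγ
    have h0 := congrArg (fun z => e.repr z 0) hγ
    have h1 := congrArg (fun z => e.repr z 1) hγ
    simp at h0 h1
    refine hS.1 α (e.ext fun i => ?_)
    fin_cases i
    · simpa using hα
    · simpa [h0, ← h1] using hβ
  have hw0 : w ≠ 0 := fun e => hw 0 (by simp [e])
  have hli : LinearIndependent F ![w, S w] := (LinearIndependent.pair_iff' hw0).2 fun a ha => hw a ha.symm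
  let bb := basisOfLinearIndependentOfCardEqFinrank hli (by simp [hd])
  have hb0 : bb 0 = w := by simp [bb, coe_basisOfLinearIndependentOfCardEqFinrank]
  have hb1 : bb 1 = S w := by simp [bb, coe_basisOfLinearIndependentOfCardEqFinrank]
  set Φ := LinearMap.toMatrixAlgEquiv bb with hΦ
  set M := Φ S with hM
  have h00 : M 0 0 = 0 := by rw [hM, LinearMap.toMatrixAlgEquiv_apply, hb0, ← hb1, Basis.repr_self]; simp
  have h10 : M 1 0 = 1 := by rw [hM, LinearMap.toMatrixAlgEquiv_apply, hb0, ← hb1, Basis.repr_self]; simp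
  have hdM : M.det = 1 := (LinearMap.det_toMatrix bb S).trans hdet
  rw [Matrix.det_fin_two, h00, h10, zero_mul, zero_sub, mul_one] at hdM
  have h01 : M 0 1 = -1 := by linear_combination -hdM
  obtain ⟨s, h11⟩ : ∃ s, M 1 1 = s := ⟨_, rfl⟩
  have hM' : M = !![0, -1; 1, s] := by
    rw [Matrix.eta_fin_two M, h00, h10, h01, h11]
  have hs : s ≠ 2 := fun e => by
    have hu : LinearMap.det (S - 1) = 0 := by
      rw [← LinearMap.det_toMatrix bb, show LinearMap.toMatrix bb bb (S - 1) = Φ S - Φ 1 from map_sub Φ S 1,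
        ← hM, hM', map_one, Matrix.one_fin_two, Matrix.det_fin_two, e]
      simp
      norm_num
    have h1 := LinearMap.range_lt_top_of_det_eq_zero hu
    have h2 := Submodule.finrank_lt h1.ne
    have := hS.2
    omega
  obtain ⟨a, β, hQ⟩ := exists_conic (δ := δ) hs hτ
  obtain ⟨γ, hγ⟩ : ∃ γ, γ = τ + β - a * s := ⟨_, rfl⟩
  have hdetQ : a * (τ - a) - β * γ = δ := by rw [hγ]; linear_combination -hQ
  have hδ := h.delta_ne
  let Ml : Matrix (Fin 2) (Fin 2) F := !![a, β; γ, τ - a]
  let Nu : Matrix (Fin 2) (Fin 2) F := !![-β, -(τ - a) - β * s; a, γ + a * s]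
  let Mu : Matrix (Fin 2) (Fin 2) F := δ⁻¹ • Nu
  have hmul : Ml * Mu = M := by
    have e : Ml * Nu = δ • M := by
      rw [hM', ← hdetQ]
      ext i j
      fin_cases i <;> fin_cases j <;> simp [Ml, Nu, Matrix.mul_apply, Fin.sum_univ_two] <;> ring
    rw [Matrix.mul_smul, e, inv_smul_smul₀ hδ]
  have hl : aeval Ml (quad τ δ) = 0 := by
    rw [quad, map_add, map_sub, map_mul, map_pow, aeval_X, aeval_C, aeval_C, pow_two,
      Algebra.algebraMap_eq_smul_one, Algebra.algebraMap_eq_smul_one, ← hdetQ]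
    ext i j
    fin_cases i <;> fin_cases j <;> simp [Ml, Matrix.mul_apply, Fin.sum_univ_two] <;> ring
  have hN : Nu * Nu - τ • Nu + δ • 1 = 0 := by
    ext i j
    fin_cases i <;> fin_cases j <;> simp [Nu, Matrix.mul_apply, Fin.sum_univ_two, hγ] <;>
      first | ring1 | linear_combination hQ
  have hu : aeval Mu (quad (τ / δ) δ⁻¹) = 0 := by
    rw [show (0 : Matrix (Fin 2) (Fin 2) F) = (δ⁻¹ * δ⁻¹) • (Nu * Nu - τ • Nu + δ • 1) by rw [hN, smul_zero],
      quad, map_add, map_sub, map_mul, map_pow, aeval_X, aeval_C, aeval_C, pow_two,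
      Algebra.algebraMap_eq_smul_one, Algebra.algebraMap_eq_smul_one]
    simp only [Mu, smul_mul_assoc, mul_smul_comm, one_mul, smul_smul, smul_add, smul_sub]
    congr 2 <;> field_simp
  refine ⟨0, Φ.symm Ml, Φ.symm Mu, ?_, cyc_quad h hd ?_, cyc_quad h.inv hd ?_, Or.inl rfl⟩
  · rw [← map_mul, hmul, hM, AlgEquiv.symm_apply_apply]
  · exact (aeval_algHom_apply Φ.symm.toAlgHom Ml _).trans (by rw [hl, map_zero])
  · exact (aeval_algHom_apply Φ.symm.toAlgHom Mu _).trans (by rw [hu, map_zero])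

/-- Every determinant one map, neither scalar nor a transvection, peels. -/
theorem peel_all [Finite F] (hq : 4 ≤ Nat.card F) {τ δ : F} (h : NoRoot τ δ) (hτ : τ ≠ 0) :
    ∀ (d : ℕ) {V : Type u} [AddCommGroup V] [Module F V] [FiniteDimensional F V] (S : End F V),
      finrank F V = d → 2 ≤ d → LinearMap.det S = 1 → Big S →
      ∀ (b : V) (c : V →ₗ[F] F), b ≠ 0 → c ≠ 0 → Peel τ δ S b c := by
  intro d
  induction d using Nat.strong_induction_on with
  | _ d ih =>
    intro V _ _ _ S hd h2 hdet hS b c hb hc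
    rcases Nat.eq_or_lt_of_le h2 with h2' | h2'
    · exact peel_two h hτ (by omega) hdet hS b c
    obtain ⟨f, v, hfv, hfS, hB, hfb, hcv, hb', hc'⟩ := exists_step hq (by omega) hdet hS hb hc
    have hW : finrank F (LinearMap.ker f) + 1 = d := by
      have h1 := LinearMap.finrank_range_add_finrank_ker f
      rw [LinearMap.range_eq_top.2 (fun t => ⟨t • v, by simp [hfv]⟩ : Function.Surjective f), finrank_top,
        Module.finrank_self] at h1
      omega
    exact peel_step h hfv hfS hfb hcv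
      (ih _ (by omega) (resKer S f v hfS) rfl (by omega) ((det_resKer S f v hfv hfS).trans hdet) hB _ _ hb' hc')

/-- The transvection. -/
theorem comm_transvection {τ δ : F} (h : NoRoot τ δ) (hτ : τ ≠ 0) {S : End F V} (hd : 3 ≤ finrank F V)
    (hdet : LinearMap.det S = 1) (hns : S ≠ 1) (hr : finrank F (LinearMap.range (S - 1)) ≤ 1) {μ : F} (hμ : μ ≠ 0) :
    ∃ L z : End F V, S * z * L = L * z ∧ LinearMap.det L = δ ∧ LinearMap.det z = μ ∧
      aeval L (ppoly (finrank F V - 2) τ δ) = 0 := by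
  classical
  obtain ⟨x, hxr, hx0⟩ := (Submodule.ne_bot_iff (LinearMap.range (S - 1))).1 fun e =>
    hns (sub_eq_zero.1 (LinearMap.range_eq_bot.1 e))
  have hspan : LinearMap.range (S - 1) = F ∙ x :=
    (Submodule.eq_of_le_of_finrank_le ((Submodule.span_singleton_le_iff_mem _ _).2 hxr)
      (by rwa [finrank_span_singleton hx0])).symm
  obtain ⟨g, hg⟩ := Module.Projective.exists_dual_eq_one F hx0
  set ξ : V →ₗ[F] F := g.comp (S - 1) with hξdef
  have hS : ∀ y, S y = y + ξ y • x := fun y => by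
    obtain ⟨t, ht⟩ := Submodule.mem_span_singleton.1 (hspan ▸ LinearMap.mem_range_self (S - 1) y)
    have : ξ y = t := by rw [hξdef, LinearMap.comp_apply, ← ht, map_smul, hg, smul_eq_mul, mul_one]
    rw [this, ht]; simp
  have hξx : ξ x = 0 := by
    have e : S = LinearMap.transvection ξ x := LinearMap.ext fun y => by rw [hS, LinearMap.transvection.apply]
    have h1 := hdet
    rw [e, LinearMap.transvection.det] at h1
    simpa using h1
  obtain ⟨p₀, hp₀⟩ : ∃ p, ξ p ≠ 0 := by
    by_contra hc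
    push Not at hc
    exact hns (LinearMap.ext fun y => by rw [hS, hc]; simp)
  set p := (ξ p₀)⁻¹ • p₀ with hpdef
  have hξp : ξ p = 1 := by rw [hpdef, map_smul, smul_eq_mul, inv_mul_cancel₀ hp₀]
  obtain ⟨q, hqξ, hqx⟩ : ∃ q, ξ q = 0 ∧ q ∉ F ∙ x := by
    have h1 := LinearMap.finrank_range_add_finrank_ker ξ
    have h2 : finrank F (LinearMap.range ξ) ≤ 1 := (Submodule.finrank_le _).trans (Module.finrank_self F).le
    obtain ⟨q, hq, hq'⟩ := exists_mem_notMem (K := LinearMap.ker ξ) (by omega) x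
    exact ⟨q, hq, hq'⟩
  obtain ⟨θ, hθq, hθx, hθp⟩ : ∃ θ : V →ₗ[F] F, θ q = 1 ∧ θ x = 0 ∧ θ p = 0 := by
    have hn : q ∉ Submodule.span F {x, p} := fun hm => by
      obtain ⟨a, b, rfl⟩ := Submodule.mem_span_pair.1 hm
      simp [hξx, hξp] at hqξ
      exact hqx (by simp [hqξ, Submodule.smul_mem, Submodule.mem_span_singleton_self])
    obtain ⟨θ, hθ, hθ'⟩ := Submodule.exists_dual_map_eq_bot_of_notMem hn inferInstance
    have hz : ∀ y ∈ Submodule.span F ({x, p} : Set V), θ y = 0 := fun y hy => by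
      have h1 : θ y ∈ (Submodule.span F ({x, p} : Set V)).map θ := Submodule.mem_map_of_mem hy
      rwa [hθ', Submodule.mem_bot] at h1
    refine ⟨(θ q)⁻¹ • θ, by simp [inv_mul_cancel₀ hθ], ?_, ?_⟩
    · simp [hz x (Submodule.subset_span (by simp))]
    · simp [hz p (Submodule.subset_span (by simp))]
  obtain ⟨φ, hφx, hφp, hφq⟩ : ∃ φ : V →ₗ[F] F, φ x = 1 ∧ φ p = 0 ∧ φ q = 0 :=
    ⟨g - g p • ξ - g q • θ, by simp [hg, hξx, hθx], by simp [hξp, hθp], by simp [hqξ, hθq]⟩
  set A := q - p with hA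
  set B := -δ • p + (τ - 1) • q with hB
  set L : End F V := LinearMap.transvection θ B * LinearMap.transvection ξ (A - τ⁻¹ • B) with hL
  have hθA : θ A = 1 := by simp [hA, hθq, hθp]
  have hθB : θ B = τ - 1 := by simp [hB, hθq, hθp]
  have hξA : ξ A = -1 := by simp [hA, hqξ, hξp]
  have hξB : ξ B = -δ := by simp [hB, hqξ, hξp]
  have hLy : ∀ y, L y = y + ξ y • A + θ y • B := fun y => by
    simp only [hL, Module.End.mul_apply, LinearMap.transvection.apply, map_add, map_sub, map_smul, hθA, hθB]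
    match_scalars <;> field_simp <;> ring
  have hdetL : LinearMap.det L = δ := by
    rw [hL, map_mul, LinearMap.transvection.det, LinearMap.transvection.det, hθB, map_sub, map_smul, hξA, hξB,
      smul_eq_mul]
    field_simp
    ring
  have hone : (1 : F) - τ + δ ≠ 0 := by simpa using h 1
  obtain ⟨a, ha⟩ : ∃ a : F, a * (1 - τ + δ) = -δ := ⟨_, div_mul_cancel₀ _ hone⟩
  set η : V →ₗ[F] F := a • ξ + a • θ with hη
  have hcomm : S * LinearMap.transvection η x * L = L * LinearMap.transvection η x := LinearMap.ext fun y => by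
    simp only [Module.End.mul_apply, LinearMap.transvection.apply, hS, hLy, hη, LinearMap.add_apply,
      LinearMap.smul_apply, map_add, map_smul, hξx, hθx, hξA, hξB, hθA, hθB, smul_eq_mul]
    match_scalars <;> first | ring1 | linear_combination (-θ y) * ha
  set D : End F V := LinearMap.transvection φ ((μ - 1) • x) with hD
  have hDL : D * L = L * D := LinearMap.ext fun y => by
    simp only [hD, Module.End.mul_apply, LinearMap.transvection.apply, hLy, map_add, map_smul, hφp, hφq, hξx, hθx,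
      hA, hB, map_sub, smul_eq_mul]
    module
  refine ⟨L, LinearMap.transvection η x * D, ?_, hdetL, ?_, ?_⟩
  · rw [mul_assoc, mul_assoc _ D L, hDL, ← mul_assoc (LinearMap.transvection η x) L D,
      ← mul_assoc S, ← mul_assoc S, hcomm, mul_assoc]
  · rw [map_mul, LinearMap.transvection.det, hD, LinearMap.transvection.det]
    simp [hη, hξx, hθx, hφx]
  · refine LinearMap.ext fun y => ?_
    obtain ⟨k, hk, hy⟩ : ∃ k, (ξ k = 0 ∧ θ k = 0) ∧ y = ξ y • p + θ y • q + k :=
      ⟨y - ξ y • p - θ y • q, by simp [hξp, hθp, hqξ, hθq], by abel⟩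
    rw [hy]
    have hLk : L k = k := by simp [hLy, hk.1, hk.2]
    have hLp : L p = q := by simp [hLy, hξp, hθp, hA]
    have hLq : L q = q + B := by simp [hLy, hqξ, hθq]
    have hkill : ∀ z, aeval L (quad τ δ) z = L (L z) - τ • L z + δ • z := fun z => by
      simp [quad, pow_two, Module.algebraMap_end_apply]
    have hqp : aeval L (quad τ δ) p = 0 := by rw [hkill, hLp, hLq, hB]; module
    have hqq : aeval L (quad τ δ) q = 0 := by
      rw [hkill, hLq, map_add, hLq, hLy B, hξB, hθB, hA, hB]; module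
    obtain ⟨m, hm⟩ : ∃ m, finrank F V - 2 = m + 1 := ⟨finrank F V - 3, by omega⟩
    rw [hm, ppoly, map_mul, Module.End.mul_apply]
    simp only [map_add, map_smul, hqp, hqq, smul_zero, zero_add, LinearMap.zero_apply]
    rw [hkill, hLk, hLk, pow_succ, map_mul, Module.End.mul_apply]
    simp [hLk]

/-- Every nonscalar map of determinant one is a twisted commutator, polynomial and determinants prescribed. -/
theorem exists_comm_end [Finite F] (hq : 4 ≤ Nat.card F) {τ δ : F} (h : NoRoot τ δ) (hτ : τ ≠ 0) {S : End F V}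
    (hd : 3 ≤ finrank F V) (hdet : LinearMap.det S = 1) (hns : ∀ κ : F, S ≠ κ • 1) {μ : F} (hμ : μ ≠ 0) :
    ∃ L z : End F V, S * z * L = L * z ∧ LinearMap.det L = δ ∧ LinearMap.det z = μ ∧
      aeval L (ppoly (finrank F V - 2) τ δ) = 0 := by
  classical
  by_cases hr : 2 ≤ finrank F (LinearMap.range (S - 1))
  swap
  · exact comm_transvection h hτ hd hdet (by simpa using hns 1) (by omega) hμ
  have : Nontrivial V := Module.nontrivial_of_finrank_pos (R := F) (by omega)
  obtain ⟨b, hb⟩ := exists_ne (0 : V)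
  obtain ⟨c, hc⟩ := Module.Projective.exists_dual_eq_one F hb
  obtain ⟨m, L, U, heq, hL, hU, -⟩ := peel_all hq h hτ _ S rfl (by omega) hdet ⟨hns, hr⟩ b c hb
    (fun e => by simp [e] at hc)
  have hm : m = finrank F V - 2 := by have h1 := hL.2.1; rw [natDegree_ppoly] at h1; omega
  obtain ⟨u, hu⟩ : IsUnit U := by
    rw [Module.End.isUnit_iff]
    have hd : LinearMap.det U ≠ 0 := fun e => by
      rw [heq, map_mul, e, mul_zero] at hdet
      exact zero_ne_one hdet
    exact (LinearMap.equivOfDetNeZero U hd).bijective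
  set Y : End F V := ↑u⁻¹
  have hUY : U * Y = 1 := by rw [← hu]; exact u.mul_inv
  have hYU : Y * U = 1 := by rw [← hu]; exact u.inv_mul
  have hδ := h.delta_ne
  have hYP : aeval Y (ppoly m τ δ) = 0 := by
    have hc : Commute Y U := hYU.trans hUY.symm
    have e1 : aeval Y (X - 1 : F[X]) = -(Y * aeval U (X - 1 : F[X])) := by
      simp [mul_sub, hYU]
    have e2 : aeval Y (quad τ δ) = δ • (Y ^ 2 * aeval U (quad (τ / δ) δ⁻¹)) := by
      have a1 : Y ^ 2 * U ^ 2 = 1 := by rw [← hc.mul_pow, hYU, one_pow]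
      have a2 : Y ^ 2 * U = Y := by rw [pow_two, mul_assoc, hYU, mul_one]
      simp only [quad, map_add, map_sub, map_mul, map_pow, aeval_X, aeval_C, Algebra.algebraMap_eq_smul_one,
        smul_mul_assoc, one_mul, mul_add, mul_sub, mul_smul_comm, mul_one, a1, a2, smul_add, smul_sub, smul_smul,
        mul_inv_cancel₀ hδ, mul_div_cancel₀ _ hδ, one_smul]
      abel
    have h2 := hU.2.2.1
    rw [ppoly, map_mul, map_pow] at h2 ⊢
    have hcU : ∀ g : F[X], Commute (aeval U g) Y := fun g => by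
      induction g using Polynomial.induction_on with
      | C a => simpa using (Algebra.commute_algebraMap_left a Y)
      | add p q hp hq => rw [map_add]; exact hp.add_left hq
      | monomial n a ih => simpa using (Algebra.commute_algebraMap_left a Y).mul_left (hc.symm.pow_left (n + 1))
    rw [e1, e2, neg_pow, ((hcU _).symm).mul_pow, mul_smul_comm, mul_assoc, mul_assoc,
      ← mul_assoc (aeval U (X - 1 : F[X]) ^ m) (Y ^ 2), ((hcU _).pow_left m |>.pow_right 2).eq,
      mul_assoc (Y ^ 2), h2]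
    simp
  have hY : Cyc Y (ppoly m τ δ) := hU.inv hUY (ppoly_monic _ _ _) (by simp [natDegree_ppoly]) hYP
  obtain ⟨e, he⟩ := hL.similar hY
  obtain ⟨d, hd', hde⟩ := exists_det_commute (A := (X - 1 : F[X]) ^ m) (h := quad τ δ) hY h.irreducible (h.coprime m)
    (d := μ * (LinearMap.det (e : V →ₗ[F] V))⁻¹) (mul_ne_zero hμ (inv_ne_zero e.isUnit_det'.ne_zero))
  refine ⟨L, d ∘ₗ (e : V →ₗ[F] V), LinearMap.ext fun x => ?_, ?_, ?_, hm ▸ hL.2.2.1⟩
  · show S (d (e (L x))) = L (d (e x))
    rw [he, show d (Y (e x)) = Y (d (e x)) from LinearMap.congr_fun hd' (e x), heq, Module.End.mul_apply,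
      ← Module.End.mul_apply U Y, hUY, Module.End.one_apply]
  · rw [hL.det, ppoly, mul_coeff_zero, show finrank F V = m + 2 by omega, pow_add]
    simp [coeff_zero_eq_eval_zero, quad_eval]
    rw [← mul_assoc, ← mul_pow]
    simp
  · rw [LinearMap.det_comp, hde, inv_mul_cancel_right₀ e.isUnit_det'.ne_zero]

/-- The matrix form. -/
theorem exists_comm_factor {F : Type u} [Field F] [Finite F] (hq : 4 ≤ Nat.card F) {n : ℕ} (hn : 3 ≤ n)
    {A : Matrix (Fin n) (Fin n) F} (hdet : A.det = 1) (hA : ∀ e : F, A ≠ e • 1) {l τ δ d : F} (hl : l ≠ 0)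
    (hτ : τ ≠ 0) (hirr : ∀ x : F, x ^ 2 - τ * x + δ ≠ 0) (hd : d ≠ 0) :
    ∃ s z : GL (Fin n) F, ((s * z * s⁻¹ * z⁻¹ : GL (Fin n) F) : Matrix (Fin n) (Fin n) F) = A ∧
      (s : Matrix (Fin n) (Fin n) F).det = l ^ (n - 2) * δ ∧ (z : Matrix (Fin n) (Fin n) F).det = d ∧
      aeval (s : Matrix (Fin n) (Fin n) F) ((X - C l) ^ (n - 2) * (X ^ 2 - C τ * X + C δ)) = 0 := by
  have h : NoRoot (τ / l) (δ / l ^ 2) := fun x hx => by
    refine hirr (l * x) ?_
    field_simp at hx
    linear_combination hx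
  have hδ : δ ≠ 0 := fun e => hirr 0 (by simp [e])
  let Ψ : Matrix (Fin n) (Fin n) F ≃ₐ[F] End F (Fin n → F) := Matrix.toLinAlgEquiv'
  have hΨ : ∀ M, LinearMap.det (Ψ M) = M.det := fun M => LinearMap.det_toLin' M
  obtain ⟨L, z, hc, hL, hz, hP⟩ := exists_comm_end (S := Ψ A) hq h (div_ne_zero hτ hl) (by simpa using hn)
    (by rw [hΨ, hdet]) (fun e he => hA e (Ψ.injective (by rw [map_smul, map_one, he]))) hd
  obtain ⟨M, rfl⟩ := Ψ.surjective L
  obtain ⟨Z, rfl⟩ := Ψ.surjective z
  rw [hΨ] at hL hz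
  have hc' : A * Z * M = M * Z := Ψ.injective (by simpa only [map_mul] using hc)
  have hMu : IsUnit (l • M).det := by
    rw [Matrix.det_smul, hL]
    exact (mul_ne_zero (pow_ne_zero _ hl) (div_ne_zero hδ (pow_ne_zero _ hl))).isUnit
  let s := Matrix.nonsingInvUnit (l • M) hMu
  let Zu := Matrix.nonsingInvUnit Z (hz ▸ hd.isUnit)
  refine ⟨s, Zu, ?_, ?_, hz, ?_⟩
  · rw [Units.val_mul, Units.mul_inv_eq_iff_eq_mul, Units.val_mul, Units.mul_inv_eq_iff_eq_mul, Units.val_mul]
    show l • M * Z = A * Z * (l • M)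
    rw [Matrix.smul_mul, Matrix.mul_smul, hc']
  · show (l • M).det = _
    rw [Matrix.det_smul, hL, Fintype.card_fin, show n = n - 2 + 2 by omega, pow_add]
    field_simp
    rw [show n - 2 + 2 - 2 = n - 2 by omega]
  · show aeval (l • M) _ = 0
    have h0 : aeval M (ppoly (n - 2) (τ / l) (δ / l ^ 2)) = 0 := Ψ.injective (by
      rw [map_zero]
      exact (aeval_algHom_apply Ψ.toAlgHom M _).symm.trans (by simpa using hP))
    have e1 : aeval (l • M) (X - C l) = l • aeval M (X - 1 : F[X]) := by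
      simp [smul_sub, Algebra.algebraMap_eq_smul_one]
    have e2 : aeval (l • M) (X ^ 2 - C τ * X + C δ) = l ^ 2 • aeval M (quad (τ / l) (δ / l ^ 2)) := by
      simp only [quad, map_add, map_sub, map_mul, map_pow, aeval_X, aeval_C, Algebra.algebraMap_eq_smul_one,
        _root_.smul_pow, smul_mul_assoc, one_mul, mul_smul_comm, smul_add, smul_sub, smul_smul]
      congr 2
      · congr 1; field_simp
      · exact (mul_div_cancel₀ _ (pow_ne_zero _ hl)).symm
    rw [ppoly, map_mul, map_pow] at h0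
    rw [map_mul, map_pow, e1, e2, _root_.smul_pow, smul_mul_assoc, mul_smul_comm, h0, smul_zero, smul_zero]

end CfsgLib.OreLevi
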