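import Cfsg.Agent.Lib.OreLevi.OrthParam
import Cfsg.Agent.Lib.OreLevi.FactorSplit

/-!
The factorisation used in the orthogonal groups over fields with at least four elements.
-/

set_option autoImplicit false

namespace CfsgLib.OreLevi.OrthPlus

open Matrix Polynomial CfsgLib.ClassSquare CfsgLib.SpComm

variable {F : Type*} [Field F] {n : ℕ} {ι : Type*}

theorem good_eval_one {P : F[X]} (hP : Good P) : P.eval 1 ≠ 0 := fun h => by
  obtain ⟨u, v, e⟩ := hP
  have hr : P.reverse.eval 1 = 0 := by
    have := @eval₂_reverse_mul_pow F _ F _ (RingHom.id F) 1 invertibleOne P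
    simpa [h] using this
  simpa [h, hr] using congrArg (Polynomial.eval 1) e

/-- No row is fixed by a matrix killed by a `Good` polynomial. -/
theorem no_fix {P : F[X]} (hP : Good P) {M : Matrix (Fin n) (Fin n) F} (hM : aeval M P = 0)
    {l : Matrix ι (Fin n) F} (hl : l * M = l) : l = 0 := by
  have h : ∀ f : F[X], l * aeval M f = f.eval 1 • l := fun f => by
    induction f using Polynomial.induction_on' with
    | add p q hp hq => rw [map_add, Matrix.mul_add, hp, hq, Polynomial.eval_add, add_smul]
    | monomial k c =>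
      have hk : ∀ k : ℕ, l * M ^ k = l := fun k => by
        induction k with
        | zero => rw [pow_zero, Matrix.mul_one]
        | succ k ih => rw [pow_succ, ← Matrix.mul_assoc, ih, hl]
      rw [aeval_monomial, Polynomial.eval_monomial, one_pow, mul_one, ← Algebra.smul_def, Matrix.mul_smul, hk]
  have := h P
  rw [hM, Matrix.mul_zero] at this
  exact (smul_eq_zero.1 this.symm).resolve_left (good_eval_one hP)

theorem no_fix_both {P : F[X]} (hP : Good P) {M : Matrix (Fin n) (Fin n) F} (hM : aeval M P = 0)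
    {l : Matrix ι (Fin n) F} (hl : l = l * M ∨ l * Mᵀ = l) : l = 0 := by
  rcases hl with h | h
  · exact no_fix hP hM h.symm
  · exact no_fix hP (by rw [aeval_transpose, hM, transpose_zero]) h

/-- The factorisation over a field with at least four elements. -/
theorem exists_fac [Finite F] (hq : 4 ≤ Nat.card F) (hn : 3 ≤ n) (A : Matrix (Fin n) (Fin n) F) (hdet : A.det = 1)
    (hA : CfsgLib.ClassSquare.Nonscalar A) : ∃ s z : GL (Fin n) F,
      A = (s : Matrix (Fin n) (Fin n) F) * z * (s⁻¹ : GL (Fin n) F) * (z⁻¹ : GL (Fin n) F) ∧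
        IsSquare (s : Matrix (Fin n) (Fin n) F).det ∧ IsSquare (z : Matrix (Fin n) (Fin n) F).det ∧
        TwistFree (s : Matrix (Fin n) (Fin n) F) ∧ ∀ l : Matrix (Fin 2) (Fin n) F,
          (l = l * (s : Matrix (Fin n) (Fin n) F) ∨ l * (s : Matrix (Fin n) (Fin n) F)ᵀ = l) → l = 0 := by
  obtain ⟨l, τ, δ, hl, hτ, hirr, hsq, hP⟩ := exists_param hq n
  obtain ⟨s, z, h, hs, hz, hk⟩ :=
    CfsgLib.OreLevi.exists_comm_factor hq hn hdet hA hl hτ hirr (d := 1) one_ne_zero
  refine ⟨s, z, ?_, hs ▸ hsq, hz ▸ IsSquare.one, twistFree_of_good hP hk, fun _ h => no_fix_both hP hk h⟩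
  rw [← h]; rfl

end CfsgLib.OreLevi.OrthPlus
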