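import Cfsg.Agent.Lib.OreLevi.OrthMinusMove
import Cfsg.Agent.Lib.OrthAut.FixFreePair

/-!
Commutators in `Ω⁻(2m + 2, F)`: an isometry that is not `± 1` has a conjugate `L * lev A * U` with `det A = 1`
and trivial middle part; a factorisation `A = s z s⁻¹ z⁻¹` with a fixed-point-free Levi element makes it a
commutator.
-/

set_option autoImplicit false
set_option linter.unusedSectionVars false
set_option linter.style.haveILetI false

namespace CfsgLib.OreLevi.OrthMinus

open Matrix CfsgLib.ClassSquare CfsgLib.ClassSquare.Orth CfsgLib.Orth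
open CfsgLib.OreLevi.OrthPlus (IsComm TwistFree)

variable {F : Type*} [Field F] {m : ℕ} {a b : F}

/-- A commutator of two isometries of the plane. -/
def WComm (a b : F) (r : Matrix (Fin 2) (Fin 2) F) : Prop :=
  WIso a b r ∧ ∃ r1 r2, WIso a b r1 ∧ WIso a b r2 ∧ r * (r2 * r1) = r1 * r2

theorem WComm.one : WComm a b (1 : Matrix (Fin 2) (Fin 2) F) :=
  ⟨WIso.one, 1, 1, WIso.one, WIso.one, by simp⟩

/-- A normalising element of a finite subgroup normalises it from both sides. -/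
theorem inv_conj_mem {G : Type*} [Group G] (U : Subgroup G) [Finite U] {k : G}
    (hn : ∀ x ∈ U, k * x * k⁻¹ ∈ U) {g : G} (hg : g ∈ U) : k⁻¹ * g * k ∈ U := by
  let φ : U → U := fun x => ⟨k * x * k⁻¹, hn _ x.2⟩
  have hinj : Function.Injective φ := fun x y e => by
    have e' : k * (x : G) * k⁻¹ = k * y * k⁻¹ := congrArg Subtype.val e
    exact Subtype.ext (mul_left_cancel (mul_right_cancel e'))
  obtain ⟨x, hx⟩ := Finite.surjective_of_injective hinj ⟨g, hg⟩
  have e : k * (x : G) * k⁻¹ = g := congrArg Subtype.val hx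
  rw [← e]
  simp [mul_assoc]

/-- A rank one perturbation of a scalar which is scalar is trivial. -/
theorem rank_one_scalar (hm : 2 ≤ m) {c d : F} {s ρ : Fin m → F}
    (h : c • (1 : Matrix (Fin m) (Fin m) F) = d • (1 + vecMulVec s ρ)) (hd : d ≠ 0) : vecMulVec s ρ = 0 := by
  haveI : Nontrivial (Fin m) := Fin.nontrivial_iff_two_le.2 hm
  by_contra hne
  obtain ⟨i, j, hij⟩ : ∃ i j, s i * ρ j ≠ 0 := by
    by_contra hc
    push Not at hc
    exact hne (by ext i j; simpa [vecMulVec_apply] using hc i j)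
  have off : ∀ i j, i ≠ j → s i * ρ j = 0 := fun i j hne => by
    have := congrFun (congrFun h i) j
    simp [vecMulVec_apply, hne] at this
    rcases this with h1 | h1 | h1
    · exact absurd h1 hd
    · rw [h1, zero_mul]
    · rw [h1, mul_zero]
  obtain rfl : i = j := by
    by_contra hne'
    exact hij (off i j hne')
  obtain ⟨k, hk⟩ := exists_ne i
  have h1 := congrFun (congrFun h i) i
  have h2 := congrFun (congrFun h k) k
  have hk0 : s k = 0 := (mul_eq_zero.1 (off k i hk)).resolve_right (right_ne_zero_of_mul hij)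
  simp [vecMulVec_apply, hk0] at h1 h2
  rw [h2] at h1
  exact mul_ne_zero hd hij (by linear_combination -h1)

variable {Q : QuadraticForm F (Idx m → F)}

theorem comm_mem (x y : Grp Q) : x * y * x⁻¹ * y⁻¹ ∈ Cfsg.Omega F ⇑Q := by
  rw [Cfsg.Omega, _root_.commutator_def, ← commutatorElement_def]
  exact Subgroup.commutator_mem_commutator (Subgroup.mem_top _) (Subgroup.mem_top _)

theorem conj_mem (x : Grp Q) {y : Grp Q} (hy : y ∈ Cfsg.Omega F ⇑Q) : x * y * x⁻¹ ∈ Cfsg.Omega F ⇑Q :=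
  (inferInstance : (Cfsg.Omega F ⇑Q).Normal).conj_mem _ hy _

/-- Commutators of `Ω` are transported by conjugation in the isometry group. -/
theorem isComm_of_conj (h : Grp Q) (g g' : ↥(Cfsg.Omega F ⇑Q)) (e : (g' : Grp Q) = h * g * h⁻¹) (hc : IsComm g') :
    IsComm g := by
  obtain ⟨x, y, hxy⟩ := hc
  refine ⟨⟨h⁻¹ * x * h, by simpa using conj_mem h⁻¹ x.2⟩, ⟨h⁻¹ * y * h, by simpa using conj_mem h⁻¹ y.2⟩,
    Subtype.ext ?_⟩
  have exy : (g' : Grp Q) = x * y * (x : Grp Q)⁻¹ * (y : Grp Q)⁻¹ := by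
    rw [hxy]; simp
  simp only [Subgroup.coe_mul, Subgroup.coe_inv]
  calc (g : Grp Q) = h⁻¹ * (g' : Grp Q) * h := by rw [e]; group
    _ = _ := by rw [exy]; group

variable (hQ : ⇑Q = Cfsg.quadFormMinus m F a b) (hB : Nondeg Q) [Finite F]

include hQ hB

theorem om_levi (M : GL (Fin m) F) {r : Matrix (Fin 2) (Fin 2) F} (hr : WIso a b r) {N : GL (Fin m) F}
    (hN : (N : Matrix (Fin m) (Fin m) F) = ((M⁻¹ : GL (Fin m) F) : Matrix (Fin m) (Fin m) F)ᵀ) :
    om hQ hB * (lev hQ hB M * levW hQ hB r hr) * om hQ hB = lev hQ hB N * levW hQ hB r hr := by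
  have hNi : ((N⁻¹ : GL (Fin m) F) : Matrix (Fin m) (Fin m) F) = (M : Matrix (Fin m) (Fin m) F)ᵀ := by
    apply Units.inv_eq_of_mul_eq_one_right
    rw [hN, ← Matrix.transpose_mul, ← Units.val_mul, mul_inv_cancel, Units.val_one, Matrix.transpose_one]
  refine ext_vv fun x y w => ?_
  rw [ap_mul, ap_mul, ap_om, levi_ap, ap_om, levi_ap, hN, hNi, Matrix.transpose_transpose]

theorem levW_mem {r : Matrix (Fin 2) (Fin 2) F} (hr : WComm a b r) :
    levW hQ hB r hr.1 ∈ Cfsg.Omega F ⇑Q := by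
  obtain ⟨r1, r2, h1, h2, e⟩ := hr.2
  have e' : levW hQ hB r hr.1 * (levW hQ hB r2 h2 * levW hQ hB r1 h1) = levW hQ hB r1 h1 * levW hQ hB r2 h2 := by
    rw [← levW_mul, ← levW_mul, ← levW_mul]
    congr 1
  have e2 : levW hQ hB r hr.1 =
      levW hQ hB r1 h1 * levW hQ hB r2 h2 * (levW hQ hB r1 h1)⁻¹ * (levW hQ hB r2 h2)⁻¹ := by
    rw [← e']; group
  rw [e2]
  exact comm_mem _ _

theorem lev_sl_mem (hm : 3 ≤ m) (T : GL (Fin m) F) (hT : (T : Matrix (Fin m) (Fin m) F).det = 1) :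
    lev hQ hB T ∈ Cfsg.Omega F ⇑Q := by
  haveI := Fintype.ofFinite F
  obtain ⟨x, y, hxy⟩ := Cfsg.Agent.S2444.result (F := F) m (by omega) (by omega) ⟨(T : Matrix (Fin m) (Fin m) F), hT⟩
  have e : T = SpecialLinearGroup.toGL x * SpecialLinearGroup.toGL y * (SpecialLinearGroup.toGL x)⁻¹ *
      (SpecialLinearGroup.toGL y)⁻¹ := by
    rw [← map_inv, ← map_inv, ← map_mul, ← map_mul, ← map_mul, ← hxy]
    exact Units.ext rfl
  rw [e, show lev hQ hB _ = levHom hQ hB _ from rfl, map_mul, map_mul, map_mul, map_inv, map_inv]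
  exact comm_mem _ _

/-- The Levi class of a general matrix. -/
theorem lev_class (hm : 3 ≤ m) (M : GL (Fin m) F) :
    dickson hB (lev hQ hB M) = 1 ∧
      ((2 : F) ≠ 0 → spinor Q 1 (lev hQ hB M) = sqc (M : Matrix (Fin m) (Fin m) F).det) := by
  classical
  have hn : 2 ≤ Module.finrank F (Idx m → F) := by simp
  set δ := (M : Matrix (Fin m) (Fin m) F).det
  have hδ : δ ≠ 0 := M.det_ne_zero
  let i0 : Fin m := ⟨0, by omega⟩
  let D : Fin m → F := Function.update 1 i0 δ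
  have hD : ∀ j, D j ≠ 0 := fun j => by
    rcases eq_or_ne j i0 with rfl | h
    · simpa [D] using hδ
    · simp [D, h]
  have hDd : ∏ j, D j = δ := by simp [D, Finset.prod_update_of_mem]
  let C : GL (Fin m) F := GeneralLinearGroup.mkOfDetNeZero (diagonal D) (by rw [det_diagonal, hDd]; exact hδ)
  have hyp : CfsgLib.Classical.WittBasis.IsHyp Q
      (fun j : Fin m => (vv (Pi.single j 1) 0 0 : Idx m → F)) (fun j => vv 0 (Pi.single j 1) 0) := by
    refine ⟨fun i => ?_, fun i => ?_, fun i j => ?_, fun i j => ?_, fun i j => ?_⟩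
    all_goals simp [q_vv hQ, b_vv hQ, Pi.single_apply, eq_comm]
  obtain ⟨g, g1, g2, g3, g4, g5⟩ := exists_scale hB hn hyp D hD
  have hinv : ((C⁻¹ : GL (Fin m) F) : Matrix (Fin m) (Fin m) F) = diagonal fun j => (D j)⁻¹ := by
    apply Units.inv_eq_of_mul_eq_one_right
    show diagonal D * diagonal (fun j => (D j)⁻¹) = 1
    rw [diagonal_mul_diagonal, ← diagonal_one]
    exact congrArg _ (funext fun j => mul_inv_cancel₀ (hD j))
  have e : lev hQ hB C = g := by
    refine mat_inj (Matrix.ext_of_mulVec_single fun k => ?_)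
    show ap (lev hQ hB C) _ = ap g _
    rcases k with (k | k) | k
    · rw [show (Pi.single (Sum.inl (Sum.inl k)) (1 : F) : Idx m → F) = vv (Pi.single k 1) 0 0 from by
        funext i; rcases i with (i | i) | i <;> simp [vv, Pi.single_apply], g1, ap_lev, vv_smul]
      refine vv_ext ?_ ?_ ?_ <;> simp [C, GeneralLinearGroup.mkOfDetNeZero] <;>
        funext i <;> simp [Pi.single_apply]
    · rw [show (Pi.single (Sum.inl (Sum.inr k)) (1 : F) : Idx m → F) = vv 0 (Pi.single k 1) 0 from by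
        funext i; rcases i with (i | i) | i <;> simp [vv, Pi.single_apply], g2, ap_lev, vv_smul, hinv]
      refine vv_ext ?_ ?_ ?_ <;> simp <;>
        funext i <;> simp [Pi.single_apply]
    · rw [show (Pi.single (Sum.inr k) (1 : F) : Idx m → F) = vv 0 0 (Pi.single k 1) from by
        funext i; rcases i with (i | i) | i <;> simp [vv, Pi.single_apply], g3 _ (fun j => by simp [b_vv hQ])
        (fun j => by simp [b_vv hQ]), ap_lev]
      simp
  have hT : ((M * C⁻¹ : GL (Fin m) F) : Matrix (Fin m) (Fin m) F).det = 1 := by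
    rw [Units.val_mul, det_mul, hinv, det_diagonal, Finset.prod_inv_distrib, hDd]
    exact mul_inv_cancel₀ hδ
  have hM : lev hQ hB M = lev hQ hB (M * C⁻¹) * g := by rw [← e, ← lev_mul, inv_mul_cancel_right]
  obtain ⟨m1, m2⟩ := of_mem_omega hB (lev_sl_mem hQ hB hm _ hT)
  refine ⟨by rw [hM, map_mul, m1, g4, one_mul], fun h2 => ?_⟩
  rw [hM, map_mul, m2, g5 h2, one_mul, hDd]

theorem lev_mem (hm : 3 ≤ m) (M : GL (Fin m) F) (hM : IsSquare (M : Matrix (Fin m) (Fin m) F).det) :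
    lev hQ hB M ∈ Cfsg.Omega F ⇑Q :=
  mem_omega hB (by simp; omega) _ (lev_class hQ hB hm M).1 fun h2 => by
    rw [(lev_class hQ hB hm M).2 h2, sqc_eq_one.2 hM]

/-- The lower radical lies in `Ω` when some Levi element acts on it without fixed points. -/
theorem low_mem (M : GL (Fin m) F) {r : Matrix (Fin 2) (Fin 2) F} (hr : WIso a b r)
    (hf : Free (M : Matrix (Fin m) (Fin m) F) r) {g : Grp Q} (hg : g ∈ Low Q) : g ∈ Cfsg.Omega F ⇑Q := by
  obtain ⟨x, -, rfl⟩ := exists_comm_of_free (Low Q) (levi_normal hQ hB M hr) (levi_free hQ hB M hr hf) hg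
  exact comm_mem _ _

/-- The commutator identity. -/
theorem isComm_factor (hm : 3 ≤ m) (g : ↥(Cfsg.Omega F ⇑Q)) {L U : Grp Q} (hL : L ∈ Low Q)
    (hU : om hQ hB * U * om hQ hB ∈ Low Q) {M s z : GL (Fin m) F} (hM : M = s * z * s⁻¹ * z⁻¹)
    (hg : (g : Grp Q) = L * lev hQ hB M * U)
    (hs : IsSquare (s : Matrix (Fin m) (Fin m) F).det) (hz : IsSquare (z : Matrix (Fin m) (Fin m) F).det)
    (htw : TwistFree (s : Matrix (Fin m) (Fin m) F)) {r : Matrix (Fin 2) (Fin 2) F} (hr : WComm a b r)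
    (hfr : ∀ l : Matrix (Fin 2) (Fin m) F, (r * l = l * (s : Matrix (Fin m) (Fin m) F) ∨
      r * l * (s : Matrix (Fin m) (Fin m) F)ᵀ = l) → l = 0) : IsComm g := by
  set k := lev hQ hB s * levW hQ hB r hr.1 with hk
  set kz := lev hQ hB z
  set o := om hQ hB
  have ho : o * o = 1 := om_mul_self hQ hB
  have hoi : o⁻¹ = o := om_inv hQ hB
  have hf : Free (s : Matrix (Fin m) (Fin m) F) r :=
    ⟨fun X hX h => htw X hX (Or.inl h), fun l h => hfr l (Or.inl h)⟩
  let s' : GL (Fin m) F := ⟨((s⁻¹ : GL (Fin m) F) : Matrix (Fin m) (Fin m) F)ᵀ, (s : Matrix (Fin m) (Fin m) F)ᵀ,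
    by rw [← Matrix.transpose_mul, ← Units.val_mul, mul_inv_cancel, Units.val_one, Matrix.transpose_one],
    by rw [← Matrix.transpose_mul, ← Units.val_mul, inv_mul_cancel, Units.val_one, Matrix.transpose_one]⟩
  let z' : GL (Fin m) F := ⟨((z⁻¹ : GL (Fin m) F) : Matrix (Fin m) (Fin m) F)ᵀ, (z : Matrix (Fin m) (Fin m) F)ᵀ,
    by rw [← Matrix.transpose_mul, ← Units.val_mul, mul_inv_cancel, Units.val_one, Matrix.transpose_one],
    by rw [← Matrix.transpose_mul, ← Units.val_mul, inv_mul_cancel, Units.val_one, Matrix.transpose_one]⟩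
  have hss : (s : Matrix (Fin m) (Fin m) F) * ((s⁻¹ : GL (Fin m) F) : Matrix (Fin m) (Fin m) F) = 1 := by
    rw [← Units.val_mul, mul_inv_cancel, Units.val_one]
  have hf' : Free (s' : Matrix (Fin m) (Fin m) F) r := by
    refine ⟨fun X hX h => htw X hX (Or.inr ?_), fun l h => hfr l (Or.inr ?_)⟩
    · simp only [s', Matrix.transpose_transpose] at h
      conv_lhs => rw [← h]
      calc _ = ((s : Matrix (Fin m) (Fin m) F) * ((s⁻¹ : GL (Fin m) F) : Matrix (Fin m) (Fin m) F)) * X *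
            ((s : Matrix (Fin m) (Fin m) F) * ((s⁻¹ : GL (Fin m) F) : Matrix (Fin m) (Fin m) F))ᵀ := by
            simp only [Matrix.transpose_mul, Matrix.mul_assoc]
        _ = X := by rw [hss]; simp
    · simp only [s'] at h
      rw [h, Matrix.mul_assoc, ← Matrix.transpose_mul, hss, Matrix.transpose_one, Matrix.mul_one]
  have kω : o * k * o = lev hQ hB s' * levW hQ hB r hr.1 := om_levi hQ hB s hr.1 rfl
  have kzω : o * kz * o = lev hQ hB z' * levW hQ hB 1 WIso.one := by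
    rw [← om_levi hQ hB z WIso.one (N := z') rfl, levW_one, mul_one]
  have hK : ∀ x ∈ Low Q, (o * k * o) * x * (o * k * o)⁻¹ ∈ Low Q := by
    rw [kω]; exact levi_normal hQ hB s' hr.1
  have hKz : ∀ x ∈ Low Q, (o * kz * o) * x * (o * kz * o)⁻¹ ∈ Low Q := by
    rw [kzω]; exact levi_normal hQ hB z' WIso.one
  have hfreeK : ∀ x ∈ Low Q, (o * k * o)⁻¹ * x = x * (o * k * o)⁻¹ → x = 1 := fun x hx h => by
    refine levi_free hQ hB s' hr.1 hf' x hx ?_
    rw [← kω]
    calc o * k * o * x = o * k * o * (x * (o * k * o)⁻¹) * (o * k * o) := by group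
      _ = x * (o * k * o) := by rw [← h]; group
  obtain ⟨y, hy, hye⟩ := exists_comm_of_free (Low Q) (k := (o * k * o)⁻¹)
    (fun x hx => by simpa using inv_conj_mem (Low Q) hK hx) hfreeK
    (inv_conj_mem (Low Q) hK (inv_conj_mem (Low Q) hKz hU))
  obtain ⟨x, hx, hxe⟩ := exists_comm_of_free (Low Q) (levi_normal hQ hB s hr.1) (levi_free hQ hB s hr.1 hf) hL
  set y' := o * y * o
  have xm := low_mem hQ hB s hr.1 hf hx
  have ym : y' ∈ Cfsg.Omega F ⇑Q := by
    have := conj_mem o (low_mem hQ hB s hr.1 hf hy)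
    rwa [hoi] at this
  have km : k ∈ Cfsg.Omega F ⇑Q := mul_mem (lev_mem hQ hB hm s hs) (levW_mem hQ hB hr)
  have kzm : kz ∈ Cfsg.Omega F ⇑Q := lev_mem hQ hB hm z hz
  have hkA : lev hQ hB M = k * kz * k⁻¹ * kz⁻¹ := by
    have c2 : levW hQ hB r hr.1 * kz = kz * levW hQ hB r hr.1 := (lev_commute_levW hQ hB z hr.1).symm.eq
    rw [hM, show lev hQ hB _ = levHom hQ hB _ from rfl, map_mul, map_mul, map_mul, map_inv, map_inv]
    show lev hQ hB s * kz * (lev hQ hB s)⁻¹ * kz⁻¹ = _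
    rw [hk, mul_assoc (lev hQ hB s) (levW hQ hB r hr.1) kz, c2]
    group
  have e2 : y' * k⁻¹ * y'⁻¹ = k⁻¹ * kz⁻¹ * U * kz := by
    have hy1 : y * (o * k * o)⁻¹ * y⁻¹ = (o * k * o)⁻¹ * ((o * kz * o)⁻¹ * (o * U * o) * (o * kz * o)) := by
      have := congrArg (· * (o * k * o)⁻¹) hye
      simpa [mul_assoc] using this
    have hoo : ∀ q : Grp Q, o * (o * q) = q := fun q => by rw [← mul_assoc, ho, one_mul]
    have := congrArg (fun q => o * q * o) hy1
    simpa [y', _root_.mul_inv_rev, hoi, mul_assoc, hoo, ho] using this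
  have e1 : L * k = x * k * x⁻¹ := by rw [← hxe, hk]; group
  refine ⟨⟨x, xm⟩ * ⟨k, km⟩ * ⟨x, xm⟩⁻¹, ⟨kz, kzm⟩ * ⟨y', ym⟩ * ⟨x, xm⟩⁻¹, Subtype.ext ?_⟩
  simp only [Subgroup.coe_mul, Subgroup.coe_inv]
  calc (g : Grp Q) = (L * k) * (kz * (k⁻¹ * kz⁻¹ * U * kz) * kz⁻¹) := by rw [hg, hkA]; group
    _ = (x * k * x⁻¹) * (kz * (y' * k⁻¹ * y'⁻¹) * kz⁻¹) := by rw [e1, e2]
    _ = _ := by group

omit hQ hB in
/-- A conjugate of a free matrix is free for the trivial middle part. -/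
theorem free_conj {M P : GL (Fin m) F} (h : Free (M : Matrix (Fin m) (Fin m) F) (1 : Matrix (Fin 2) (Fin 2) F)) :
    Free ((P * M * P⁻¹ : GL (Fin m) F) : Matrix (Fin m) (Fin m) F) (1 : Matrix (Fin 2) (Fin 2) F) := by
  set Pm := (P : Matrix (Fin m) (Fin m) F)
  set Pi := ((P⁻¹ : GL (Fin m) F) : Matrix (Fin m) (Fin m) F)
  have hPP : Pi * Pm = 1 := by rw [← Units.val_mul, inv_mul_cancel, Units.val_one]
  have hPP' : Pm * Pi = 1 := by rw [← Units.val_mul, mul_inv_cancel, Units.val_one]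
  refine ⟨fun X hX e => ?_, fun l e => ?_⟩
  · have h0 := h.1 _ (hX.congr Pm) (by
      have := congrArg (fun Y => Pmᵀ * Y * Pm) e
      simp only [Units.val_mul, Matrix.transpose_mul, Matrix.mul_assoc] at this ⊢
      rw [hPP, Matrix.mul_one, ← Matrix.mul_assoc Pmᵀ Piᵀ, ← Matrix.transpose_mul, hPP, Matrix.transpose_one,
        Matrix.one_mul] at this
      exact this)
    calc X = (Pm * Pi)ᵀ * X * (Pm * Pi) := by rw [hPP', Matrix.transpose_one, Matrix.one_mul, Matrix.mul_one]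
      _ = Piᵀ * (Pmᵀ * X * Pm) * Pi := by simp only [Matrix.transpose_mul, Matrix.mul_assoc]
      _ = 0 := by rw [h0, Matrix.mul_zero, Matrix.zero_mul]
  · have h0 := h.2 (l * Pm) (by
      rw [Matrix.one_mul] at e ⊢
      conv_lhs => rw [e]
      simp only [Units.val_mul, Matrix.mul_assoc]
      rw [hPP, Matrix.mul_one])
    calc l = l * Pm * Pi := by rw [Matrix.mul_assoc, hPP', Matrix.mul_one]
      _ = 0 := by rw [h0, Matrix.zero_mul]

omit hQ hB in
/-- In odd characteristic the binary form takes every nonzero value. -/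
theorem exists_nW (h2 : (2 : F) ≠ 0) (hab : Aniso a b) {c : F} (hc : c ≠ 0) : ∃ u, u ≠ 0 ∧ nW a b u = c := by
  haveI := Fintype.ofFinite F
  set d := b - a * a / 4
  have h4 : (4 : F) ≠ 0 := by rw [show (4 : F) = 2 * 2 by norm_num]; exact mul_ne_zero h2 h2
  have hd : d ≠ 0 := fun e => h2 (hab (-a) 2 (by
    have : b * 4 = a * a := by
      have := sub_eq_zero.1 e
      rw [this]; field_simp
    linear_combination this)).2
  have hodd : Fintype.card F % 2 = 1 := FiniteField.odd_card_of_char_ne_two fun e => h2 (by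
    haveI : CharP F 2 := e ▸ ringChar.charP F
    exact CharTwo.two_eq_zero)
  obtain ⟨x, y, hxy⟩ := FiniteField.exists_root_sum_quadratic (R := F) (f := Polynomial.X ^ 2)
    (g := Polynomial.C d * Polynomial.X ^ 2 - Polynomial.C c) (Polynomial.degree_X_pow 2) (by
      rw [Polynomial.degree_sub_C] <;> rw [Polynomial.degree_C_mul_X_pow 2 hd]
      · rfl
      · exact WithBot.coe_lt_coe.2 (by norm_num))
    hodd
  simp at hxy
  rw [show d = b - a * a / 4 from rfl] at hxy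
  refine ⟨![x - a * y / 2, y], fun e => hc ?_, ?_⟩
  · have e0 := congrFun e 1
    have e1 := congrFun e 0
    simp at e0 e1
    rw [e0] at e1 hxy
    simp at e1 hxy
    rw [e1] at hxy
    simpa using hxy
  · simp [nW]
    linear_combination (norm := (field_simp; ring)) hxy

/-- The reflection in the middle compensates the exchange. -/
theorem exists_sigma (hab : Aniso a b) (hm : 3 ≤ m) (hodd : Odd m) :
    ∃ u, ∃ hu : u ≠ (0 : Fin 2 → F), om hQ hB * levW hQ hB (rf a b u) (rf_wiso hab hu) ∈ Cfsg.Omega F ⇑Q := by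
  classical
  have hn : 5 ≤ Module.finrank F (Idx m → F) := by simp; omega
  -- the exchange is a product of reflections in orthogonal vectors
  choose σ hσ using fun i : Fin m => exists_refl hB (v := vv (Pi.single i 1) (-Pi.single i 1) 0)
    (by rw [q_vv hQ]; simp)
  have apσ : ∀ i x y w, ap (σ i) (vv x y w) =
      vv (x + (y i - x i) • Pi.single i 1) (y - (y i - x i) • Pi.single i 1) w := fun i x y w => by
    rw [(hσ i).2, q_vv hQ, b_vv hQ]
    refine vv_ext ?_ ?_ ?_ <;> funext j <;>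
      simp [vv, xp, yp, wp, dotProduct_neg] <;> ring
  have key : ∀ S : Finset (Fin m), ∃ p : Grp Q,
      (∀ x y w, ap p (vv x y w) =
        vv (fun i => if i ∈ S then y i else x i) (fun i => if i ∈ S then x i else y i) w) ∧
      dickson hB p = (-1) ^ S.card ∧
      ((2 : F) ≠ 0 → ∀ (u : Fin 2 → F) (hu : u ≠ 0),
        spinor Q 1 p = (spinor Q 1 (levW hQ hB (rf a b u) (rf_wiso hab hu)) * sqc (nW a b u) * sqc (-1 : F)) ^ S.card) := by
    intro S
    induction S using Finset.induction_on with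
    | empty => exact ⟨1, fun x y w => by simp, by simp, fun _ u hu => by simp⟩
    | insert i T hi ih =>
      obtain ⟨p, p1, p2, p3⟩ := ih
      refine ⟨σ i * p, fun x y w => ?_, ?_, fun h2 u hu => ?_⟩
      · rw [ap_mul, p1, apσ]
        refine vv_ext (funext fun j => ?_) (funext fun j => ?_) rfl
        · rcases eq_or_ne j i with h | h
          · subst h; simp [hi]
          · simp [h]
        · rcases eq_or_ne j i with h | h
          · subst h; simp [hi]
          · simp [h]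
      · rw [map_mul, dickson_refl hB (hσ i), p2, Finset.card_insert_of_notMem hi, pow_succ']
      · rw [map_mul, p3 h2 u hu, Finset.card_insert_of_notMem hi, pow_succ',
          CfsgLib.Orth.spinor_refl_sqc hB h2 (by omega) (hσ i) (isRefl_levW hQ hB hab hu), q_vv hQ, q_vv hQ]
        simp
  obtain ⟨p, p1, p2, p3⟩ := key Finset.univ
  have ep : p = om hQ hB := ext_vv fun x y w => by rw [p1, ap_om]; simp
  rw [ep, Finset.card_univ, Fintype.card_fin] at p2 p3
  have fin : ∀ u (hu : u ≠ (0 : Fin 2 → F)),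
      ((2 : F) ≠ 0 → sqc (nW a b u) = sqc (-1 : F)) →
      om hQ hB * levW hQ hB (rf a b u) (rf_wiso hab hu) ∈ Cfsg.Omega F ⇑Q := fun u hu hsq => by
    refine mem_omega hB hn _ ?_ fun h2 => ?_
    · rw [map_mul, p2, hodd.neg_one_pow, dickson_refl hB (isRefl_levW hQ hB hab hu)]; rfl
    · rw [map_mul, p3 h2 u hu, hsq h2]
      obtain ⟨k, rfl⟩ := hodd
      rcases Int.units_eq_one_or (spinor Q 1 (levW hQ hB (rf a b u) (rf_wiso hab hu))) with h | h <;>
        rcases Int.units_eq_one_or (sqc (-1 : F)) with h' | h' <;> simp [h, h', pow_succ, pow_mul]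
  by_cases h2 : (2 : F) = 0
  · have h10 : (![1, 0] : Fin 2 → F) ≠ 0 := fun h => by simpa using congrFun h 0
    exact ⟨_, h10, fin _ h10 fun h => absurd h2 h⟩
  · obtain ⟨u, hu, hN⟩ := exists_nW h2 hab (neg_ne_zero.2 (one_ne_zero (α := F)))
    exact ⟨u, hu, fin u hu fun _ => by rw [hN]⟩

/-- The commutator identity for a factorisation through a transpose, in odd rank. -/
theorem isComm_factor_transpose (hab : Aniso a b) (hm : 3 ≤ m) (hodd : Odd m) (g : ↥(Cfsg.Omega F ⇑Q)) {L U : Grp Q}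
    (hL : L ∈ Low Q) (hU : om hQ hB * U * om hQ hB ∈ Low Q) {M s z : GL (Fin m) F}
    (hM : (M : Matrix (Fin m) (Fin m) F) =
      (s : Matrix (Fin m) (Fin m) F) * z * (s : Matrix (Fin m) (Fin m) F)ᵀ * (z⁻¹ : GL (Fin m) F))
    (hg : (g : Grp Q) = L * lev hQ hB M * U)
    (hs : IsSquare (s : Matrix (Fin m) (Fin m) F).det) (hz : IsSquare (z : Matrix (Fin m) (Fin m) F).det)
    (hf : Free (s : Matrix (Fin m) (Fin m) F) (1 : Matrix (Fin 2) (Fin 2) F)) : IsComm g := by
  obtain ⟨u, hu, hmem⟩ := exists_sigma hQ hB hab hm hodd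
  set o := om hQ hB
  have hoi : o⁻¹ = o := om_inv hQ hB
  set σ := levW hQ hB (rf a b u) (rf_wiso hab hu)
  set k := lev hQ hB s
  set kz := lev hQ hB z * (o * σ)
  let sT : GL (Fin m) F := ⟨(s : Matrix (Fin m) (Fin m) F)ᵀ, ((s⁻¹ : GL (Fin m) F) : Matrix (Fin m) (Fin m) F)ᵀ,
    by rw [← Matrix.transpose_mul, ← Units.val_mul, inv_mul_cancel, Units.val_one, Matrix.transpose_one],
    by rw [← Matrix.transpose_mul, ← Units.val_mul, mul_inv_cancel, Units.val_one, Matrix.transpose_one]⟩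
  let zi : GL (Fin m) F := ⟨((z⁻¹ : GL (Fin m) F) : Matrix (Fin m) (Fin m) F)ᵀ, (z : Matrix (Fin m) (Fin m) F)ᵀ,
    by rw [← Matrix.transpose_mul, ← Units.val_mul, mul_inv_cancel, Units.val_one, Matrix.transpose_one],
    by rw [← Matrix.transpose_mul, ← Units.val_mul, inv_mul_cancel, Units.val_one, Matrix.transpose_one]⟩
  set t := z * sT * z⁻¹
  set t' := zi * s⁻¹ * zi⁻¹
  have lW : ∀ A : GL (Fin m) F, lev hQ hB A * levW hQ hB 1 WIso.one = lev hQ hB A := fun A => by
    rw [levW_one, mul_one]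
  have ek : σ * k⁻¹ * σ⁻¹ = k⁻¹ := by
    rw [← ((lev_commute_levW hQ hB s (rf_wiso hab hu)).inv_left).eq, mul_inv_cancel_right]
  have eo : o * k⁻¹ * o = lev hQ hB sT := by
    rw [show k⁻¹ = lev hQ hB s⁻¹ from (map_inv (levHom hQ hB) s).symm, ← lW s⁻¹,
      om_levi hQ hB s⁻¹ WIso.one (N := sT) (by simp [sT]), lW]
  have et : kz * k⁻¹ * kz⁻¹ = lev hQ hB t := by
    calc kz * k⁻¹ * kz⁻¹ = lev hQ hB z * (o * (σ * k⁻¹ * σ⁻¹) * o⁻¹) * (lev hQ hB z)⁻¹ := by
          simp only [kz]; group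
      _ = levHom hQ hB t := by
          rw [ek, hoi, eo, map_mul, map_mul, map_inv]; rfl
      _ = _ := rfl
  have htT : (t' : Matrix (Fin m) (Fin m) F) = ((t⁻¹ : GL (Fin m) F) : Matrix (Fin m) (Fin m) F)ᵀ := by
    simp only [t, t', _root_.mul_inv_rev, inv_inv, Units.val_mul, Matrix.transpose_mul, zi, sT, Units.inv_mk,
      Matrix.transpose_transpose, Matrix.mul_assoc]
  have hfi : Free ((s⁻¹ : GL (Fin m) F) : Matrix (Fin m) (Fin m) F) (1 : Matrix (Fin 2) (Fin 2) F) := by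
    refine ⟨fun X hX h => hf.1 X hX (CfsgLib.OreLevi.OrthPlus.fixed_of_inv s h), fun l e => hf.2 l ?_⟩
    rw [Matrix.one_mul] at e ⊢
    conv_rhs => rw [e]
    rw [Matrix.mul_assoc, ← Units.val_mul, inv_mul_cancel, Units.val_one, Matrix.mul_one]
  have ot : o * lev hQ hB t * o = lev hQ hB t' := by
    rw [← lW t, om_levi hQ hB t WIso.one (N := t') htT, lW]
  have hn' : ∀ x ∈ Low Q, (o * lev hQ hB t * o) * x * (o * lev hQ hB t * o)⁻¹ ∈ Low Q := by
    rw [ot, ← lW t']; exact levi_normal hQ hB t' WIso.one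
  have hfree' : ∀ x ∈ Low Q, (o * lev hQ hB t * o) * x = x * (o * lev hQ hB t * o) → x = 1 := by
    rw [ot, ← lW t']; exact levi_free hQ hB t' WIso.one (free_conj hfi)
  have hnk : ∀ x ∈ Low Q, k * x * k⁻¹ ∈ Low Q := by
    rw [show k = lev hQ hB s * levW hQ hB 1 WIso.one from (lW s).symm]
    exact levi_normal hQ hB s WIso.one
  have hfk : ∀ x ∈ Low Q, k * x = x * k → x = 1 := by
    rw [show k = lev hQ hB s * levW hQ hB 1 WIso.one from (lW s).symm]
    exact levi_free hQ hB s WIso.one hf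
  obtain ⟨x, hx, hxe⟩ := exists_comm_of_free (Low Q) hnk hfk hL
  obtain ⟨y, hy, hye⟩ := exists_comm_of_free (Low Q) hn' hfree' (hn' _ hU)
  have xm := low_mem hQ hB s WIso.one hf hx
  have ym : o * y * o ∈ Cfsg.Omega F ⇑Q := by
    have := conj_mem o (low_mem hQ hB s WIso.one hf hy)
    rwa [hoi] at this
  have hkz : kz ∈ Cfsg.Omega F ⇑Q := mul_mem (lev_mem hQ hB hm z hz) hmem
  have hoo : ∀ q : Grp Q, o * (o * q) = q := fun q => by rw [← mul_assoc, om_mul_self hQ hB, one_mul]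
  have e2 : (o * y * o) * lev hQ hB t * (o * y * o)⁻¹ = lev hQ hB t * U := by
    have := congrArg (fun q => o * (q * (o * lev hQ hB t * o)) * o) hye
    simpa [_root_.mul_inv_rev, hoi, mul_assoc, hoo, om_mul_self hQ hB, o] using this
  have e1 : L * k = x * k * x⁻¹ := by rw [← hxe]; group
  have hkA : lev hQ hB M = k * lev hQ hB t := by
    rw [← lev_mul]
    congr 1
    refine Units.ext ?_
    rw [hM]
    simp [t, sT, Matrix.mul_assoc]
  refine ⟨⟨x, xm⟩ * ⟨k, lev_mem hQ hB hm s hs⟩ * ⟨x, xm⟩⁻¹, ⟨_, ym⟩ * ⟨kz, hkz⟩ * ⟨x, xm⟩⁻¹, Subtype.ext ?_⟩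
  simp only [Subgroup.coe_mul, Subgroup.coe_inv]
  calc (g : Grp Q) = (L * k) * (lev hQ hB t * U) := by rw [hg, hkA]; group
    _ = (x * k * x⁻¹) * ((o * y * o) * (kz * k⁻¹ * kz⁻¹) * (o * y * o)⁻¹) := by rw [e1, ← e2, et]
    _ = _ := by group

/-- A factorisation of a corner, through an inverse or, in odd rank, through a transpose. -/
def FacOK (a b : F) (A : Matrix (Fin m) (Fin m) F) : Prop :=
  (∃ s z : GL (Fin m) F,
      A = (s : Matrix (Fin m) (Fin m) F) * z * (s⁻¹ : GL (Fin m) F) * (z⁻¹ : GL (Fin m) F) ∧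
        IsSquare (s : Matrix (Fin m) (Fin m) F).det ∧ IsSquare (z : Matrix (Fin m) (Fin m) F).det ∧
        TwistFree (s : Matrix (Fin m) (Fin m) F) ∧ ∃ r, WComm a b r ∧
          ∀ l : Matrix (Fin 2) (Fin m) F, (r * l = l * (s : Matrix (Fin m) (Fin m) F) ∨
            r * l * (s : Matrix (Fin m) (Fin m) F)ᵀ = l) → l = 0) ∨
    Odd m ∧ ∃ s z : GL (Fin m) F,
      A = (s : Matrix (Fin m) (Fin m) F) * z * (s : Matrix (Fin m) (Fin m) F)ᵀ * (z⁻¹ : GL (Fin m) F) ∧
        IsSquare (s : Matrix (Fin m) (Fin m) F).det ∧ IsSquare (z : Matrix (Fin m) (Fin m) F).det ∧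
        Free (s : Matrix (Fin m) (Fin m) F) (1 : Matrix (Fin 2) (Fin 2) F)

/-- Everything is a commutator, given the factorisation of non-scalar matrices and the minus one element. -/
theorem isComm_omega (hab : Aniso a b) (hm : 3 ≤ m)
    (hneg : ∀ g : ↥(Cfsg.Omega F ⇑Q), mat (g : Grp Q) = (-1 : F) • 1 → IsComm g)
    (hone : ∃ (s : GL (Fin m) F) (r : Matrix (Fin 2) (Fin 2) F),
      IsSquare (s : Matrix (Fin m) (Fin m) F).det ∧ WComm a b r ∧ TwistFree (s : Matrix (Fin m) (Fin m) F) ∧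
        ∀ l : Matrix (Fin 2) (Fin m) F, (r * l = l * (s : Matrix (Fin m) (Fin m) F) ∨
          r * l * (s : Matrix (Fin m) (Fin m) F)ᵀ = l) → l = 0)
    (hfac : ∀ A : Matrix (Fin m) (Fin m) F, A.det = 1 → Nonscalar A → FacOK a b A)
    (g : ↥(Cfsg.Omega F ⇑Q)) : IsComm g := by
  classical
  haveI := Fintype.ofFinite F
  by_cases hex : ∀ h : Grp Q, ¬ IsPos (h * (g : Grp Q) * h⁻¹)
  · obtain ⟨c, hc, hgc⟩ := eq_one_or_neg_one hQ hB hab (by omega) (g : Grp Q) hex
    rcases hc with rfl | rfl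
    · exact ⟨1, 1, Subtype.ext (mat_inj (by rw [hgc, one_smul]; simp [mat_one]))⟩
    · exact hneg g hgc
  -- a free Levi element
  obtain ⟨i, j, hij⟩ : ∃ i j : Fin m, i ≠ j := ⟨⟨0, by omega⟩, ⟨1, by omega⟩, by simp⟩
  haveI : Nonempty (Fin m) := ⟨i⟩
  obtain ⟨sf, rW, hrWi, hf0⟩ : ∃ (sf : GL (Fin m) F) (rW : Matrix (Fin 2) (Fin 2) F), WIso a b rW ∧
      Free (sf : Matrix (Fin m) (Fin m) F) rW := by
    rcases hfac (transvection i j 1) (det_transvection_of_ne i j hij 1)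
      (fun c e => by simpa [transvection, hij] using congrFun (congrFun e i) j) with
      ⟨s, -, -, -, -, htw, r, hr, hfr⟩ | ⟨-, s, -, -, -, -, hf⟩
    · exact ⟨s, r, hr.1, fun X hX h => htw X hX (Or.inl h), fun l h => hfr l (Or.inl h)⟩
    · exact ⟨s, 1, WIso.one, hf⟩
  -- a conjugate in good position with the wanted corner
  push Not at hex
  obtain ⟨h0, hp0⟩ := hex
  set g0 := h0 * (g : Grp Q) * h0⁻¹
  have hg0 : g0 ∈ Cfsg.Omega F ⇑Q := conj_mem h0 g.2
  -- a non-scalar corner, unless the field has two elements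
  obtain ⟨h1, hp1, hns⟩ : ∃ h : Grp Q, IsPos (h * g0 * h⁻¹) ∧
      (Nonscalar (ag (h * g0 * h⁻¹)) ∨ ∀ c : F, c ≠ 0 → c = 1) := by
    by_cases hsc : Nonscalar (ag g0)
    · exact ⟨1, by simpa using hp0, Or.inl (by simpa using hsc)⟩
    by_cases h2 : ∀ c : F, c ≠ 0 → c = 1
    · exact ⟨1, by simpa using hp0, Or.inr h2⟩
    push Not at h2
    obtain ⟨c, hc0, hc1⟩ := h2
    obtain ⟨s, hs⟩ : ∃ s, cwg g0 *ᵥ s ≠ 0 := by
      by_contra hc
      push Not at hc
      exact hp0.2 (Matrix.ext_iff_mulVec.mpr fun x => by rw [hc x, Matrix.zero_mulVec])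
    set nu := nW a b (cwg g0 *ᵥ s)
    have hnu : nu ≠ 0 := nW_ne hab hs
    obtain ⟨z, hz, hμ⟩ : ∃ z : Fin 2 → F, z ≠ 0 ∧ nu * nW a b z ≠ 1 := by
      by_contra hc
      push Not at hc
      have e : ∀ z : Fin 2 → F, z ≠ 0 → nW a b z = nu⁻¹ := fun z hz => (inv_eq_of_mul_eq_one_right (hc z hz)).symm
      have n00 : (![1, 0] : Fin 2 → F) ≠ 0 := fun h => by simpa using congrFun h 0
      have n01 : (![0, 1] : Fin 2 → F) ≠ 0 := fun h => by simpa using congrFun h 1
      have n11 : (![1, 1] : Fin 2 → F) ≠ 0 := fun h => by simpa using congrFun h 0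
      have n1m : (![1, -1] : Fin 2 → F) ≠ 0 := fun h => by simpa using congrFun h 0
      have e00 := e _ n00
      have e01 := e _ n01
      have e11 := e _ n11
      have e1m := e _ n1m
      simp [nW] at e00 e01 e11 e1m
      have hcc : c * c = 1 := by
        have e0c := e _ (smul_ne_zero hc0 n00)
        rw [nW_smul, e _ n00] at e0c
        exact (mul_eq_right₀ (inv_ne_zero hnu)).1 e0c
      rcases mul_self_eq_one_iff.1 hcc with h | h
      · exact hc1 h
      · -- odd characteristic: the values at the four vectors are incompatible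
        have h2 : (2 : F) ≠ 0 := fun h2 => hc1 (by rw [h]; linear_combination (-1 : F) * h2)
        have ha : a = 0 := (mul_eq_zero.1 (show (2 : F) * a = 0 by linear_combination e11 - e1m)).resolve_left h2
        rw [ha] at e11
        exact one_ne_zero (α := F) (by linear_combination e11 - e01)
    obtain ⟨M0, hM0⟩ : ∃ M : GL (Fin m) F, (M : Matrix (Fin m) (Fin m) F) = ag g0 :=
      ⟨GeneralLinearGroup.mkOfDetNeZero _ hp0.1, rfl⟩
    obtain ⟨-, -, -, r0, -, -, -, hmid0⟩ := exists_decomp hQ hB hab g0 M0 hM0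
    obtain ⟨h, hpos, hdet, ⟨ρ, hA', hρ0⟩, -⟩ := move_main hQ hB hab g0 M0 hM0
      hmid0 s hs hz
    refine ⟨h, hpos, Or.inl fun d e => ?_⟩
    simp only [Nonscalar, not_forall, not_not] at hsc
    obtain ⟨d0, hd0⟩ := hsc
    have hd0' : d0 ≠ 0 := fun e0 => hp0.1 (by
      rw [hd0, e0, zero_smul, Matrix.det_zero])
    rw [hd0, Matrix.smul_mul, Matrix.one_mul, e] at hA'
    have hv := rank_one_scalar (by omega) hA' hd0'
    have : ρ ⬝ᵥ s = 0 := by
      have := congrArg Matrix.trace hv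
      simpa [Matrix.trace_vecMulVec, dotProduct_comm] using this
    rw [this, add_zero] at hρ0
    exact hμ hρ0.symm
  set g1 := h1 * g0 * h1⁻¹
  have hg1 : g1 ∈ Cfsg.Omega F ⇑Q := conj_mem h1 hg0
  obtain ⟨M, hM⟩ : ∃ M : GL (Fin m) F, (M : Matrix (Fin m) (Fin m) F) = ag g1 :=
    ⟨GeneralLinearGroup.mkOfDetNeZero _ hp1.1, rfl⟩
  obtain ⟨L, hL, U, r, hr, hU, hdec, hmid⟩ := exists_decomp hQ hB hab g1 M hM
  have hUm : U ∈ Cfsg.Omega F ⇑Q := by
    have := conj_mem (om hQ hB) (low_mem hQ hB sf hrWi hf0 hU)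
    rw [om_inv] at this
    simpa [mul_assoc, om_mul_self hQ hB, ← mul_assoc (om hQ hB) (om hQ hB)] using this
  have hk1 : lev hQ hB M * levW hQ hB r hr ∈ Cfsg.Omega F ⇑Q := by
    have e : lev hQ hB M * levW hQ hB r hr = L⁻¹ * g1 * U⁻¹ := by rw [hdec]; group
    rw [e]
    exact mul_mem (mul_mem (inv_mem (low_mem hQ hB sf hrWi hf0 hL)) hg1) (inv_mem hUm)
  obtain ⟨hd1, hsp1⟩ := of_mem_omega hB hk1
  rw [map_mul, (lev_class hQ hB hm M).1, one_mul] at hd1
  have dref : ∀ u (hu : u ≠ (0 : Fin 2 → F)), dickson hB (levW hQ hB (rf a b u) (rf_wiso hab hu)) = -1 :=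
    fun u hu => dickson_refl hB (isRefl_levW hQ hB hab hu)
  -- the vector for the middle
  have choose_z : ∀ s, cwg g1 *ᵥ s ≠ 0 → ∃ z : Fin 2 → F, z ≠ 0 ∧
      (ag g1).det * (nW a b (cwg g1 *ᵥ s) * nW a b z) = 1 ∧ rf a b z * rf a b (cwg g1 *ᵥ s) * r = 1 := by
    intro s hs
    set u := cwg g1 *ᵥ s
    obtain ⟨z0, hz0, hz0e⟩ : ∃ z0, z0 ≠ 0 ∧ rf a b u * r = rf a b z0 := by
      have hd : dickson hB (levW hQ hB _ ((rf_wiso hab hs).mul hr)) = -1 := by
        rw [levW_mul hQ hB (rf_wiso hab hs) hr, map_mul, dref u hs, hd1, mul_one]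
      rcases plane_cases hab ((rf_wiso hab hs).mul hr) with e | ⟨d, hd', e⟩ | ⟨d, d', hd', hd'', e⟩
      · exfalso
        simp only [e] at hd
        rw [levW_one, map_one] at hd
        exact absurd hd (by decide)
      · exact ⟨d, hd', e⟩
      · exfalso
        simp only [e] at hd
        rw [levW_mul hQ hB (rf_wiso hab hd') (rf_wiso hab hd''), map_mul, dref d hd', dref d' hd''] at hd
        exact absurd hd (by decide)
    have hnu := nW_ne hab hs
    have hnz := nW_ne hab hz0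
    obtain ⟨c, hc⟩ : IsSquare ((ag g1).det * (nW a b u * nW a b z0)) := by
      by_cases h2 : (2 : F) = 0
      · haveI : CharP F 2 := CharTwo.of_one_ne_zero_of_two_eq_zero one_ne_zero h2
        exact FiniteField.isSquare_of_char_two (ringChar.eq F 2) _
      have er : r = rf a b u * rf a b z0 := by
        rw [← hz0e, ← Matrix.mul_assoc, rf_mul_self hab hs, Matrix.one_mul]
      subst er
      rw [map_mul, (lev_class hQ hB hm M).2 h2, levW_mul hQ hB (rf_wiso hab hs) (rf_wiso hab hz0), map_mul,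
        CfsgLib.Orth.spinor_refl_sqc hB h2 (by simp) (isRefl_levW hQ hB hab hz0)
          (isRefl_levW hQ hB hab hs), q_vv hQ, q_vv hQ, hM] at hsp1
      rw [← sqc_eq_one, sqc_mul hp1.1 (mul_ne_zero hnu hnz), sqc_mul hnu hnz]
      simp only [dotProduct_zero, zero_add] at hsp1
      rcases Int.units_eq_one_or (spinor Q 1 (levW hQ hB (rf a b u) (rf_wiso hab hs))) with h | h <;>
        simp [h, mul_assoc] at hsp1 <;> exact hsp1
    have hc0 : c ≠ 0 := fun e => mul_ne_zero hp1.1 (mul_ne_zero hnu hnz) (by rw [hc, e, mul_zero])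
    refine ⟨c⁻¹ • z0, smul_ne_zero (inv_ne_zero hc0) hz0, ?_, ?_⟩
    · rw [nW_smul]
      field_simp
      linear_combination hc
    · rw [rf_smul (inv_ne_zero hc0), Matrix.mul_assoc, hz0e, rf_mul_self hab hz0]
  -- the normal form
  obtain ⟨h2, hdet2, hns2, hmid2⟩ : ∃ h : Grp Q, (ag (h * g1 * h⁻¹)).det = 1 ∧
      (Nonscalar (ag (h * g1 * h⁻¹)) ∨ ag (h * g1 * h⁻¹) = 1) ∧
      ∀ r' : Matrix (Fin 2) (Fin 2) F,
        (∀ x w, xp (ap (h * g1 * h⁻¹) (vv x 0 w)) = 0 → wp (ap (h * g1 * h⁻¹) (vv x 0 w)) = r' *ᵥ w) → r' = 1 := by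
    obtain ⟨s, hs⟩ : ∃ s, cwg g1 *ᵥ s ≠ 0 := by
      by_contra hc
      push Not at hc
      exact hp1.2 (Matrix.ext_iff_mulVec.mpr fun x => by rw [hc x, Matrix.zero_mulVec])
    obtain ⟨z, hz, hdz, hrz⟩ := choose_z s hs
    obtain ⟨h, -, hdet, ⟨ρ, hA', -⟩, hmid'⟩ := move_main hQ hB hab g1 M hM hmid s hs hz
    rw [hdz] at hdet
    rw [hrz] at hmid'
    by_cases hn : Nonscalar (ag (h * g1 * h⁻¹))
    · exact ⟨h, hdet, Or.inl hn, hmid'⟩
    simp only [Nonscalar, not_forall, not_not] at hn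
    obtain ⟨ε, hε⟩ := hn
    have hε0 : ε ≠ 0 := fun e0 => one_ne_zero (hdet.symm.trans (by
      rw [hε, e0, zero_smul, Matrix.det_zero]))
    rcases hns with hns | h2
    · -- another column
      obtain ⟨k, hk, hk0⟩ : ∃ k : Fin m → F, cwg g1 *ᵥ k = 0 ∧ k ≠ 0 := by
        have hlt : Module.finrank F (Fin 2 → F) < Module.finrank F (Fin m → F) := by simp; omega
        obtain ⟨k, hk, hk0⟩ := Submodule.exists_mem_ne_zero_of_ne_bot
          (LinearMap.ker_ne_bot_of_finrank_lt (f := (cwg g1).mulVecLin) hlt)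
        exact ⟨k, by simpa using hk, hk0⟩
      have hs' : cwg g1 *ᵥ (s + k) ≠ 0 := by rwa [Matrix.mulVec_add, hk, add_zero]
      obtain ⟨z', hz', hdz', hrz'⟩ := choose_z (s + k) hs'
      obtain ⟨h', -, hdet', ⟨ρ', hB', -⟩, hmid''⟩ := move_main hQ hB hab g1 M hM hmid (s + k) hs' hz'
      rw [hdz'] at hdet'
      rw [hrz'] at hmid''
      refine ⟨h', hdet', Or.inl fun ε' e => ?_, hmid''⟩
      rw [hε] at hA'
      rw [e] at hB'
      -- both products scalar
      have key : ε' • (1 + vecMulVec s ρ) = ε • (1 + vecMulVec (s + k) ρ') := by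
        have e3 : ag g1 * (ε' • (1 + vecMulVec s ρ)) = ag g1 * (ε • (1 + vecMulVec (s + k) ρ')) := by
          rw [Matrix.mul_smul, Matrix.mul_smul, ← hA', ← hB', smul_smul, smul_smul, mul_comm]
        have := congrArg (fun N => ((M⁻¹ : GL (Fin m) F) : Matrix (Fin m) (Fin m) F) * N) e3
        simpa [← hM] using this
      obtain ⟨x1, hx1, hx10⟩ : ∃ x : Fin m → F, (ρ ⬝ᵥ x = 0 ∧ ρ' ⬝ᵥ x = 0) ∧ x ≠ 0 := by
        have hlt : Module.finrank F (Fin 2 → F) < Module.finrank F (Fin m → F) := by simp; omega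
        obtain ⟨x, hx, hx0⟩ := Submodule.exists_mem_ne_zero_of_ne_bot
          (LinearMap.ker_ne_bot_of_finrank_lt (f := (Matrix.of ![ρ, ρ']).mulVecLin) hlt)
        rw [LinearMap.mem_ker, Matrix.mulVecLin_apply] at hx
        exact ⟨x, ⟨congrFun hx 0, congrFun hx 1⟩, hx0⟩
      have ev : ∀ x, ε' • (x + (ρ ⬝ᵥ x) • s) = ε • (x + (ρ' ⬝ᵥ x) • (s + k)) := fun x => by
        have := congrArg (· *ᵥ x) key
        simpa [Matrix.smul_mulVec, Matrix.add_mulVec, Matrix.vecMulVec_mulVec] using this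
      have hεε : ε' = ε := by
        have := ev x1
        simp only [hx1.1, hx1.2, zero_smul, add_zero] at this
        exact smul_left_injective F hx10 this
      have ev' : ∀ x, (ρ ⬝ᵥ x) • s = (ρ' ⬝ᵥ x) • (s + k) := fun x => by
        have := ev x
        rw [hεε] at this
        exact add_left_cancel (smul_right_injective _ hε0 this)
      by_cases hρ : ρ = 0
      · rw [hρ, Matrix.vecMulVec_zero, add_zero, Matrix.mul_one] at hA'
        exact hns ε hA'.symm
      obtain ⟨x, hx⟩ : ∃ x, ρ ⬝ᵥ x ≠ 0 := by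
        by_contra hc
        push Not at hc
        exact hρ (dotProduct_eq_zero _ hc)
      have e5 := congrArg (fun q => cwg g1 *ᵥ q) (ev' x)
      simp only [Matrix.mulVec_smul, Matrix.mulVec_add, hk, add_zero] at e5
      have e6 : ρ ⬝ᵥ x = ρ' ⬝ᵥ x := smul_left_injective F hs e5
      have e7 := ev' x
      rw [← e6, smul_add, eq_comm, add_eq_left, smul_eq_zero] at e7
      exact e7.elim hx hk0
    · exact ⟨h, hdet, Or.inr (by rw [hε, h2 ε hε0, one_smul]), hmid'⟩
  set g2 := h2 * g1 * h2⁻¹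
  obtain ⟨M2, hM2⟩ : ∃ M : GL (Fin m) F, (M : Matrix (Fin m) (Fin m) F) = ag g2 :=
    ⟨GeneralLinearGroup.mkOfDetNeZero _ (hdet2.trans_ne one_ne_zero), rfl⟩
  obtain ⟨L2, hL2, U2, r2, hr2, hU2, hdec2, hmid3⟩ := exists_decomp hQ hB hab g2 M2 hM2
  obtain rfl := hmid2 r2 hmid3
  rw [levW_one, mul_one] at hdec2
  have hg2 : g2 ∈ Cfsg.Omega F ⇑Q := conj_mem h2 hg1
  refine isComm_of_conj (h2 * h1 * h0) g ⟨g2, hg2⟩ (by simp [g2, g1, g0, mul_assoc]) ?_
  rcases hns2 with hn | h1e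
  · rcases hfac _ hdet2 hn with ⟨s, z, hA, hs, hz, htw, rr, hrr, hfr⟩ | ⟨hodd, s, z, hA, hs, hz, hf⟩
    · exact isComm_factor hQ hB hm ⟨g2, hg2⟩ hL2 hU2 (s := s) (z := z)
        (Units.ext (by rw [hM2, hA]; simp [Units.val_mul])) hdec2 hs hz htw hrr hfr
    · exact isComm_factor_transpose hQ hB hab hm hodd ⟨g2, hg2⟩ hL2 hU2 (s := s) (z := z)
        (by rw [hM2, hA]) hdec2 hs hz hf
  · -- a trivial corner: the decomposition is a product of two unipotent elements
    obtain ⟨s, r, hs, hr, htw, hfr⟩ := hone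
    exact isComm_factor hQ hB hm ⟨g2, hg2⟩ hL2 hU2 (s := s) (z := 1)
      (Units.ext (by rw [hM2, h1e]; simp)) hdec2 hs (by simp) htw hr hfr

end CfsgLib.OreLevi.OrthMinus
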