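import Cfsg.Agent.Lib.OreLevi.OrthPlus

/-!
Coordinates `(x, y, w)` for the orthogonal group of minus type: `x` and `y` in `F^m`, `w` in the anisotropic
plane.
-/

set_option autoImplicit false
set_option linter.unusedSectionVars false

namespace CfsgLib.OreLevi.OrthMinus

open Matrix CfsgLib.ClassSquare CfsgLib.ClassSquare.Orth CfsgLib.Orth

variable {F : Type*} [Field F] {m : ℕ}

/-- The index type. -/
abbrev Idx (m : ℕ) : Type := (Fin m ⊕ Fin m) ⊕ Fin 2

/-- The vector with the given components. -/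
def vv (x y : Fin m → F) (w : Fin 2 → F) : Idx m → F := Sum.elim (Sum.elim x y) w

/-- First component. -/
def xp (v : Idx m → F) : Fin m → F := fun i => v (.inl (.inl i))

/-- Second component. -/
def yp (v : Idx m → F) : Fin m → F := fun i => v (.inl (.inr i))

/-- Middle component. -/
def wp (v : Idx m → F) : Fin 2 → F := fun i => v (.inr i)

@[simp] theorem xp_vv (x y : Fin m → F) (w : Fin 2 → F) : xp (vv x y w) = x := rfl
@[simp] theorem yp_vv (x y : Fin m → F) (w : Fin 2 → F) : yp (vv x y w) = y := rfl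
@[simp] theorem wp_vv (x y : Fin m → F) (w : Fin 2 → F) : wp (vv x y w) = w := rfl

@[simp] theorem vv_parts (v : Idx m → F) : vv (xp v) (yp v) (wp v) = v := by
  funext i; rcases i with (i | i) | i <;> rfl

theorem vv_ext {v v' : Idx m → F} (h1 : xp v = xp v') (h2 : yp v = yp v') (h3 : wp v = wp v') : v = v' := by
  rw [← vv_parts v, ← vv_parts v', h1, h2, h3]

@[simp] theorem vv_zero : vv (0 : Fin m → F) 0 0 = 0 := by funext i; rcases i with (i | i) | i <;> rfl

theorem vv_add (x y x' y' : Fin m → F) (w w' : Fin 2 → F) :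
    vv x y w + vv x' y' w' = vv (x + x') (y + y') (w + w') := by
  funext i; rcases i with (i | i) | i <;> rfl

theorem vv_smul (c : F) (x y : Fin m → F) (w : Fin 2 → F) : c • vv x y w = vv (c • x) (c • y) (c • w) := by
  funext i; rcases i with (i | i) | i <;> rfl

theorem vv_split (x y : Fin m → F) (w : Fin 2 → F) : vv x y w = vv x 0 0 + vv 0 y 0 + vv 0 0 w := by
  rw [vv_add, vv_add]; simp

variable (a b : F)

/-- The binary form. -/
def nW (w : Fin 2 → F) : F := w 0 ^ 2 + a * w 0 * w 1 + b * w 1 ^ 2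

/-- The matrix of the polar of the binary form. -/
def gW : Matrix (Fin 2) (Fin 2) F := !![2, a; a, 2 * b]

/-- The polar of the binary form. -/
def bW (u w : Fin 2 → F) : F := u ⬝ᵥ (gW a b *ᵥ w)

theorem bW_eq (u w : Fin 2 → F) :
    bW a b u w = 2 * u 0 * w 0 + a * (u 0 * w 1 + u 1 * w 0) + 2 * b * u 1 * w 1 := by
  simp [bW, gW, dotProduct, mulVec, Fin.sum_univ_two]; ring

theorem bW_comm (u w : Fin 2 → F) : bW a b u w = bW a b w u := by rw [bW_eq, bW_eq]; ring

theorem nW_add (u w : Fin 2 → F) : nW a b (u + w) = nW a b u + nW a b w + bW a b u w := by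
  simp [nW, bW_eq]; ring

theorem nW_smul (c : F) (u : Fin 2 → F) : nW a b (c • u) = c * c * nW a b u := by simp [nW]; ring

theorem bW_smul_left (c : F) (u w : Fin 2 → F) : bW a b (c • u) w = c * bW a b u w := by
  simp [bW_eq]; ring

theorem bW_smul_right (c : F) (u w : Fin 2 → F) : bW a b u (c • w) = c * bW a b u w := by
  simp [bW_eq]; ring

theorem bW_add_left (u u' w : Fin 2 → F) : bW a b (u + u') w = bW a b u w + bW a b u' w := by
  simp [bW_eq]; ring

theorem bW_add_right (u w w' : Fin 2 → F) : bW a b u (w + w') = bW a b u w + bW a b u w' := by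
  simp [bW_eq]; ring

theorem bW_sub_right (u w w' : Fin 2 → F) : bW a b u (w - w') = bW a b u w - bW a b u w' := by
  simp [bW_eq]; ring

theorem bW_self (u : Fin 2 → F) : bW a b u u = 2 * nW a b u := by simp [bW_eq, nW]; ring

@[simp] theorem nW_zero : nW a b (0 : Fin 2 → F) = 0 := by simp [nW]

@[simp] theorem bW_zero_left (w : Fin 2 → F) : bW a b 0 w = 0 := by simp [bW_eq]

@[simp] theorem bW_zero_right (u : Fin 2 → F) : bW a b u 0 = 0 := by simp [bW_eq]

/-- Anisotropy. -/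
abbrev Aniso : Prop := ∀ z₁ z₂ : F, z₁ ^ 2 + a * z₁ * z₂ + b * z₂ ^ 2 = 0 → z₁ = 0 ∧ z₂ = 0

theorem nW_ne {a b : F} (hab : Aniso a b) {w : Fin 2 → F} (hw : w ≠ 0) : nW a b w ≠ 0 := fun e => hw (by
  funext i
  fin_cases i
  · exact (hab _ _ e).1
  · exact (hab _ _ e).2)

variable {a b}
variable {Q : QuadraticForm F (Idx m → F)} (hQ : ⇑Q = Cfsg.quadFormMinus m F a b)

local notation "B" => QuadraticMap.polar (DFunLike.coe Q)

include hQ

theorem q_vv (x y : Fin m → F) (w : Fin 2 → F) : Q (vv x y w) = x ⬝ᵥ y + nW a b w := by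
  rw [hQ]; rfl

theorem b_vv (x y x' y' : Fin m → F) (w w' : Fin 2 → F) :
    B (vv x y w) (vv x' y' w') = x ⬝ᵥ y' + x' ⬝ᵥ y + bW a b w w' := by
  unfold QuadraticMap.polar
  rw [vv_add, q_vv hQ, q_vv hQ, q_vv hQ, nW_add]
  simp only [add_dotProduct, dotProduct_add]
  ring

omit hQ

/-- A matrix acting by components. -/
def blk9 (A B' C D : Matrix (Fin m) (Fin m) F) (P P' : Matrix (Fin m) (Fin 2) F)
    (l E : Matrix (Fin 2) (Fin m) F) (r : Matrix (Fin 2) (Fin 2) F) : Matrix (Idx m) (Idx m) F :=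
  fromBlocks (fromBlocks A B' C D) (Matrix.fromRows P P') (Matrix.fromCols l E) r

theorem blk9_mulVec (A B' C D : Matrix (Fin m) (Fin m) F) (P P' : Matrix (Fin m) (Fin 2) F)
    (l E : Matrix (Fin 2) (Fin m) F) (r : Matrix (Fin 2) (Fin 2) F) (x y : Fin m → F) (w : Fin 2 → F) :
    blk9 A B' C D P P' l E r *ᵥ vv x y w =
      vv (A *ᵥ x + B' *ᵥ y + P *ᵥ w) (C *ᵥ x + D *ᵥ y + P' *ᵥ w) (l *ᵥ x + E *ᵥ y + r *ᵥ w) := by
  funext i
  rcases i with (i | i) | i <;>
    simp [blk9, vv, fromBlocks_mulVec, Matrix.fromRows_mulVec, Matrix.fromCols_mulVec]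

variable (hB : Nondeg Q)

/-- The isometry given by a matrix preserving the form. -/
noncomputable def mkG (M : Matrix (Idx m) (Idx m) F) (h : ∀ x y w, Q (M *ᵥ vv x y w) = Q (vv x y w)) : Grp Q :=
  (exists_iso hB (Matrix.mulVecLin M) (fun v => by
    rw [Matrix.mulVecLin_apply, ← vv_parts v]; exact h _ _ _)).choose

theorem ap_mkG (M : Matrix (Idx m) (Idx m) F) (h : ∀ x y w, Q (M *ᵥ vv x y w) = Q (vv x y w)) (v : Idx m → F) :
    ap (mkG hB M h) v = M *ᵥ v :=
  (exists_iso hB (Matrix.mulVecLin M) (fun v => by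
    rw [Matrix.mulVecLin_apply, ← vv_parts v]; exact h _ _ _)).choose_spec v

theorem ext_vv {g g' : Grp Q} (h : ∀ x y w, ap g (vv x y w) = ap g' (vv x y w)) : g = g' :=
  ext_ap fun v => by rw [← vv_parts v]; exact h _ _ _

include hQ

/-- The exchange of the two totally singular parts. -/
noncomputable def om : Grp Q :=
  mkG hB (blk9 0 1 1 0 0 0 0 0 1) fun x y w => by
    rw [blk9_mulVec, q_vv hQ, q_vv hQ]; simp [dotProduct_comm]

theorem ap_om (x y : Fin m → F) (w : Fin 2 → F) : ap (om hQ hB) (vv x y w) = vv y x w := by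
  rw [om, ap_mkG, blk9_mulVec]; simp

theorem om_mul_self : om hQ hB * om hQ hB = 1 :=
  ext_vv fun x y w => by rw [ap_mul, ap_om, ap_om, ap_one]

theorem om_inv : (om hQ hB)⁻¹ = om hQ hB := inv_eq_of_mul_eq_one_right (om_mul_self hQ hB)

/-- The Levi element on the totally singular parts. -/
noncomputable def lev (A : GL (Fin m) F) : Grp Q :=
  mkG hB (blk9 (A : Matrix (Fin m) (Fin m) F) 0 0 ((A⁻¹ : GL (Fin m) F) : Matrix (Fin m) (Fin m) F)ᵀ 0 0 0 0 1)
    fun x y w => by
      rw [blk9_mulVec, q_vv hQ, q_vv hQ]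
      simp only [Matrix.zero_mulVec, add_zero, zero_add, Matrix.one_mulVec, add_left_inj]
      rw [Matrix.dotProduct_mulVec, Matrix.vecMul_transpose, Matrix.mulVec_mulVec, ← Units.val_mul,
        inv_mul_cancel, Units.val_one, Matrix.one_mulVec]

theorem ap_lev (A : GL (Fin m) F) (x y : Fin m → F) (w : Fin 2 → F) :
    ap (lev hQ hB A) (vv x y w) =
      vv ((A : Matrix (Fin m) (Fin m) F) *ᵥ x) (((A⁻¹ : GL (Fin m) F) : Matrix (Fin m) (Fin m) F)ᵀ *ᵥ y) w := by
  rw [lev, ap_mkG, blk9_mulVec]; simp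

theorem lev_mul (A A' : GL (Fin m) F) : lev hQ hB (A * A') = lev hQ hB A * lev hQ hB A' :=
  ext_vv fun x y w => by
    rw [ap_mul, ap_lev, ap_lev, ap_lev]
    simp only [Matrix.mulVec_mulVec, _root_.mul_inv_rev, Units.val_mul, Matrix.transpose_mul]

/-- The Levi homomorphism. -/
noncomputable def levHom : GL (Fin m) F →* Grp Q := MonoidHom.mk' (lev hQ hB) (lev_mul hQ hB)

/-- An isometry of the binary form. -/
def WIso (a b : F) (r : Matrix (Fin 2) (Fin 2) F) : Prop := ∀ w, nW a b (r *ᵥ w) = nW a b w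

/-- The Levi element in the middle. -/
noncomputable def levW (r : Matrix (Fin 2) (Fin 2) F) (hr : WIso a b r) : Grp Q :=
  mkG hB (blk9 1 0 0 1 0 0 0 0 r) fun x y w => by
    rw [blk9_mulVec, q_vv hQ, q_vv hQ]; simp only [Matrix.zero_mulVec, add_zero, zero_add, Matrix.one_mulVec, hr w]

theorem ap_levW {r : Matrix (Fin 2) (Fin 2) F} (hr : WIso a b r) (x y : Fin m → F) (w : Fin 2 → F) :
    ap (levW hQ hB r hr) (vv x y w) = vv x y (r *ᵥ w) := by
  rw [levW, ap_mkG, blk9_mulVec]; simp only [Matrix.zero_mulVec, add_zero, zero_add, Matrix.one_mulVec]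

omit hQ

theorem WIso.mul {r r' : Matrix (Fin 2) (Fin 2) F} (h : WIso a b r) (h' : WIso a b r') : WIso a b (r * r') :=
  fun w => by rw [← Matrix.mulVec_mulVec, h, h']

theorem WIso.one : WIso a b (1 : Matrix (Fin 2) (Fin 2) F) := fun w => by rw [Matrix.one_mulVec]

include hQ

theorem levW_one : levW hQ hB 1 WIso.one = 1 :=
  ext_vv fun x y w => by rw [ap_levW, ap_one, Matrix.one_mulVec]

theorem levW_mul {r r' : Matrix (Fin 2) (Fin 2) F} (h : WIso a b r) (h' : WIso a b r') :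
    levW hQ hB (r * r') (h.mul h') = levW hQ hB r h * levW hQ hB r' h' :=
  ext_vv fun x y w => by rw [ap_mul, ap_levW, ap_levW, ap_levW, Matrix.mulVec_mulVec]

theorem lev_commute_levW (A : GL (Fin m) F) {r : Matrix (Fin 2) (Fin 2) F} (h : WIso a b r) :
    Commute (lev hQ hB A) (levW hQ hB r h) :=
  ext_vv fun x y w => by rw [ap_mul, ap_mul, ap_levW, ap_lev, ap_lev, ap_levW]

theorem lo_aux (v : Fin 2 → F) (t x y : Fin m → F) (w : Fin 2 → F) :
    Q (vv x (y - (nW a b v * (t ⬝ᵥ x) + bW a b v w) • t) (w + (t ⬝ᵥ x) • v)) = Q (vv x y w) := by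
  rw [q_vv hQ, q_vv hQ, nW_add, nW_smul, bW_smul_right, bW_comm a b w v, dotProduct_sub, dotProduct_smul,
    smul_eq_mul, dotProduct_comm x t]
  ring

/-- The lower unipotent element of a vector and a column. -/
noncomputable def lo (v : Fin 2 → F) (t : Fin m → F) : Grp Q :=
  mkG hB (blk9 1 0 (-(nW a b v • vecMulVec t t)) 1 0 (-vecMulVec t (gW a b *ᵥ v)) (vecMulVec v t) 0 1)
    fun x y w => by
      rw [blk9_mulVec]
      simp only [Matrix.zero_mulVec, Matrix.one_mulVec, add_zero, Matrix.neg_mulVec, Matrix.smul_mulVec,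
        Matrix.vecMulVec_mulVec, op_smul_eq_smul]
      conv_rhs => rw [← lo_aux hQ v t x y w]
      congr 2
      · rw [show (gW a b *ᵥ v) ⬝ᵥ w = bW a b v w by rw [bW_comm, bW, dotProduct_comm]]
        funext i; simp; ring
      · exact add_comm _ _

theorem ap_lo (v : Fin 2 → F) (t x y : Fin m → F) (w : Fin 2 → F) :
    ap (lo hQ hB v t) (vv x y w) = vv x (y - (nW a b v * (t ⬝ᵥ x) + bW a b v w) • t) (w + (t ⬝ᵥ x) • v) := by
  rw [lo, ap_mkG, blk9_mulVec]
  simp only [Matrix.zero_mulVec, Matrix.one_mulVec, add_zero, Matrix.neg_mulVec, Matrix.smul_mulVec,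
    Matrix.vecMulVec_mulVec, op_smul_eq_smul]
  congr 1
  · rw [show (gW a b *ᵥ v) ⬝ᵥ w = bW a b v w by rw [bW_comm, bW, dotProduct_comm]]
    funext i; simp; ring
  · exact add_comm _ _

/-- The upper unipotent element of a vector and a column. -/
noncomputable def up (v : Fin 2 → F) (t : Fin m → F) : Grp Q := om hQ hB * lo hQ hB v t * om hQ hB

theorem ap_up (v : Fin 2 → F) (t x y : Fin m → F) (w : Fin 2 → F) :
    ap (up hQ hB v t) (vv x y w) = vv (x - (nW a b v * (t ⬝ᵥ y) + bW a b v w) • t) y (w + (t ⬝ᵥ y) • v) := by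
  rw [up, ap_mul, ap_mul, ap_om, ap_lo, ap_om]

end CfsgLib.OreLevi.OrthMinus
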