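import Cfsg.Agent.Lib.ClassSquare.OrthCommon
import Cfsg.Agent.Lib.Classical.OrthDisc

/-!
Minus one in `Ω⁻(2m+2, F)` is a commutator: on orthonormal planes the quarter turn, the swap and the sign change
anticommute pairwise, and all of them are assembled from pairs of reflections of equal norms.
-/

set_option autoImplicit false
set_option linter.unusedSectionVars false

namespace CfsgLib.OreLevi.OrthMinus

open Matrix CfsgLib.ClassSquare CfsgLib.ClassSquare.Orth CfsgLib.Orth

namespace Neg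

variable {F : Type*} [Field F] [Finite F] {ι : Type} [Fintype ι] [DecidableEq ι] {Q : QuadraticForm F (ι → F)}
  (hB : Nondeg Q) (h2 : (2 : F) ≠ 0) (hn : 5 ≤ Module.finrank F (ι → F))

include hB h2 hn

/-- Two reflections of the same norm. -/
theorem refl_two_mem {u w : ι → F} {r s : Grp Q} (hr : IsRefl u r) (hs : IsRefl w s) (h : Q u = Q w) :
    r * s ∈ Cfsg.Omega F ⇑Q := by
  refine mem_omega hB hn _ ?_ fun _ => ?_
  · rw [map_mul, dickson_refl hB hr, dickson_refl hB hs]; rfl
  · rw [map_mul, spinor_refl_eq hB h2 1 hr hs ⟨Q u, by rw [h]⟩, Int.units_mul_self]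

omit hB h2 hn in
/-- An anticommuting pair living on `U`. -/
structure Pair (U : Submodule F (ι → F)) (a b : Grp Q) : Prop where
  memA : a ∈ Cfsg.Omega F ⇑Q
  memB : b ∈ Cfsg.Omega F ⇑Q
  stabA : ∀ v ∈ U, ap a v ∈ U
  stabB : ∀ v ∈ U, ap b v ∈ U
  anti : ∀ v ∈ U, ap a (ap b v) = -ap b (ap a v)
  fixA : ∀ v, (∀ u ∈ U, QuadraticMap.polar (⇑Q) u v = 0) → ap a v = v
  fixB : ∀ v, (∀ u ∈ U, QuadraticMap.polar (⇑Q) u v = 0) → ap b v = v

theorem Pair.sup {U U' : Submodule F (ι → F)} {a b a' b' : Grp Q} (h : Pair U a b) (h' : Pair U' a' b')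
    (ho : ∀ u ∈ U, ∀ v ∈ U', QuadraticMap.polar (⇑Q) u v = 0) : Pair (U ⊔ U') (a * a') (b * b') := by
  have ho' : ∀ v ∈ U', ∀ u ∈ U, QuadraticMap.polar (⇑Q) v u = 0 := fun v hv u hu => by
    rw [QuadraticMap.polar_comm]; exact ho u hu v hv
  have fA : ∀ u ∈ U, ap a' u = u := fun u hu => h'.fixA u fun v hv => ho' v hv u hu
  have fB : ∀ u ∈ U, ap b' u = u := fun u hu => h'.fixB u fun v hv => ho' v hv u hu
  have gA : ∀ v ∈ U', ap a v = v := fun v hv => h.fixA v fun u hu => ho u hu v hv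
  have gB : ∀ v ∈ U', ap b v = v := fun v hv => h.fixB v fun u hu => ho u hu v hv
  have eA : ∀ u ∈ U, ∀ v ∈ U', ap (a * a') (u + v) = ap a u + ap a' v := fun u hu v hv => by
    rw [ap_mul, ap_add, fA u hu, ap_add, gA _ (h'.stabA v hv)]
  have eB : ∀ u ∈ U, ∀ v ∈ U', ap (b * b') (u + v) = ap b u + ap b' v := fun u hu v hv => by
    rw [ap_mul, ap_add, fB u hu, ap_add, gB _ (h'.stabB v hv)]
  refine ⟨mul_mem h.memA h'.memA, mul_mem h.memB h'.memB, ?_, ?_, ?_, ?_, ?_⟩
  · intro x hx
    obtain ⟨u, hu, v, hv, rfl⟩ := Submodule.mem_sup.1 hx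
    rw [eA u hu v hv]
    exact Submodule.add_mem_sup (h.stabA u hu) (h'.stabA v hv)
  · intro x hx
    obtain ⟨u, hu, v, hv, rfl⟩ := Submodule.mem_sup.1 hx
    rw [eB u hu v hv]
    exact Submodule.add_mem_sup (h.stabB u hu) (h'.stabB v hv)
  · intro x hx
    obtain ⟨u, hu, v, hv, rfl⟩ := Submodule.mem_sup.1 hx
    rw [eB u hu v hv, eA _ (h.stabB u hu) _ (h'.stabB v hv), eA u hu v hv,
      eB _ (h.stabA u hu) _ (h'.stabA v hv), h.anti u hu, h'.anti v hv]
    abel
  · intro v hv
    rw [ap_mul, h'.fixA v fun u hu => hv u (Submodule.mem_sup_right hu),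
      h.fixA v fun u hu => hv u (Submodule.mem_sup_left hu)]
  · intro v hv
    rw [ap_mul, h'.fixB v fun u hu => hv u (Submodule.mem_sup_right hu),
      h.fixB v fun u hu => hv u (Submodule.mem_sup_left hu)]

omit hB h2 hn in
/-- An orthonormal tuple. -/
structure ON {n : ℕ} (e : Fin n → ι → F) : Prop where
  norm : ∀ i, Q (e i) = 1
  orth : ∀ i j, i ≠ j → QuadraticMap.polar (⇑Q) (e i) (e j) = 0

omit hB h2 hn in
theorem ON.polar {n : ℕ} {e : Fin n → ι → F} (he : ON (Q := Q) e) (i j : Fin n) :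
    QuadraticMap.polar (⇑Q) (e i) (e j) = if i = j then 2 else 0 := by
  split
  · next h => subst h; rw [QuadraticMap.polar_self, he.norm]; norm_num
  · next h => exact he.orth i j h

omit hB h2 hn in
theorem span_cases {n : ℕ} {e : Fin n → ι → F} {f g : (ι → F) → (ι → F)}
    (hf : ∀ x y, f (x + y) = f x + f y) (hf' : ∀ (c : F) x, f (c • x) = c • f x)
    (hg : ∀ x y, g (x + y) = g x + g y) (hg' : ∀ (c : F) x, g (c • x) = c • g x)
    (h : ∀ i, f (e i) = g (e i)) {v : ι → F} (hv : v ∈ Submodule.span F (Set.range e)) : f v = g v := by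
  induction hv using Submodule.span_induction with
  | mem x hx => obtain ⟨i, rfl⟩ := hx; exact h i
  | zero => rw [← zero_smul F (0 : ι → F), hf', hg', zero_smul, zero_smul]
  | add x y _ _ h1 h2 => rw [hf, hg, h1, h2]
  | smul c x _ h1 => rw [hf', hg', h1]

omit hB h2 hn in
theorem stab_span {n : ℕ} {e : Fin n → ι → F} (a : Grp Q)
    (h : ∀ i, ap a (e i) ∈ Submodule.span F (Set.range e)) {v : ι → F}
    (hv : v ∈ Submodule.span F (Set.range e)) : ap a v ∈ Submodule.span F (Set.range e) := by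
  induction hv using Submodule.span_induction with
  | mem x hx => obtain ⟨i, rfl⟩ := hx; exact h i
  | zero => rw [ap_zero]; exact Submodule.zero_mem _
  | add x y _ _ h1 h2 => rw [ap_add]; exact Submodule.add_mem _ h1 h2
  | smul c x _ h1 => rw [ap_smul]; exact Submodule.smul_mem _ c h1

omit hB h2 hn in
theorem refl_fix {u v : ι → F} {r : Grp Q} (hr : IsRefl u r) (h : QuadraticMap.polar (⇑Q) u v = 0) : ap r v = v := by
  rw [hr.2, h, mul_zero, zero_smul, sub_zero]

theorem pair_four {e : Fin 4 → ι → F} (he : ON (Q := Q) e) :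
    ∃ a b : Grp Q, Pair (Submodule.span F (Set.range e)) a b := by
  have q1 : ∀ i, Q (e i) ≠ 0 := fun i => by rw [he.norm]; exact one_ne_zero
  have q2 : ∀ i j, i ≠ j → Q (e i + e j) = 2 := fun i j h => by
    rw [QuadraticMap.map_add (⇑Q), he.norm, he.norm, he.orth i j h, add_zero]; norm_num
  obtain ⟨r0, hr0⟩ := exists_refl hB (q1 0)
  obtain ⟨r1, hr1⟩ := exists_refl hB (q1 1)
  obtain ⟨r2, hr2⟩ := exists_refl hB (q1 2)
  obtain ⟨r3, hr3⟩ := exists_refl hB (q1 3)
  obtain ⟨r01, hr01⟩ := exists_refl hB (v := e 0 + e 1) (by rw [q2 0 1 (by decide)]; exact h2)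
  obtain ⟨r23, hr23⟩ := exists_refl hB (v := e 2 + e 3) (by rw [q2 2 3 (by decide)]; exact h2)
  have hadd : ∀ i j (v : ι → F), QuadraticMap.polar (⇑Q) (e i + e j) v =
      QuadraticMap.polar (⇑Q) (e i) v + QuadraticMap.polar (⇑Q) (e j) v := fun i j v => QuadraticMap.polar_add_left Q _ _ _
  set U := Submodule.span F (Set.range e) with hU
  have hm : ∀ i, e i ∈ U := fun i => Submodule.subset_span ⟨i, rfl⟩
  have form0 : ∀ i, ∀ (r : Grp Q), IsRefl (e i) r → ∀ v, ap r v = v - QuadraticMap.polar (⇑Q) (e i) v • e i :=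
    fun i r hr v => by rw [hr.2, he.norm, inv_one, one_mul]
  have form1 : ∀ i j, i ≠ j → ∀ (r : Grp Q), IsRefl (e i + e j) r → ∀ v, ap r v =
      v - ((2 : F)⁻¹ * (QuadraticMap.polar (⇑Q) (e i) v + QuadraticMap.polar (⇑Q) (e j) v)) • (e i + e j) :=
    fun i j h r hr v => by rw [hr.2, q2 i j h, hadd]
  have f0 := form0 0 r0 hr0
  have f1 := form0 1 r1 hr1
  have f2 := form0 2 r2 hr2
  have f3 := form0 3 r3 hr3
  have f01 := form1 0 1 (by decide) r01 hr01
  have f23 := form1 2 3 (by decide) r23 hr23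
  have hA : ∀ i, ap ((r01 * r23) * (r0 * r2)) (e i) = ![e 1, -e 0, e 3, -e 2] i := fun i => by
    fin_cases i <;>
      simp [ap_mul, f0, f2, f01, f23, he.polar, ap_sub, ap_smul, smul_sub, QuadraticMap.polar_neg_right,
        QuadraticMap.polar_smul_right, h2] <;> module
  have hBb : ∀ i, ap (r1 * r3) (e i) = ![e 0, -e 1, e 2, -e 3] i := fun i => by
    fin_cases i <;>
      simp [ap_mul, f1, f3, he.polar, ap_sub, ap_smul, QuadraticMap.polar_neg_right,
        QuadraticMap.polar_smul_right, h2] <;> module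
  refine ⟨(r01 * r23) * (r0 * r2), r1 * r3,
    mul_mem (refl_two_mem hB h2 hn hr01 hr23 (by rw [q2 0 1 (by decide), q2 2 3 (by decide)]))
      (refl_two_mem hB h2 hn hr0 hr2 (by rw [he.norm, he.norm])),
    refl_two_mem hB h2 hn hr1 hr3 (by rw [he.norm, he.norm]), ?_, ?_, ?_, ?_, ?_⟩
  · exact fun v hv => stab_span _ (fun i => by rw [hA]; fin_cases i <;> simp [neg_mem_iff] <;> exact hm _) hv
  · exact fun v hv => stab_span _ (fun i => by rw [hBb]; fin_cases i <;> simp [neg_mem_iff] <;> exact hm _) hv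
  · intro v hv
    refine span_cases (e := e) (f := fun v => ap ((r01 * r23) * (r0 * r2)) (ap (r1 * r3) v))
      (g := fun v => -ap (r1 * r3) (ap ((r01 * r23) * (r0 * r2)) v))
      (fun x y => by simp [ap_add]) (fun c x => by simp [ap_smul]) (fun x y => by simp only [ap_add]; abel)
      (fun c x => by simp [ap_smul]) (fun i => ?_) hv
    have hn' : ∀ (g : Grp Q) (x : ι → F), ap g (-x) = -ap g x := fun g x => by
      rw [← neg_one_smul F x, ap_smul, neg_one_smul]
    simp only [hA, hBb]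
    fin_cases i <;> simp [hA, hBb, hn']
  · intro v hv
    have h : ∀ i, QuadraticMap.polar (⇑Q) (e i) v = 0 := fun i => hv _ (hm i)
    simp [ap_mul, f0, f2, f01, f23, h]
  · intro v hv
    have h : ∀ i, QuadraticMap.polar (⇑Q) (e i) v = 0 := fun i => hv _ (hm i)
    simp [ap_mul, f1, f3, h]

theorem pair_six {e : Fin 6 → ι → F} (he : ON (Q := Q) e) :
    ∃ a b : Grp Q, Pair (Submodule.span F (Set.range e)) a b := by
  have q1 : ∀ i, Q (e i) ≠ 0 := fun i => by rw [he.norm]; exact one_ne_zero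
  have q2 : ∀ i j, i ≠ j → Q (e i + e j) = 2 := fun i j h => by
    rw [QuadraticMap.map_add (⇑Q), he.norm, he.norm, he.orth i j h, add_zero]; norm_num
  have q3 : ∀ i j, i ≠ j → Q (e i - e j) = 2 := fun i j h => by
    rw [sub_eq_add_neg, QuadraticMap.map_add (⇑Q), he.norm, QuadraticMap.map_neg, he.norm,
      QuadraticMap.polar_neg_right, he.orth i j h, neg_zero, add_zero]; norm_num
  obtain ⟨r0, hr0⟩ := exists_refl hB (q1 0)
  obtain ⟨r1, hr1⟩ := exists_refl hB (q1 1)
  obtain ⟨r2, hr2⟩ := exists_refl hB (q1 2)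
  obtain ⟨r5, hr5⟩ := exists_refl hB (q1 5)
  obtain ⟨r01, hr01⟩ := exists_refl hB (v := e 0 + e 1) (by rw [q2 0 1 (by decide)]; exact h2)
  obtain ⟨r23, hr23⟩ := exists_refl hB (v := e 2 + e 3) (by rw [q2 2 3 (by decide)]; exact h2)
  obtain ⟨s23, hs23⟩ := exists_refl hB (v := e 2 - e 3) (by rw [q3 2 3 (by decide)]; exact h2)
  obtain ⟨s45, hs45⟩ := exists_refl hB (v := e 4 - e 5) (by rw [q3 4 5 (by decide)]; exact h2)
  have hadd : ∀ i j (v : ι → F), QuadraticMap.polar (⇑Q) (e i + e j) v =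
      QuadraticMap.polar (⇑Q) (e i) v + QuadraticMap.polar (⇑Q) (e j) v := fun i j v => QuadraticMap.polar_add_left Q _ _ _
  have hsub : ∀ i j (v : ι → F), QuadraticMap.polar (⇑Q) (e i - e j) v =
      QuadraticMap.polar (⇑Q) (e i) v - QuadraticMap.polar (⇑Q) (e j) v := fun i j v => QuadraticMap.polar_sub_left Q _ _ _
  set U := Submodule.span F (Set.range e) with hU
  have hm : ∀ i, e i ∈ U := fun i => Submodule.subset_span ⟨i, rfl⟩
  have form0 : ∀ i, ∀ (r : Grp Q), IsRefl (e i) r → ∀ v, ap r v = v - QuadraticMap.polar (⇑Q) (e i) v • e i :=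
    fun i r hr v => by rw [hr.2, he.norm, inv_one, one_mul]
  have form1 : ∀ i j, i ≠ j → ∀ (r : Grp Q), IsRefl (e i + e j) r → ∀ v, ap r v =
      v - ((2 : F)⁻¹ * (QuadraticMap.polar (⇑Q) (e i) v + QuadraticMap.polar (⇑Q) (e j) v)) • (e i + e j) :=
    fun i j h r hr v => by rw [hr.2, q2 i j h, hadd]
  have form2 : ∀ i j, i ≠ j → ∀ (r : Grp Q), IsRefl (e i - e j) r → ∀ v, ap r v =
      v - ((2 : F)⁻¹ * (QuadraticMap.polar (⇑Q) (e i) v - QuadraticMap.polar (⇑Q) (e j) v)) • (e i - e j) :=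
    fun i j h r hr v => by rw [hr.2, q3 i j h, hsub]
  have f0 := form0 0 r0 hr0
  have f1 := form0 1 r1 hr1
  have f2 := form0 2 r2 hr2
  have f5 := form0 5 r5 hr5
  have f01 := form1 0 1 (by decide) r01 hr01
  have f23 := form1 2 3 (by decide) r23 hr23
  have g23 := form2 2 3 (by decide) s23 hs23
  have g45 := form2 4 5 (by decide) s45 hs45
  have hA : ∀ i, ap ((r01 * s23) * (r0 * r5)) (e i) = ![e 1, -e 0, e 3, e 2, e 4, -e 5] i := fun i => by
    fin_cases i <;>
      simp [ap_mul, f0, f5, f01, g23, he.polar, ap_sub, ap_smul, QuadraticMap.polar_neg_right,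
        QuadraticMap.polar_smul_right, h2] <;> module
  have hBb : ∀ i, ap ((r1 * r2) * (r23 * s45)) (e i) = ![e 0, -e 1, -e 3, e 2, e 5, e 4] i := fun i => by
    fin_cases i <;>
      simp [ap_mul, f1, f2, f23, g45, he.polar, ap_sub, ap_smul, QuadraticMap.polar_neg_right,
        QuadraticMap.polar_smul_right, h2] <;> module
  refine ⟨(r01 * s23) * (r0 * r5), (r1 * r2) * (r23 * s45),
    mul_mem (refl_two_mem hB h2 hn hr01 hs23 (by rw [q2 0 1 (by decide), q3 2 3 (by decide)]))
      (refl_two_mem hB h2 hn hr0 hr5 (by rw [he.norm, he.norm])),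
    mul_mem (refl_two_mem hB h2 hn hr1 hr2 (by rw [he.norm, he.norm]))
      (refl_two_mem hB h2 hn hr23 hs45 (by rw [q2 2 3 (by decide), q3 4 5 (by decide)])), ?_, ?_, ?_, ?_, ?_⟩
  · exact fun v hv => stab_span _ (fun i => by rw [hA]; fin_cases i <;> simp [neg_mem_iff] <;> exact hm _) hv
  · exact fun v hv => stab_span _ (fun i => by rw [hBb]; fin_cases i <;> simp [neg_mem_iff] <;> exact hm _) hv
  · intro v hv
    refine span_cases (e := e) (f := fun v => ap ((r01 * s23) * (r0 * r5)) (ap ((r1 * r2) * (r23 * s45)) v))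
      (g := fun v => -ap ((r1 * r2) * (r23 * s45)) (ap ((r01 * s23) * (r0 * r5)) v))
      (fun x y => by simp [ap_add]) (fun c x => by simp [ap_smul]) (fun x y => by simp only [ap_add]; abel)
      (fun c x => by simp [ap_smul]) (fun i => ?_) hv
    have hn' : ∀ (g : Grp Q) (x : ι → F), ap g (-x) = -ap g x := fun g x => by
      rw [← neg_one_smul F x, ap_smul, neg_one_smul]
    simp only [hA, hBb]
    fin_cases i <;> simp [hA, hBb, hn']
  · intro v hv
    have h : ∀ i, QuadraticMap.polar (⇑Q) (e i) v = 0 := fun i => hv _ (hm i)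
    simp [ap_mul, f0, f5, f01, g23, h]
  · intro v hv
    have h : ∀ i, QuadraticMap.polar (⇑Q) (e i) v = 0 := fun i => hv _ (hm i)
    simp [ap_mul, f1, f2, f23, g45, h]

omit hB h2 hn in
theorem top_of_singles {U : Submodule F (ι → F)} (h : ∀ j, Pi.single j (1 : F) ∈ U) : U = ⊤ := by
  refine top_unique fun v _ => ?_
  rw [pi_eq_sum_univ' v]
  exact Submodule.sum_mem _ fun j _ => Submodule.smul_mem _ _ (h j)

end Neg

open Neg

variable {F : Type*} [Field F] [Finite F] {m : ℕ} {a b : F}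
  {Q : QuadraticForm F ((Fin m ⊕ Fin m) ⊕ Fin 2 → F)}
  (hQ : ⇑Q = Cfsg.quadFormMinus m F a b) (hB : Nondeg Q)
  (hab : ∀ z₁ z₂ : F, z₁ ^ 2 + a * z₁ * z₂ + b * z₂ ^ 2 = 0 → z₁ = 0 ∧ z₂ = 0)

/-- A vector of the plane. -/
def Wv (z w : F) : (Fin m ⊕ Fin m) ⊕ Fin 2 → F := Sum.elim 0 ![z, w]

/-- A vector of a hyperbolic pair. -/
def Hv (i : Fin m) (x y : F) : (Fin m ⊕ Fin m) ⊕ Fin 2 → F :=
  Sum.elim (Sum.elim (Pi.single i x) (Pi.single i y)) 0

section Values

include hQ

theorem q_Wv (z w : F) : Q (Wv z w) = z ^ 2 + a * z * w + b * w ^ 2 := by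
  rw [hQ]; simp [Cfsg.quadFormMinus, Wv]

theorem q_Hv (i : Fin m) (x y : F) : Q (Hv i x y) = x * y := by
  rw [hQ]; simp only [Cfsg.quadFormMinus, Hv]
  rw [Finset.sum_eq_single i] <;> simp +contextual [Pi.single_apply]

theorem p_WH (z w : F) (i : Fin m) (x y : F) : QuadraticMap.polar (⇑Q) (Wv z w) (Hv i x y) = 0 := by
  rw [hQ, polar_minus]; simp [Wv, Hv]

theorem p_HH (i j : Fin m) (x y x' y' : F) (hij : i ≠ j) :
    QuadraticMap.polar (⇑Q) (Hv i x y) (Hv j x' y') = 0 := by
  rw [hQ, polar_minus]; simp [Hv, Pi.single_apply, hij, hij.symm, Finset.sum_add_distrib]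

theorem p_H (i : Fin m) (x y x' y' : F) :
    QuadraticMap.polar (⇑Q) (Hv i x y) (Hv i x' y') = x * y' + x' * y := by
  rw [hQ, polar_minus]; simp [Hv, Pi.single_apply, Finset.sum_add_distrib]

theorem p_W (z w z' w' : F) : QuadraticMap.polar (⇑Q) (Wv (m := m) z w) (Wv z' w') =
    2 * z * z' + a * (z * w' + z' * w) + 2 * b * w * w' := by
  rw [hQ, polar_minus]; simp [Wv]

end Values

theorem exists_norm_neg_one (h2 : (2 : F) ≠ 0) : ∃ α β : F, α * α + β * β = -1 := by
  classical
  haveI := Fintype.ofFinite F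
  have hodd : Fintype.card F % 2 = 1 := FiniteField.odd_card_of_char_ne_two fun h => h2 (by
    have := ringChar.spec F 2
    simp [h] at this
    exact_mod_cast this)
  obtain ⟨α, β, h⟩ := FiniteField.exists_root_sum_quadratic (f := (Polynomial.X : Polynomial F) ^ 2)
    (g := Polynomial.X ^ 2 + 1) (Polynomial.degree_X_pow 2) (by
      rw [← Polynomial.C_1, Polynomial.degree_X_pow_add_C (by norm_num)]; rfl) hodd
  exact ⟨α, β, by simp at h; linear_combination h⟩

include hQ hB hab in
theorem neg_one_cases (hm : 3 ≤ m) (h2 : (2 : F) ≠ 0) (g : ↥(Cfsg.Omega F ⇑Q))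
    (hg : mat (g : Grp Q) = (-1 : F) • 1) : IsSquare (b - a * a / 4) ∧ Even m := by
  classical
  haveI := Fintype.ofFinite F
  have hn : 5 ≤ Module.finrank F ((Fin m ⊕ Fin m) ⊕ Fin 2 → F) := by
    rw [Module.finrank_fintype_fun_eq_card]; simp; omega
  let D := b - a * a / 4
  have h4 : (4 : F) ≠ 0 := by
    rw [show (4 : F) = 2 * 2 by norm_num]; exact mul_ne_zero h2 h2
  have hnd : ¬ IsSquare (-D) := fun ⟨c, hc⟩ => by
    have := (hab (c - a / 2) 1 (by simp only [D] at hc; field_simp at hc ⊢; linear_combination -hc)).2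
    exact one_ne_zero this
  have hD0 : D ≠ 0 := fun h => hnd (by rw [h, neg_zero]; exact IsSquare.zero)
  let e : (Fin m ⊕ Fin m) ⊕ Fin 2 → (Fin m ⊕ Fin m) ⊕ Fin 2 → F :=
    Sum.elim (Sum.elim (fun i => Hv i 1 1) (fun i => Hv i 1 (-1))) ![Wv 1 0, Wv (-(a / 2)) 1]
  let q : (Fin m ⊕ Fin m) ⊕ Fin 2 → F := Sum.elim (Sum.elim (fun _ => 1) (fun _ => -1)) ![1, D]
  have hq : ∀ p, Q (e p) = q p := by
    rintro ((i | i) | i)
    · simp [e, q, q_Hv hQ]
    · simp [e, q, q_Hv hQ]
    · fin_cases i <;> simp [e, q, q_Wv hQ, D] <;> field_simp <;> ring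
  have hq0 : ∀ p, q p ≠ 0 := by
    rintro ((i | i) | i)
    · exact one_ne_zero (α := F)
    · exact neg_ne_zero.2 (one_ne_zero (α := F))
    · fin_cases i
      · exact one_ne_zero (α := F)
      · exact hD0
  have hp : ∀ i j, i ≠ j → QuadraticMap.polar (⇑Q) (e i) (e j) = 0 := by
    have pcomm : ∀ z w i x y, QuadraticMap.polar (⇑Q) (Hv i x y) (Wv z w) = 0 := fun z w i x y => by
      rw [QuadraticMap.polar_comm]; exact p_WH hQ z w i x y
    have hh : ∀ (i j : Fin m) (x y : F), (i = j → x + y = 0) →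
        QuadraticMap.polar (⇑Q) (Hv i 1 x) (Hv j 1 y) = 0 := fun i j x y h => by
      by_cases hij : i = j
      · subst hij; rw [p_H hQ]; linear_combination h rfl
      · exact p_HH hQ _ _ _ _ _ _ hij
    rintro ((i | i) | i) ((j | j) | j) hij
    · exact hh i j 1 1 fun h => absurd (by rw [h]) hij
    · exact hh i j 1 (-1) fun _ => by ring
    · fin_cases j <;> simp [e, pcomm]
    · exact hh i j (-1) 1 fun _ => by ring
    · exact hh i j (-1) (-1) fun h => absurd (by rw [h]) hij
    · fin_cases j <;> simp [e, pcomm]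
    · fin_cases i <;> simp [e, p_WH hQ]
    · fin_cases i <;> simp [e, p_WH hQ]
    · fin_cases i <;> fin_cases j <;> first | exact absurd rfl hij | (simp [e, p_W hQ] <;> field_simp <;> ring)
  have hcard : Fintype.card ((Fin m ⊕ Fin m) ⊕ Fin 2) = Module.finrank F ((Fin m ⊕ Fin m) ⊕ Fin 2 → F) :=
    Module.finrank_fintype_fun_eq_card F |>.symm
  have hsq := (neg_one_mem_omega_iff hB h2 hcard ⟨m + 1, by simp; omega⟩ (by omega) e
    (fun p => hq p ▸ hq0 p) hp).1 ⟨(g : Grp Q), g.2, by
      show mat (g : Grp Q) = -1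
      rw [hg, neg_one_smul]⟩
  simp only [hq, q, Fintype.prod_sum_type, Sum.elim_inl, Sum.elim_inr, Finset.prod_const, Finset.card_univ,
    Fintype.card_fin, one_pow, one_mul, Fin.prod_univ_two, Matrix.cons_val_zero, Matrix.cons_val_one] at hsq
  have h1 : (-1 : F) ≠ 0 := neg_ne_zero.2 one_ne_zero
  rcases Nat.even_or_odd m with he | ho
  · rw [he.neg_one_pow, one_mul] at hsq
    exact ⟨hsq, he⟩
  · rw [ho.neg_one_pow, neg_one_mul] at hsq
    exact absurd hsq hnd

include hQ hB hab in
theorem isComm_neg_one_minus (hm : 3 ≤ m) (g : ↥(Cfsg.Omega F ⇑Q)) (hg : mat (g : Grp Q) = (-1 : F) • 1) :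
    ∃ x y, g = x * y * x⁻¹ * y⁻¹ := by
  classical
  haveI := Fintype.ofFinite F
  by_cases h2 : (2 : F) = 0
  · haveI : CharP F 2 := CharTwo.of_one_ne_zero_of_two_eq_zero one_ne_zero h2
    exact ⟨1, 1, Subtype.ext (mat_inj (by rw [hg, CharTwo.neg_eq, one_smul]; simp [mat_one]))⟩
  have hn : 5 ≤ Module.finrank F ((Fin m ⊕ Fin m) ⊕ Fin 2 → F) := by
    rw [Module.finrank_fintype_fun_eq_card]; simp; omega
  -- the spinor condition
  obtain ⟨⟨d, hd⟩, hm2⟩ := neg_one_cases hQ hB hab hm h2 g hg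
  -- the plane
  have h4 : (4 : F) ≠ 0 := by
    rw [show (4 : F) = 2 * 2 by norm_num]; exact mul_ne_zero h2 h2
  have hD0 : b - a * a / 4 ≠ 0 := fun h => by
    refine aniso_disc hab ?_
    field_simp at h
    linear_combination h
  have hd0 : d ≠ 0 := fun h => hD0 (by rw [hd, h, zero_mul])
  obtain ⟨α, β, hαβ⟩ := exists_norm_neg_one (F := F) h2
  let W : F → F → (Fin m ⊕ Fin m) ⊕ Fin 2 → F := Wv
  let H : Fin m → F → F → (Fin m ⊕ Fin m) ⊕ Fin 2 → F := Hv
  have qW : ∀ z w, Q (W z w) = z ^ 2 + a * z * w + b * w ^ 2 := q_Wv hQ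
  have qH : ∀ i x y, Q (H i x y) = x * y := q_Hv hQ
  have pWH : ∀ z w i x y, QuadraticMap.polar (⇑Q) (W z w) (H i x y) = 0 := p_WH hQ
  have pHH : ∀ i j x y x' y', i ≠ j → QuadraticMap.polar (⇑Q) (H i x y) (H j x' y') = 0 := p_HH hQ
  have pH : ∀ i x y x' y', QuadraticMap.polar (⇑Q) (H i x y) (H i x' y') = x * y' + x' * y := p_H hQ
  have pW : ∀ z w z' w', QuadraticMap.polar (⇑Q) (W z w) (W z' w') =
      2 * z * z' + a * (z * w' + z' * w) + 2 * b * w * w' := p_W hQ
  let h1 : Fin m → (Fin m ⊕ Fin m) ⊕ Fin 2 → F := fun i => H i 1 1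
  let k1 : Fin m → (Fin m ⊕ Fin m) ⊕ Fin 2 → F := fun i => H i 1 (-1)
  let four : Fin m → Fin m → Fin 4 → (Fin m ⊕ Fin m) ⊕ Fin 2 → F :=
    fun i j => ![h1 i, h1 j, α • k1 i + β • k1 j, (-β) • k1 i + α • k1 j]
  have hfour : ∀ i j, i ≠ j → ON (Q := Q) (four i j) := fun i j hij => by
    constructor
    · intro u
      fin_cases u <;> simp [four, h1, k1, qH, QuadraticMap.map_add (⇑Q), QuadraticMap.map_smul,
        QuadraticMap.polar_smul_left, QuadraticMap.polar_smul_right, pHH _ _ _ _ _ _ hij] <;>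
        linear_combination -hαβ
    · intro u v huv
      fin_cases u <;> fin_cases v <;> first | exact absurd rfl huv | (
        simp [four, h1, k1, QuadraticMap.polar_add_left, QuadraticMap.polar_add_right, QuadraticMap.polar_smul_left,
          QuadraticMap.polar_smul_right, pH, pHH _ _ _ _ _ _ hij, pHH _ _ _ _ _ _ hij.symm] <;> first | ring | linear_combination 2 * hαβ)
  -- everything in the span of the four vectors
  have hspan4 : ∀ i j, i ≠ j → ∀ k x y, (k = i ∨ k = j) → H k x y ∈ Submodule.span F (Set.range (four i j)) := by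
    intro i j hij k x y hk
    set U := Submodule.span F (Set.range (four i j))
    have hu : ∀ u, four i j u ∈ U := fun u => Submodule.subset_span ⟨u, rfl⟩
    have hk1 : k1 i ∈ U ∧ k1 j ∈ U := by
      constructor
      · have e : k1 i = (-α) • four i j 2 + β • four i j 3 := by
          simp [four, smul_add, smul_smul]
          linear_combination (norm := module) hαβ • (k1 i)
        rw [e]; exact Submodule.add_mem _ (Submodule.smul_mem _ _ (hu 2)) (Submodule.smul_mem _ _ (hu 3))
      · have e : k1 j = (-β) • four i j 2 + (-α) • four i j 3 := by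
          simp [four, smul_add, smul_smul]
          linear_combination (norm := module) hαβ • (k1 j)
        rw [e]; exact Submodule.add_mem _ (Submodule.smul_mem _ _ (hu 2)) (Submodule.smul_mem _ _ (hu 3))
    have e : H k x y = ((x + y) / 2) • h1 k + ((x - y) / 2) • k1 k := by
      funext p
      rcases p with (p | p) | p <;> simp [H, Hv, h1, k1, Pi.single_apply] <;> split <;> (try simp) <;> field_simp <;> ring
    rw [e]
    rcases hk with rfl | rfl
    · exact Submodule.add_mem _ (Submodule.smul_mem _ _ (hu 0)) (Submodule.smul_mem _ _ hk1.1)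
    · exact Submodule.add_mem _ (Submodule.smul_mem _ _ (hu 1)) (Submodule.smul_mem _ _ hk1.2)
  let six : Fin 6 → (Fin m ⊕ Fin m) ⊕ Fin 2 → F :=
    ![W 1 0, W (-(a / 2) / d) (1 / d), four ⟨0, by omega⟩ ⟨1, by omega⟩ 0, four ⟨0, by omega⟩ ⟨1, by omega⟩ 1,
      four ⟨0, by omega⟩ ⟨1, by omega⟩ 2, four ⟨0, by omega⟩ ⟨1, by omega⟩ 3]
  have h01 : (⟨0, by omega⟩ : Fin m) ≠ ⟨1, by omega⟩ := by simp
  have h4' := hfour _ _ h01
  have p4 : ∀ i j z w u, QuadraticMap.polar (⇑Q) (W z w) (four i j u) = 0 := fun i j z w u => by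
    fin_cases u <;> simp [four, h1, k1, QuadraticMap.polar_add_right, QuadraticMap.polar_smul_right, pWH]
  have hsix : ON (Q := Q) six := by
    have h0' : ∀ u z w, QuadraticMap.polar (⇑Q) (four ⟨0, by omega⟩ ⟨1, by omega⟩ u) (W z w) = 0 := fun u z w => by
      rw [QuadraticMap.polar_comm]; exact p4 _ _ _ _ _
    have hD' : b - a * a / 4 = d * d := hd
    constructor
    · intro u
      fin_cases u <;> simp [six, qW, h4'.norm] <;> field_simp
      field_simp at hD'
      linear_combination hD'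
    · intro u v huv
      fin_cases u <;> fin_cases v <;> first | exact absurd rfl huv | (
        simp [six, pW, p4, h0', h4'.polar] <;> field_simp <;> ring)
  obtain ⟨A, Bm, h6⟩ := pair_six hB h2 hn hsix
  -- add the remaining pairs of hyperbolic pairs
  have key : ∀ k, 2 + 2 * k ≤ m → ∃ A Bm : Grp Q, ∃ U : Submodule F ((Fin m ⊕ Fin m) ⊕ Fin 2 → F), Pair U A Bm ∧
      (∀ z w, W z w ∈ U) ∧ (∀ i : Fin m, i.val < 2 + 2 * k → ∀ x y, H i x y ∈ U) ∧
      (∀ u ∈ U, ∀ i : Fin m, 2 + 2 * k ≤ i.val → ∀ x y, QuadraticMap.polar (⇑Q) u (H i x y) = 0) := by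
    intro k
    induction k with
    | zero =>
      intro _
      refine ⟨A, Bm, _, h6, fun z w => ?_, fun i hi x y => ?_, fun u hu i hi x y => ?_⟩
      · have e : W z w = (z + w * (a / 2)) • six 0 + (w * d) • six 1 := by
          funext p
          rcases p with p | p
          · simp [six, W, Wv]
          · fin_cases p <;> simp [six, W, Wv] <;> field_simp <;> ring
        rw [e]
        exact Submodule.add_mem _ (Submodule.smul_mem _ _ (Submodule.subset_span ⟨0, rfl⟩))
          (Submodule.smul_mem _ _ (Submodule.subset_span ⟨1, rfl⟩))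
      · refine Submodule.span_le.2 ?_ (hspan4 _ _ h01 i x y ?_)
        · rintro _ ⟨u, rfl⟩
          fin_cases u
          · exact Submodule.subset_span ⟨2, rfl⟩
          · exact Submodule.subset_span ⟨3, rfl⟩
          · exact Submodule.subset_span ⟨4, rfl⟩
          · exact Submodule.subset_span ⟨5, rfl⟩
        · rcases Nat.lt_or_ge i.val 1 with h | h
          · exact Or.inl (Fin.ext (by simp; omega))
          · exact Or.inr (Fin.ext (by simp; omega))
      · have hi0 : i ≠ ⟨0, by omega⟩ := fun e => by rw [e] at hi; simp at hi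
        have hi1 : i ≠ ⟨1, by omega⟩ := fun e => by rw [e] at hi; simp at hi
        induction hu using Submodule.span_induction with
        | mem v hv =>
          obtain ⟨v, rfl⟩ := hv
          fin_cases v <;> simp [six, four, h1, k1, pWH, QuadraticMap.polar_add_left, QuadraticMap.polar_smul_left,
            pHH _ _ _ _ _ _ hi0.symm, pHH _ _ _ _ _ _ hi1.symm]
        | zero => simp [QuadraticMap.polar]
        | add v w _ _ e1 e2 => rw [QuadraticMap.polar_add_left, e1, e2, add_zero]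
        | smul c v _ e1 => rw [QuadraticMap.polar_smul_left, e1, smul_zero]
    | succ k ih =>
      intro hk
      obtain ⟨A, Bm, U, hP, hW, hH, hO⟩ := ih (by omega)
      let i : Fin m := ⟨2 + 2 * k, by omega⟩
      let j : Fin m := ⟨2 + 2 * k + 1, by omega⟩
      have hij : i ≠ j := by simp [i, j]
      obtain ⟨A', B', h4P⟩ := pair_four hB h2 hn (hfour i j hij)
      refine ⟨A * A', Bm * B', _, hP.sup hB h2 hn h4P fun u hu v hv => ?_, fun z w => Submodule.mem_sup_left (hW z w),
        fun l hl x y => ?_, fun u hu l hl x y => ?_⟩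
      · induction hv using Submodule.span_induction with
        | mem v hv =>
          obtain ⟨v, rfl⟩ := hv
          fin_cases v <;> simp [four, h1, k1, QuadraticMap.polar_add_right, QuadraticMap.polar_smul_right,
            hO u hu i (le_refl _), hO u hu j (Nat.le_succ _)]
        | zero => simp [QuadraticMap.polar]
        | add v w _ _ e1 e2 => rw [QuadraticMap.polar_add_right, e1, e2, add_zero]
        | smul c v _ e1 => rw [QuadraticMap.polar_smul_right, e1, smul_zero]
      · by_cases h : l.val < 2 + 2 * k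
        · exact Submodule.mem_sup_left (hH l h x y)
        · refine Submodule.mem_sup_right (hspan4 i j hij l x y ?_)
          rcases Nat.lt_or_ge l.val (2 + 2 * k + 1) with h' | h'
          · exact Or.inl (Fin.ext (by simp [i]; omega))
          · exact Or.inr (Fin.ext (by simp [j]; omega))
      · obtain ⟨u1, hu1, u2, hu2, rfl⟩ := Submodule.mem_sup.1 hu
        rw [QuadraticMap.polar_add_left, hO u1 hu1 l (by omega), zero_add]
        have hli : i ≠ l := fun e => by rw [← e] at hl; simp [i] at hl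
        have hlj : j ≠ l := fun e => by rw [← e] at hl; simp [j] at hl; omega
        clear hu
        induction hu2 using Submodule.span_induction with
        | mem v hv =>
          obtain ⟨v, rfl⟩ := hv
          fin_cases v <;> simp [four, h1, k1, QuadraticMap.polar_add_left, QuadraticMap.polar_smul_left,
            pHH _ _ _ _ _ _ hli, pHH _ _ _ _ _ _ hlj]
        | zero => simp [QuadraticMap.polar]
        | add v w _ _ e1 e2 => rw [QuadraticMap.polar_add_left, e1, e2, add_zero]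
        | smul c v _ e1 => rw [QuadraticMap.polar_smul_left, e1, smul_zero]
  obtain ⟨r, hr⟩ := hm2
  obtain ⟨A, Bm, U, hP, hW, hH, -⟩ := key (r - 1) (by omega)
  have hU : U = ⊤ := top_of_singles fun p => by
    rcases p with (p | p) | p
    · have := hH p (by omega) 1 0
      convert this using 1
      funext q; rcases q with (q | q) | q <;> simp [H, Hv, Pi.single_apply]
    · have := hH p (by omega) 0 1
      convert this using 1
      funext q; rcases q with (q | q) | q <;> simp [H, Hv, Pi.single_apply]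
    · fin_cases p
      · have := hW 1 0
        convert this using 1
        funext q; rcases q with q | q <;> simp [W, Wv, Pi.single_apply]
        fin_cases q <;> simp
      · have := hW 0 1
        convert this using 1
        funext q; rcases q with q | q <;> simp [W, Wv, Pi.single_apply]
        fin_cases q <;> simp
  refine ⟨⟨A, hP.memA⟩, ⟨Bm, hP.memB⟩, Subtype.ext ?_⟩
  have hgv : ∀ v, ap (g : Grp Q) v = -v := fun v => by
    show mat (g : Grp Q) *ᵥ v = -v
    rw [hg, Matrix.smul_mulVec, Matrix.one_mulVec, neg_one_smul]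
  have hAB : (g : Grp Q) * (Bm * A) = A * Bm := ext_ap fun v => by
    rw [ap_mul, ap_mul, ap_mul, hgv, hP.anti v (hU ▸ Submodule.mem_top)]
  simp only [Subgroup.coe_mul, Subgroup.coe_inv]
  rw [← hAB]; group

end CfsgLib.OreLevi.OrthMinus
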