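import Cfsg.Agent.Lib.OreLevi.OrthMinus
import Cfsg.Agent.Lib.OreLevi.OrthMinusNeg
import Cfsg.Agent.Lib.OreLevi.OrthLarge

/-!
The statement for `Cfsg.quadFormMinus` from the factorisation of non-scalar matrices, and the middle rotation over
two elements.
-/

set_option autoImplicit false
set_option linter.unusedSectionVars false

namespace CfsgLib.OreLevi.OrthMinus

open Matrix CfsgLib.ClassSquare CfsgLib.ClassSquare.Orth CfsgLib.Orth
open CfsgLib.OreLevi.OrthPlus (IsComm TwistFree)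

variable {F : Type*} [Field F] {m : ℕ} {a b : F}

theorem isComm_omega_minus [Fintype F] (hm : 3 ≤ m)
    (hab : ∀ z₁ z₂ : F, z₁ ^ 2 + a * z₁ * z₂ + b * z₂ ^ 2 = 0 → z₁ = 0 ∧ z₂ = 0)
    (hone : ∃ (s : GL (Fin m) F) (r : Matrix (Fin 2) (Fin 2) F),
      IsSquare (s : Matrix (Fin m) (Fin m) F).det ∧ WComm a b r ∧ TwistFree (s : Matrix (Fin m) (Fin m) F) ∧
        ∀ l : Matrix (Fin 2) (Fin m) F, (r * l = l * (s : Matrix (Fin m) (Fin m) F) ∨
          r * l * (s : Matrix (Fin m) (Fin m) F)ᵀ = l) → l = 0)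
    (hfac : ∀ A : Matrix (Fin m) (Fin m) F, A.det = 1 → Nonscalar A → FacOK a b A)
    (g : Cfsg.Omega F (Cfsg.quadFormMinus m F a b)) :
    ∃ x y : Cfsg.Omega F (Cfsg.quadFormMinus m F a b), g = x * y * x⁻¹ * y⁻¹ := by
  classical
  obtain ⟨Q, hQ, hB⟩ := exists_quadForm_minus m hab
  have key : ∀ g : ↥(Cfsg.Omega F ⇑Q), ∃ x y, g = x * y * x⁻¹ * y⁻¹ := fun g =>
    isComm_omega hQ hB hab hm (fun g hg => isComm_neg_one_minus hQ hB hab hm g hg) hone hfac g
  revert g
  rw [← hQ]
  exact key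

/-- Over at least four elements the factorisation exists. -/
theorem hfac_large [Finite F] (hq : 4 ≤ Nat.card F) (hm : 3 ≤ m) (A : Matrix (Fin m) (Fin m) F) (hA : A.det = 1)
    (hns : Nonscalar A) : FacOK a b A := by
  obtain ⟨s, z, h, hs, hz, ht, hfix⟩ := CfsgLib.OreLevi.OrthPlus.exists_fac hq hm A hA hns
  exact Or.inl ⟨s, z, h, hs, hz, ht, 1, WComm.one, fun l e => hfix l (by rwa [Matrix.one_mul] at e)⟩

/-- Over at least four elements a free Levi element exists. -/
theorem hone_large [Finite F] (hq : 4 ≤ Nat.card F) (hm : 3 ≤ m) :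
    ∃ (s : GL (Fin m) F) (r : Matrix (Fin 2) (Fin 2) F),
      IsSquare (s : Matrix (Fin m) (Fin m) F).det ∧ WComm a b r ∧ TwistFree (s : Matrix (Fin m) (Fin m) F) ∧
        ∀ l : Matrix (Fin 2) (Fin m) F, (r * l = l * (s : Matrix (Fin m) (Fin m) F) ∨
          r * l * (s : Matrix (Fin m) (Fin m) F)ᵀ = l) → l = 0 := by
  let i : Fin m := ⟨0, by omega⟩
  let j : Fin m := ⟨1, by omega⟩
  have hij : i ≠ j := by simp [i, j]
  obtain ⟨s, -, -, hs, -, ht, hfix⟩ := CfsgLib.OreLevi.OrthPlus.exists_fac hq hm (transvection i j (1 : F))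
    (det_transvection_of_ne i j hij 1) fun c e => by simpa [transvection, hij] using congrFun (congrFun e i) j
  exact ⟨s, 1, hs, WComm.one, ht, fun l e => hfix l (by rwa [Matrix.one_mul] at e)⟩

/-- Over two elements the plane has a rotation of order three, a commutator. -/
theorem wcomm_rot (h2 : ∀ c : F, c = 0 ∨ c = 1) (hab : Aniso a b) : WComm a b !![0, 1; 1, 1] := by
  have e2 : (1 : F) + 1 = 0 := by
    rcases h2 (1 + 1) with h | h
    · exact h
    · exact absurd (add_eq_left.1 h) one_ne_zero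
  obtain rfl : b = 1 := (h2 b).resolve_left fun e => one_ne_zero (α := F) (hab 0 1 (by simp [e])).2
  obtain rfl : a = 1 := (h2 a).resolve_left fun e => one_ne_zero (α := F) (hab 1 1 (by simp [e, e2])).2
  have hiso : ∀ r : Matrix (Fin 2) (Fin 2) F, r = !![0, 1; 1, 1] ∨ r = !![0, 1; 1, 0] → WIso 1 1 r := by
    rintro r (rfl | rfl) w <;> simp [nW, Matrix.mulVec, dotProduct, Fin.sum_univ_two]
    · linear_combination (w 1 ^ 2 + w 0 * w 1) * e2
    · ring
  refine ⟨hiso _ (Or.inl rfl), !![0, 1; 1, 0], !![0, 1; 1, 1], hiso _ (Or.inr rfl), hiso _ (Or.inl rfl), ?_⟩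
  ext i j
  fin_cases i <;> fin_cases j <;> simp [Matrix.mul_apply, Fin.sum_univ_two, e2]

/-- The rotation of order three has no common eigenvalue with `s` when `s² + s + 1` is invertible. -/
theorem rot_free (h2 : ∀ c : F, c = 0 ∨ c = 1) {s : Matrix (Fin m) (Fin m) F} (hs : IsUnit (s * s + s + 1).det)
    (l : Matrix (Fin 2) (Fin m) F) (h : (!![0, 1; 1, 1] : Matrix (Fin 2) (Fin 2) F) * l = l * s ∨
      (!![0, 1; 1, 1] : Matrix (Fin 2) (Fin 2) F) * l * sᵀ = l) : l = 0 := by
  have e2 : (1 : F) + 1 = 0 := by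
    rcases h2 (1 + 1) with h | h
    · exact h
    · exact absurd (add_eq_left.1 h) one_ne_zero
  set r : Matrix (Fin 2) (Fin 2) F := !![0, 1; 1, 1] with hr
  have hrr : r * r + r + 1 = 0 := by
    ext i j
    fin_cases i <;> fin_cases j <;> simp [hr, Matrix.mul_apply, Fin.sum_univ_two, add_assoc, e2]
  have cancel : ∀ (N : Matrix (Fin m) (Fin m) F), IsUnit N.det → l * N = 0 → l = 0 := fun N hN e => by
    rw [← Matrix.mul_one l, ← Matrix.mul_nonsing_inv N hN, ← Matrix.mul_assoc, e, Matrix.zero_mul]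
  rcases h with h | h
  · refine cancel _ hs ?_
    have h' : r * (r * l) = l * (s * s) := by rw [h, ← Matrix.mul_assoc, h, Matrix.mul_assoc]
    calc l * (s * s + s + 1) = (r * r + r + 1) * l := by
          rw [Matrix.mul_add, Matrix.mul_add, Matrix.add_mul, Matrix.add_mul, Matrix.mul_one, Matrix.one_mul,
            Matrix.mul_assoc r r l, h', h]
      _ = 0 := by rw [hrr, Matrix.zero_mul]
  · refine cancel (s * s + s + 1)ᵀ (by rwa [det_transpose]) ?_
    have h' : r * (r * l) * (sᵀ * sᵀ) = l := by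
      rw [Matrix.mul_assoc r, ← Matrix.mul_assoc (r * l), h, ← Matrix.mul_assoc, h]
    have hinv : r * r * r = 1 := by
      calc r * r * r = (r * r + r + 1) * (r - 1) + 1 := by noncomm_ring
        _ = 1 := by rw [hrr, Matrix.zero_mul, zero_add]
    have k1 : l * sᵀ = r * r * l := by
      calc l * sᵀ = r * r * r * l * sᵀ := by rw [hinv, Matrix.one_mul]
        _ = r * r * (r * l * sᵀ) := by simp only [Matrix.mul_assoc]
        _ = r * r * l := by rw [h]
    have k2 : l * (sᵀ * sᵀ) = r * l := by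
      calc l * (sᵀ * sᵀ) = r * r * r * l * (sᵀ * sᵀ) := by rw [hinv, Matrix.one_mul]
        _ = r * (r * (r * l) * (sᵀ * sᵀ)) := by simp only [Matrix.mul_assoc]
        _ = r * l := by rw [h']
    calc l * (s * s + s + 1)ᵀ = r * l + r * r * l + l := by
          rw [transpose_add, transpose_add, transpose_mul, transpose_one, Matrix.mul_add, Matrix.mul_add,
            Matrix.mul_one, k1, k2]
      _ = (r * r + r + 1) * l := by rw [Matrix.add_mul, Matrix.add_mul, Matrix.one_mul, add_comm (r * r * l)]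
      _ = 0 := by rw [hrr, Matrix.zero_mul]

end CfsgLib.OreLevi.OrthMinus
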