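import Cfsg.Agent.Lib.OreLevi.OrthMinusUni

/-!
Conjugation moves in minus type, the reflections of the anisotropic plane, and the recognition of `± 1`.
-/

set_option autoImplicit false
set_option linter.unusedSectionVars false

namespace CfsgLib.OreLevi.OrthMinus

open Matrix CfsgLib.ClassSquare CfsgLib.ClassSquare.Orth CfsgLib.Orth

variable {F : Type*} [Field F] {m : ℕ} {a b : F}

/-- The reflection of the plane in `u`. -/
def rf (a b : F) (u : Fin 2 → F) : Matrix (Fin 2) (Fin 2) F :=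
  1 - vecMulVec ((nW a b u)⁻¹ • u) (gW a b *ᵥ u)

theorem rf_mulVec (u w : Fin 2 → F) : rf a b u *ᵥ w = w - ((nW a b u)⁻¹ * bW a b u w) • u := by
  rw [rf, Matrix.sub_mulVec, Matrix.one_mulVec, Matrix.vecMulVec_mulVec, op_smul_eq_smul, smul_smul,
    show (gW a b *ᵥ u) ⬝ᵥ w = bW a b u w by rw [bW_comm, bW, dotProduct_comm], mul_comm]

theorem rf_wiso (hab : Aniso a b) {u : Fin 2 → F} (hu : u ≠ 0) : WIso a b (rf a b u) := fun w => by
  have := nW_ne hab hu
  rw [rf_mulVec, sub_eq_add_neg, ← neg_smul, nW_add, nW_smul, bW_smul_right, bW_comm a b w u]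
  field_simp
  ring

theorem rf_mul_self (hab : Aniso a b) {u : Fin 2 → F} (hu : u ≠ 0) : rf a b u * rf a b u = 1 := by
  have := nW_ne hab hu
  refine Matrix.ext_iff_mulVec.mpr fun w => ?_
  rw [← Matrix.mulVec_mulVec, rf_mulVec, rf_mulVec, bW_sub_right, bW_smul_right, bW_self, Matrix.one_mulVec,
    sub_sub, ← add_smul]
  rw [show (nW a b u)⁻¹ * bW a b u w +
    (nW a b u)⁻¹ * (bW a b u w - (nW a b u)⁻¹ * bW a b u w * (2 * nW a b u)) = 0 by field_simp; ring]
  simp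

theorem rf_smul {c : F} (hc : c ≠ 0) (u : Fin 2 → F) : rf a b (c • u) = rf a b u := by
  refine Matrix.ext_iff_mulVec.mpr fun w => ?_
  rw [rf_mulVec, rf_mulVec, nW_smul, bW_smul_left, smul_smul]
  congr 2
  field_simp

theorem WIso.bW_eq {r : Matrix (Fin 2) (Fin 2) F} (h : WIso a b r) (u w : Fin 2 → F) :
    bW a b (r *ᵥ u) (r *ᵥ w) = bW a b u w := by
  have := h (u + w)
  rw [Matrix.mulVec_add, nW_add, nW_add, h, h] at this
  exact add_left_cancel this

/-- An isometry of the plane is a product of at most two reflections. -/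
theorem plane_cases (hab : Aniso a b) {r : Matrix (Fin 2) (Fin 2) F} (h : WIso a b r) :
    r = 1 ∨ (∃ d, d ≠ 0 ∧ r = rf a b d) ∨ ∃ d d', d ≠ 0 ∧ d' ≠ 0 ∧ r = rf a b d * rf a b d' := by
  classical
  have move : ∀ (r : Matrix (Fin 2) (Fin 2) F), WIso a b r → ∀ x, r *ᵥ x - x ≠ 0 →
      rf a b (r *ᵥ x - x) *ᵥ (r *ᵥ x) = x := fun r h x hd => by
    have hN := nW_ne hab hd
    have e : bW a b (r *ᵥ x - x) (r *ᵥ x) = nW a b (r *ᵥ x - x) := by
      rw [sub_eq_add_neg, ← neg_one_smul F x, nW_add, bW_add_left, nW_smul, bW_smul_left, bW_smul_right,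
        bW_self, h, bW_comm a b x (r *ᵥ x)]
      ring
    rw [rf_mulVec, e, inv_mul_cancel₀ hN, one_smul, sub_sub_cancel]
  have fix2 : ∀ (r : Matrix (Fin 2) (Fin 2) F), WIso a b r → r *ᵥ Pi.single 0 1 = Pi.single 0 1 →
      r = 1 ∨ ∃ d, d ≠ 0 ∧ r = rf a b d := fun r h h0 => by
    by_cases h1 : r *ᵥ Pi.single 1 1 = Pi.single 1 1
    · refine Or.inl (Matrix.ext_of_mulVec_single fun k => ?_)
      fin_cases k
      · rw [Matrix.one_mulVec]; exact h0
      · rw [Matrix.one_mulVec]; exact h1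
    · have hd := sub_ne_zero.2 h1
      set d := r *ᵥ Pi.single 1 1 - Pi.single 1 1
      have hperp : bW a b d (Pi.single 0 1) = 0 := by
        rw [bW_comm, bW_sub_right]
        conv_lhs => enter [1, 3]; rw [← h0]
        rw [h.bW_eq, sub_self]
      refine Or.inr ⟨d, hd, ?_⟩
      have e : rf a b d * r = 1 := by
        refine Matrix.ext_of_mulVec_single fun k => ?_
        rw [← Matrix.mulVec_mulVec, Matrix.one_mulVec]
        fin_cases k
        · show rf a b d *ᵥ (r *ᵥ Pi.single 0 1) = Pi.single 0 1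
          rw [h0, rf_mulVec, hperp, mul_zero, zero_smul, sub_zero]
        · exact move r h _ hd
      calc r = rf a b d * rf a b d * r := by rw [rf_mul_self hab hd, Matrix.one_mul]
        _ = rf a b d := by rw [Matrix.mul_assoc, e, Matrix.mul_one]
  by_cases h0 : r *ᵥ Pi.single 0 1 = Pi.single 0 1
  · rcases fix2 r h h0 with e | e
    · exact Or.inl e
    · exact Or.inr (Or.inl e)
  have hd := sub_ne_zero.2 h0
  set d := r *ᵥ Pi.single 0 1 - Pi.single 0 1
  have hr : r = rf a b d * (rf a b d * r) := by rw [← Matrix.mul_assoc, rf_mul_self hab hd, Matrix.one_mul]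
  rcases fix2 _ ((rf_wiso hab hd).mul h) (by rw [← Matrix.mulVec_mulVec]; exact move r h _ hd) with e | ⟨d', hd', e⟩
  · exact Or.inr (Or.inl ⟨d, hd, by rw [hr, e, Matrix.mul_one]⟩)
  · exact Or.inr (Or.inr ⟨d, d', hd, hd', by rw [hr, e]⟩)

variable {Q : QuadraticForm F (Idx m → F)}

local notation "B" => QuadraticMap.polar (DFunLike.coe Q)

/-- Good position: invertible corner and nonzero middle block. -/
def IsPos (g : Grp Q) : Prop := (ag g).det ≠ 0 ∧ cwg g ≠ 0

variable (hQ : ⇑Q = Cfsg.quadFormMinus m F a b) (hB : Nondeg Q)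

include hQ

theorem col_rel (g : Grp Q) (x z : Fin m → F) :
    (ag g *ᵥ x) ⬝ᵥ (cyg g *ᵥ z) + (ag g *ᵥ z) ⬝ᵥ (cyg g *ᵥ x) + bW a b (cwg g *ᵥ x) (cwg g *ᵥ z) = 0 := by
  have h := ap_b g (vv x 0 0) (vv z 0 0)
  rw [ap_col, ap_col, b_vv hQ, b_vv hQ] at h
  simpa using h

theorem col_q (g : Grp Q) (x : Fin m → F) :
    (ag g *ᵥ x) ⬝ᵥ (cyg g *ᵥ x) + nW a b (cwg g *ᵥ x) = 0 := by
  have h := ap_q g (vv x 0 0)
  rw [ap_col, q_vv hQ, q_vv hQ] at h
  simpa using h

include hB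

theorem isRefl_levW (hab : Aniso a b) {u : Fin 2 → F} (hu : u ≠ 0) :
    IsRefl (vv (0 : Fin m → F) 0 u) (levW hQ hB (rf a b u) (rf_wiso hab hu)) := by
  refine ⟨by rw [q_vv hQ]; simpa using nW_ne hab hu, fun v => ?_⟩
  rw [← vv_parts v, ap_levW, rf_mulVec, q_vv hQ, b_vv hQ, vv_smul]
  refine vv_ext ?_ ?_ ?_ <;> funext i <;> simp [vv, xp, yp, wp]

theorem ap_up_inv (v : Fin 2 → F) (t x : Fin m → F) : ap (up hQ hB v t)⁻¹ (vv x 0 0) = vv x 0 0 := by
  refine ap_inj (up hQ hB v t) ?_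
  rw [ap_ap_inv, ap_up]
  simp

/-- The effect of a move on the first column. -/
theorem conj_up_col (g : Grp Q) (v : Fin 2 → F) (t : Fin m → F) :
    (∀ x, ag (up hQ hB v t * g * (up hQ hB v t)⁻¹) *ᵥ x =
      ag g *ᵥ x - (nW a b v * (t ⬝ᵥ (cyg g *ᵥ x)) + bW a b v (cwg g *ᵥ x)) • t) ∧
    (∀ x, cyg (up hQ hB v t * g * (up hQ hB v t)⁻¹) *ᵥ x = cyg g *ᵥ x) ∧
    ∀ x, cwg (up hQ hB v t * g * (up hQ hB v t)⁻¹) *ᵥ x = cwg g *ᵥ x + (t ⬝ᵥ (cyg g *ᵥ x)) • v := by
  have key : ∀ x, ap (up hQ hB v t * g * (up hQ hB v t)⁻¹) (vv x 0 0) =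
      ap (up hQ hB v t) (vv (ag g *ᵥ x) (cyg g *ᵥ x) (cwg g *ᵥ x)) := fun x => by
    rw [ap_mul, ap_mul, ap_up_inv, ap_col]
  refine ⟨fun x => ?_, fun x => ?_, fun x => ?_⟩
  · simpa [ap_col, ap_up] using congrArg xp (key x)
  · simpa [ap_col, ap_up] using congrArg yp (key x)
  · simpa [ap_col, ap_up] using congrArg wp (key x)

omit hQ hB in
theorem cwg_kernel (g : Grp Q) (hQ : ⇑Q = Cfsg.quadFormMinus m F a b) (hab : Aniso a b) {x : Fin m → F}
    (hx : ag g *ᵥ x = 0) : cwg g *ᵥ x = 0 := by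
  have h := col_q hQ g x
  rw [hx, zero_dotProduct, zero_add] at h
  by_contra hne
  exact nW_ne hab hne h

/-- A singular corner can be moved to good position. -/
theorem exists_pos_of_singular (hab : Aniso a b) (g : Grp Q) (hg : (ag g).det = 0) :
    ∃ h : Grp Q, IsPos (h * g * h⁻¹) := by
  classical
  induction hk : Module.finrank F (LinearMap.ker (ag g).mulVecLin) using Nat.strong_induction_on generalizing g with
  | _ k ih =>
  subst hk
  obtain ⟨x0, hx0, hAx0⟩ := Matrix.exists_mulVec_eq_zero_iff.2 hg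
  have hw0 := cwg_kernel g hQ hab hAx0
  have hu0 : cyg g *ᵥ x0 ≠ 0 := fun e => hx0 (by
    have h : ap g (vv x0 0 0) = ap g 0 := by rw [ap_col, hAx0, hw0, e, ap_zero, vv_zero]
    exact congrArg xp (ap_inj g h))
  obtain ⟨i, hi⟩ := Function.ne_iff.1 hu0
  set t : Fin m → F := Pi.single i 1
  have htu : t ⬝ᵥ (cyg g *ᵥ x0) ≠ 0 := by simpa [t, single_dotProduct] using hi
  set v : Fin 2 → F := Pi.single 0 1
  have hv : nW a b v = 1 := by simp [nW, v]
  obtain ⟨eA, -, ec⟩ := conj_up_col hQ hB g v t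
  set g' := up hQ hB v t * g * (up hQ hB v t)⁻¹
  have hc : cwg g' ≠ 0 := fun e => by
    have h := ec x0
    rw [e, Matrix.zero_mulVec, hw0, zero_add] at h
    exact smul_ne_zero htu (fun hv' => by simpa [v] using congrFun hv' 0) h.symm
  by_cases hA : (ag g').det = 0
  · have hlt : LinearMap.ker (ag g').mulVecLin < LinearMap.ker (ag g).mulVecLin := by
      refine lt_of_le_of_ne (fun x hx => ?_) fun e => ?_
      · rw [LinearMap.mem_ker, Matrix.mulVecLin_apply] at hx ⊢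
        have h2 := eA x
        rw [hx] at h2
        set ρ := nW a b v * (t ⬝ᵥ (cyg g *ᵥ x)) + bW a b v (cwg g *ᵥ x)
        have e1 : ag g *ᵥ x = ρ • t := sub_eq_zero.1 h2.symm
        have h3 := col_rel hQ g x x0
        rw [e1, hAx0, hw0] at h3
        simp [htu] at h3
        rw [e1, h3, zero_smul]
      · have hm : x0 ∈ LinearMap.ker (ag g').mulVecLin := by
          rw [e, LinearMap.mem_ker, Matrix.mulVecLin_apply, hAx0]
        rw [LinearMap.mem_ker, Matrix.mulVecLin_apply, eA, hAx0, hw0, hv] at hm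
        have := congrFun hm i
        simp [t] at this
        exact hi this
    obtain ⟨h, hh⟩ := ih _ (Submodule.finrank_lt_finrank_of_lt hlt) g' hA rfl
    exact ⟨h * up hQ hB v t, by simpa [g', mul_assoc] using hh⟩
  · exact ⟨up hQ hB v t, hA, hc⟩

/-- If no conjugate has good position, the conjugates of the first subspace are stable and the corner is scalar. -/
theorem corner_scalar (hab : Aniso a b) (hm : 2 ≤ m) (g : Grp Q)
    (hg : ∀ h : Grp Q, ¬ IsPos (h * g * h⁻¹)) :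
    (∀ h : Grp Q, ∀ x, ap g (ap h (vv x 0 0)) = ap h (vv (ag (h⁻¹ * g * h) *ᵥ x) 0 0)) ∧
      ∃ c : F, ∀ x, ag g *ᵥ x = c • x := by
  classical
  have hc0 : ∀ h : Grp Q, cwg (h * g * h⁻¹) = 0 := fun h => by
    by_cases hA : (ag (h * g * h⁻¹)).det = 0
    · obtain ⟨k, hk⟩ := exists_pos_of_singular hQ hB hab _ hA
      exact absurd (by simpa [mul_assoc] using hk) (hg (k * h))
    · by_contra hc
      exact hg h ⟨hA, hc⟩
  have hC0 : ∀ h : Grp Q, ∀ x, cyg (h * g * h⁻¹) *ᵥ x = 0 := fun h x => by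
    refine dotProduct_eq_zero _ fun t => ?_
    obtain ⟨-, -, ec⟩ := conj_up_col hQ hB (h * g * h⁻¹) (Pi.single 0 1) t
    have e := ec x
    rw [show up hQ hB (Pi.single 0 1) t * (h * g * h⁻¹) * (up hQ hB (Pi.single 0 1) t)⁻¹ =
      (up hQ hB (Pi.single 0 1) t * h) * g * (up hQ hB (Pi.single 0 1) t * h)⁻¹ by group, hc0, hc0,
      Matrix.zero_mulVec, zero_add] at e
    simpa [dotProduct_comm] using (congrFun e 0).symm
  -- every conjugate of the first subspace is stable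
  have stab : ∀ h : Grp Q, ∀ x, ap g (ap h (vv x 0 0)) = ap h (vv (ag (h⁻¹ * g * h) *ᵥ x) 0 0) := fun h x => by
    have e := ap_col (h⁻¹ * g * h) x
    have h1 := hc0 h⁻¹
    have h2 := hC0 h⁻¹ x
    rw [inv_inv] at h1 h2
    rw [h1, h2, Matrix.zero_mulVec, ap_mul, ap_mul] at e
    rw [← e, ap_ap_inv]
  set σv : Fin m → Idx m → F := fun i => vv (Pi.single i 1) (-Pi.single i 1) 0
  have hσq : ∀ i, Q (σv i) = -1 := fun i => by rw [q_vv hQ]; simp
  choose σ hσ using fun i => exists_refl hB (v := σv i) (by rw [hσq]; simp)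
  have apσ : ∀ i x y w, ap (σ i) (vv x y w) =
      vv (x + (y i - x i) • Pi.single i 1) (y - (y i - x i) • Pi.single i 1) w := fun i x y w => by
    rw [(hσ i).2, hσq, b_vv hQ]
    refine vv_ext ?_ ?_ ?_ <;> funext j <;>
      simp [σv, vv, xp, yp, wp, dotProduct_neg] <;> ring
  -- the first subspace
  set A := ag g
  have gX : ∀ x, ap g (vv x 0 0) = vv (A *ᵥ x) 0 0 := fun x => by
    have e := stab 1 x
    simpa [ap_one] using e
  set A2 := ag (om hQ hB * g * om hQ hB)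
  have gY : ∀ y, ap g (vv 0 y 0) = vv 0 (A2 *ᵥ y) 0 := fun y => by
    have e := stab (om hQ hB) y
    rwa [ap_om, ap_om, om_inv] at e
  have hdiag : ∀ i j, j ≠ i → (A *ᵥ Pi.single j 1) i = 0 := fun i j hji => by
    have e := stab (σ i) (Pi.single j 1)
    set x' := ag ((σ i)⁻¹ * g * σ i) *ᵥ Pi.single j 1
    rw [apσ, apσ] at e
    simp [hji.symm, gX] at e
    have := congrArg (fun v => xp v i) e
    simpa using this
  have hdiag' : ∀ j, A *ᵥ Pi.single j 1 = (A j j) • Pi.single j 1 := fun j => by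
    funext i
    rcases eq_or_ne j i with rfl | h
    · simp
    · rw [hdiag i j h]; simp [h.symm]
  have heq : ∀ i j, A i i = A j j := fun i j => by
    rcases eq_or_ne i j with rfl | hij
    · rfl
    let T : GL (Fin m) F := GeneralLinearGroup.mkOfDetNeZero (transvection i j 1)
      (by rw [det_transvection_of_ne i j hij]; exact one_ne_zero)
    have hT : ∀ x : Fin m → F, (T : Matrix (Fin m) (Fin m) F) *ᵥ x = x + x j • Pi.single i 1 := fun x => by
      show transvection i j 1 *ᵥ x = _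
      funext k
      simp [transvection, Matrix.add_mulVec, Matrix.single_mulVec, Pi.single_apply, Function.update_apply]
    -- the conjugate by the transvection has diagonal corner as well
    have e := stab (lev hQ hB T * σ i) (Pi.single j 1)
    rw [ap_mul, ap_mul, apσ, apσ, ap_lev, ap_lev] at e
    simp [hij, hij.symm, hT, gX, Matrix.mulVec_add, hdiag'] at e
    set x' := ag ((lev hQ hB T * σ i)⁻¹ * g * (lev hQ hB T * σ i)) *ᵥ Pi.single j 1
    have e1 := congrArg (fun v => xp v i) e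
    have e2 := congrArg (fun v => xp v j) e
    simp [hij, hij.symm] at e1 e2
    linear_combination e1 - e2
  obtain ⟨i0, i1, hi01⟩ : ∃ i j : Fin m, i ≠ j := ⟨⟨0, by omega⟩, ⟨1, by omega⟩, by simp⟩
  set c := A i0 i0
  have hAc : ∀ x, A *ᵥ x = c • x := fun x => by
    have : A = c • 1 := Matrix.ext_of_mulVec_single fun j => by
      rw [hdiag' j, heq j i0, Matrix.smul_mulVec, Matrix.one_mulVec]
    rw [this, Matrix.smul_mulVec, Matrix.one_mulVec]
  exact ⟨stab, c, hAc⟩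

/-- An isometry no conjugate of which has good position is `± 1`. -/
theorem eq_one_or_neg_one (hab : Aniso a b) (hm : 2 ≤ m) (g : Grp Q)
    (hg : ∀ h : Grp Q, ¬ IsPos (h * g * h⁻¹)) :
    ∃ c : F, (c = 1 ∨ c = -1) ∧ mat g = c • 1 := by
  classical
  obtain ⟨stab, c, hAc⟩ := corner_scalar hQ hB hab hm g hg
  set σv : Fin m → Idx m → F := fun i => vv (Pi.single i 1) (-Pi.single i 1) 0
  have hσq : ∀ i, Q (σv i) = -1 := fun i => by rw [q_vv hQ]; simp [σv]
  choose σ hσ using fun i => exists_refl hB (v := σv i) (by rw [hσq]; simp)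
  have apσ : ∀ i x y w, ap (σ i) (vv x y w) =
      vv (x + (y i - x i) • Pi.single i 1) (y - (y i - x i) • Pi.single i 1) w := fun i x y w => by
    rw [(hσ i).2, hσq, b_vv hQ]
    refine vv_ext ?_ ?_ ?_ <;> funext j <;>
      simp [σv, vv, xp, yp, wp, dotProduct_neg] <;> ring
  set A2 := ag (om hQ hB * g * om hQ hB)
  have gX : ∀ x, ap g (vv x 0 0) = vv (ag g *ᵥ x) 0 0 := fun x => by
    have e := stab 1 x
    simpa [ap_one] using e
  have gY : ∀ y, ap g (vv 0 y 0) = vv 0 (A2 *ᵥ y) 0 := fun y => by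
    have e := stab (om hQ hB) y
    rwa [ap_om, ap_om, om_inv] at e
  obtain ⟨i0, i1, hi01⟩ : ∃ i j : Fin m, i ≠ j := ⟨⟨0, by omega⟩, ⟨1, by omega⟩, by simp⟩
  have hc2 : c * c = 1 := by
    obtain ⟨-, c', hc'⟩ := corner_scalar hQ hB hab hm ((σ i0)⁻¹ * g * σ i0) fun h hp =>
      hg (h * (σ i0)⁻¹) (by simpa [mul_assoc] using hp)
    have e := stab (σ i0) (Pi.single i0 1 + Pi.single i1 1)
    rw [apσ, apσ, hc'] at e
    simp [hi01] at e
    rw [show vv (Pi.single i1 (1 : F)) (Pi.single i0 1) (0 : Fin 2 → F) =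
      vv (Pi.single i1 1) 0 0 + vv 0 (Pi.single i0 1) 0 by rw [vv_add]; simp, ap_add, gX, gY, vv_add] at e
    have hy : (A2 *ᵥ Pi.single i0 1) i0 * c = 1 := by
      have h := ap_b g (vv (Pi.single i0 1) 0 0) (vv 0 (Pi.single i0 1) 0)
      rw [gX, gY, b_vv hQ, b_vv hQ, hAc] at h
      simp at h
      simp
      linear_combination h
    have e1 := congrArg (fun v => yp v i0) e
    have e2 := congrArg (fun v => xp v i1) e
    simp [hAc, hi01, hi01.symm] at e1 e2
    simp at hy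
    rw [e1, ← e2] at hy
    exact hy
  have gY' : ∀ y, ap g (vv 0 y 0) = vv 0 (c • y) 0 := fun y => by
    rw [gY]
    congr 1
    refine dotProduct_eq _ _ fun z => ?_
    have h := ap_b g (vv z 0 0) (vv 0 y 0)
    rw [gX, gY, b_vv hQ, b_vv hQ, hAc] at h
    simp at h
    rw [smul_dotProduct, smul_eq_mul, dotProduct_comm y z]
    linear_combination c * h - (z ⬝ᵥ (A2 *ᵥ y)) * hc2 + dotProduct_comm (A2 *ᵥ y) z
  have gW' : ∀ w, ap g (vv 0 0 w) = vv 0 0 (cmid g *ᵥ w) := fun w => by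
    refine vv_ext ?_ ?_ ?_
    · rw [xp_vv]
      refine dotProduct_eq_zero _ fun z => ?_
      have h := ap_b g (vv 0 0 w) (vv 0 (c • z) 0)
      rw [gY', ← vv_parts (ap g (vv 0 0 w)), b_vv hQ, b_vv hQ, smul_smul, hc2, one_smul] at h
      simpa using h
    · rw [yp_vv]
      refine dotProduct_eq_zero _ fun z => ?_
      have h := ap_b g (vv 0 0 w) (vv (c • z) 0 0)
      rw [gX, ← vv_parts (ap g (vv 0 0 w)), b_vv hQ, b_vv hQ, hAc, smul_smul, hc2, one_smul] at h
      simpa [dotProduct_comm] using h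
    · rw [wp_vv, wp_ap_mid]
  have hr : ∀ v, cmid g *ᵥ v = c • v := fun v => by
    have e := stab (lo hQ hB v (Pi.single i0 1)) (Pi.single i0 1)
    set x' := ag ((lo hQ hB v (Pi.single i0 1))⁻¹ * g * lo hQ hB v (Pi.single i0 1)) *ᵥ Pi.single i0 1
    rw [ap_lo, ap_lo, vv_split, ap_add, ap_add, gX, gY', gW', hAc, vv_add, vv_add] at e
    have e1 := congrArg (fun v => xp v i0) e
    have e2 := congrArg wp e
    simp at e1 e2
    rw [← e1] at e2
    simpa using e2
  refine ⟨c, mul_self_eq_one_iff.1 hc2, Matrix.ext_iff_mulVec.mpr fun v => ?_⟩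
  show ap g v = _
  rw [Matrix.smul_mulVec, Matrix.one_mulVec, ← vv_parts v, vv_split, ap_add, ap_add, gX, gY', gW', hAc, hr]
  simp only [vv_add, add_zero, zero_add]
  rw [← vv_smul, vv_parts]

/-- The normalising move. -/
theorem move_main (hab : Aniso a b) (g : Grp Q) (M : GL (Fin m) F) (hM : (M : Matrix (Fin m) (Fin m) F) = ag g)
    {r : Matrix (Fin 2) (Fin 2) F}
    (hmid : ∀ x w, xp (ap g (vv x 0 w)) = 0 → wp (ap g (vv x 0 w)) = r *ᵥ w)
    (s0 : Fin m → F) (hs0 : cwg g *ᵥ s0 ≠ 0) {z : Fin 2 → F} (hz : z ≠ 0) :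
    ∃ h : Grp Q, IsPos (h * g * h⁻¹) ∧
      (ag (h * g * h⁻¹)).det = (ag g).det * (nW a b (cwg g *ᵥ s0) * nW a b z) ∧
      (∃ ρ : Fin m → F, ag (h * g * h⁻¹) = ag g * (1 + vecMulVec s0 ρ) ∧
        1 + ρ ⬝ᵥ s0 = nW a b (cwg g *ᵥ s0) * nW a b z) ∧
      ∀ r' : Matrix (Fin 2) (Fin 2) F,
        (∀ x w, xp (ap (h * g * h⁻¹) (vv x 0 w)) = 0 → wp (ap (h * g * h⁻¹) (vv x 0 w)) = r' *ᵥ w) →
        r' = rf a b z * rf a b (cwg g *ᵥ s0) * r := by
  classical
  set u := cwg g *ᵥ s0 with hu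
  set t := ag g *ᵥ s0 with ht
  set nu := nW a b u with hnu
  have hnu0 : nu ≠ 0 := nW_ne hab hs0
  have hnz : nW a b z ≠ 0 := nW_ne hab hz
  set v := nu⁻¹ • u + z with hv
  have hNv : nW a b v = nu⁻¹ + nW a b z + nu⁻¹ * bW a b u z := by
    rw [hv, nW_add, nW_smul, bW_smul_left, ← hnu]; field_simp
  have hBvu : bW a b v u = 2 + bW a b u z := by
    rw [hv, bW_add_left, bW_smul_left, bW_self, ← hnu, bW_comm a b z u]; field_simp
  have htC : t ⬝ᵥ (cyg g *ᵥ s0) = -nu := eq_neg_of_add_eq_zero_left (col_q hQ g s0)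
  have hμ : 1 - (nW a b v * (t ⬝ᵥ (cyg g *ᵥ s0)) + bW a b v u) = nu * nW a b z := by
    rw [htC, hNv, hBvu]; field_simp; ring
  obtain ⟨eA, -, ec⟩ := conj_up_col hQ hB g v t
  set p := up hQ hB v t with hp
  set g' := p * g * p⁻¹
  set ρ : Fin m → F := -(nW a b v • (t ᵥ* cyg g) + (gW a b *ᵥ v) ᵥ* cwg g) with hρ
  have hρx : ∀ x, ρ ⬝ᵥ x = -(nW a b v * (t ⬝ᵥ (cyg g *ᵥ x)) + bW a b v (cwg g *ᵥ x)) := fun x => by
    rw [hρ, neg_dotProduct, add_dotProduct, smul_dotProduct, smul_eq_mul, ← Matrix.dotProduct_mulVec,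
      ← Matrix.dotProduct_mulVec,
      show (gW a b *ᵥ v) ⬝ᵥ (cwg g *ᵥ x) = bW a b v (cwg g *ᵥ x) by rw [bW_comm, bW, dotProduct_comm]]
  have hA' : ag g' = ag g * (1 + vecMulVec s0 ρ) := by
    refine Matrix.ext_iff_mulVec.mpr fun x => ?_
    rw [eA, ← Matrix.mulVec_mulVec, Matrix.add_mulVec, Matrix.one_mulVec, Matrix.vecMulVec_mulVec, op_smul_eq_smul,
      Matrix.mulVec_add, Matrix.mulVec_smul, hρx, neg_smul, sub_eq_add_neg]
  have hρ0 : 1 + ρ ⬝ᵥ s0 = nu * nW a b z := by rw [hρx, ← sub_eq_add_neg]; exact hμ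
  have hdet : (ag g').det = (ag g).det * (nu * nW a b z) := by
    rw [hA', Matrix.det_mul, vecMulVec_eq Unit, Matrix.det_one_add_replicateCol_mul_replicateRow, hρ0]
  have hA0 : (ag g).det ≠ 0 := by rw [← hM]; exact M.det_ne_zero
  have hc' : cwg g' *ᵥ s0 = -(nu • z) := by
    rw [ec, htC, hv, smul_add, smul_smul, ← hu, neg_mul, mul_inv_cancel₀ hnu0, neg_smul, neg_smul, one_smul]
    abel
  refine ⟨p, ⟨by rw [hdet]; exact mul_ne_zero hA0 (mul_ne_zero hnu0 hnz), fun e => ?_⟩, hdet, ⟨ρ, hA', hρ0⟩,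
    fun r' hr' => Matrix.ext_iff_mulVec.mpr fun w => ?_⟩
  · rw [e, Matrix.zero_mulVec, eq_comm, neg_eq_zero] at hc'
    exact smul_ne_zero hnu0 hz hc'
  -- the new middle
  obtain ⟨x, hx⟩ : ∃ x, xp (ap g (vv x 0 w)) = 0 := by
    refine ⟨-(((M⁻¹ : GL (Fin m) F) : Matrix (Fin m) (Fin m) F) *ᵥ xp (ap g (vv 0 0 w))), ?_⟩
    rw [show ∀ y : Fin m → F, vv y 0 w = vv y 0 0 + vv 0 0 w from fun y => by rw [vv_add]; simp, ap_add, ap_col,
      ← hM, Matrix.mulVec_neg, Matrix.mulVec_mulVec, ← Units.val_mul, mul_inv_cancel, Units.val_one,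
      Matrix.one_mulVec]
    funext i
    simp [xp, vv]
  set W := r *ᵥ w with hW
  set y := yp (ap g (vv x 0 w)) with hy
  have hgx : ap g (vv x 0 w) = vv 0 y W := by
    refine vv_ext ?_ rfl ?_
    · rw [hx, xp_vv]
    · rw [hmid x w hx, wp_vv]
  have hty : t ⬝ᵥ y = -bW a b u W := by
    have h := ap_b g (vv s0 0 0) (vv x 0 w)
    rw [hgx, ap_col, b_vv hQ, b_vv hQ] at h
    simp at h
    exact eq_neg_of_add_eq_zero_left h
  set τ := nW a b v * (t ⬝ᵥ y) + bW a b v W with hτ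
  set k := τ * (nu * nW a b z)⁻¹ with hk
  set X := x + k • s0 - bW a b v w • t
  have e1 : ap p (vv (x + k • s0) 0 w) = vv X 0 w := by
    rw [hp, ap_up]; simp [X]
  have e2 : ap g' (vv X 0 w) = vv 0 (y + k • (cyg g *ᵥ s0)) (W + (t ⬝ᵥ y) • v + k • (u - nu • v)) := by
    rw [← e1, ap_mul, ap_mul, ap_inv_ap]
    rw [show vv (x + k • s0) 0 w = vv x 0 w + k • vv s0 0 0 by rw [vv_smul, vv_add]; simp, ap_add, ap_smul, hgx,
      ap_col, vv_smul, vv_add, hp, ap_up, ← ht, ← hu]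
    congr 1
    · rw [zero_add, dotProduct_add, dotProduct_smul, smul_eq_mul, htC, bW_add_right, bW_smul_right, ← sub_smul]
      rw [show k - (nW a b v * (t ⬝ᵥ y + k * -nu) + (bW a b v W + k * bW a b v u)) = 0 by
        have h2 : k * (1 - (nW a b v * (t ⬝ᵥ (cyg g *ᵥ s0)) + bW a b v u)) = τ := by
          rw [hμ, hk, inv_mul_cancel_right₀ (mul_ne_zero hnu0 hnz)]
        rw [htC] at h2
        linear_combination h2 + hτ]
      simp
    · rw [dotProduct_add, dotProduct_smul, smul_eq_mul, htC]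
      funext j
      simp
      ring
  have e3 := hr' X w (by rw [e2, xp_vv])
  rw [e2, wp_vv] at e3
  rw [← e3, ← Matrix.mulVec_mulVec, ← Matrix.mulVec_mulVec, ← hW, rf_mulVec, rf_mulVec, bW_sub_right,
    bW_smul_right, bW_comm a b z u, hty, hk, hτ, hty, ← hnu, hv, hNv, bW_add_left, bW_smul_left]
  funext j
  simp
  field_simp
  ring

end CfsgLib.OreLevi.OrthMinus
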