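import Cfsg.Agent.Lib.OreLevi.OrthMinusGlue
import Cfsg.Agent.Lib.SpComm.Small

/-!
A free Levi element of square determinant over two and three elements.
-/

set_option autoImplicit false
set_option linter.unusedSectionVars false

namespace CfsgLib.OreLevi.OrthMinus

open Matrix Polynomial CfsgLib.SpComm
open CfsgLib.OreLevi.OrthPlus (TwistFree)

universe u

variable {F : Type u} [Field F] [Finite F] {m : ℕ} {a b : F}

/-- A matrix killed by a monic polynomial, with the determinant read on the polynomial. -/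
theorem exists_matrix_of_monic {P : F[X]} (hP : P.Monic) (hd : P.natDegree = m) (h0 : P.coeff 0 ≠ 0) :
    ∃ s : GL (Fin m) F, aeval (s : Matrix (Fin m) (Fin m) F) P = 0 ∧
      (s : Matrix (Fin m) (Fin m) F).det = (-1) ^ m * P.coeff 0 := by
  classical
  let pb := AdjoinRoot.powerBasis hP.ne_zero
  have hdim : pb.dim = m := by simp [pb, hd]
  let bb := pb.basis.reindex (finCongr hdim)
  set N : Matrix (Fin m) (Fin m) F := Algebra.leftMulMatrix bb (AdjoinRoot.root P) with hN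
  have hmin : minpoly F (AdjoinRoot.root P) = P := by
    rw [AdjoinRoot.minpoly_root hP.ne_zero, hP.leadingCoeff, inv_one, map_one, mul_one]
  have hdet : N.det = (-1) ^ m * P.coeff 0 := by
    rw [hN, ← Algebra.norm_eq_matrix_det, ← hdim]
    have := Algebra.PowerBasis.norm_gen_eq_coeff_zero_minpoly pb
    rw [show pb.gen = AdjoinRoot.root P from rfl, hmin] at this
    exact this
  have hu : N.det ≠ 0 := by
    rw [hdet]; exact mul_ne_zero (pow_ne_zero _ (neg_ne_zero.2 one_ne_zero)) h0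
  refine ⟨GeneralLinearGroup.mkOfDetNeZero N hu, ?_, hdet⟩
  show aeval N P = 0
  rw [hN, aeval_algHom_apply, AdjoinRoot.aeval_eq, AdjoinRoot.mk_self, map_zero]

/-- A `Good` monic polynomial with square norm gives the free element. -/
theorem hone_of_good {P : F[X]} (hP : P.Monic) (hd : P.natDegree = m) (hg : Good P) (h0 : P.coeff 0 ≠ 0)
    (hsq : IsSquare ((-1 : F) ^ m * P.coeff 0)) :
    ∃ (s : GL (Fin m) F) (r : Matrix (Fin 2) (Fin 2) F),
      IsSquare (s : Matrix (Fin m) (Fin m) F).det ∧ WComm a b r ∧ TwistFree (s : Matrix (Fin m) (Fin m) F) ∧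
        ∀ l : Matrix (Fin 2) (Fin m) F, (r * l = l * (s : Matrix (Fin m) (Fin m) F) ∨
          r * l * (s : Matrix (Fin m) (Fin m) F)ᵀ = l) → l = 0 := by
  obtain ⟨s, hs, hdet⟩ := exists_matrix_of_monic hP hd h0
  exact ⟨s, 1, hdet ▸ hsq, WComm.one, CfsgLib.OreLevi.OrthPlus.twistFree_of_good hg hs, fun l e =>
    CfsgLib.OreLevi.OrthPlus.no_fix_both hg hs (by rwa [Matrix.one_mul] at e)⟩

/-- Over two elements. -/
theorem hone_two (hF : Nat.card F = 2) (hm : 3 ≤ m) :
    ∃ (s : GL (Fin m) F) (r : Matrix (Fin 2) (Fin 2) F),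
      IsSquare (s : Matrix (Fin m) (Fin m) F).det ∧ WComm a b r ∧ TwistFree (s : Matrix (Fin m) (Fin m) F) ∧
        ∀ l : Matrix (Fin 2) (Fin m) F, (r * l = l * (s : Matrix (Fin m) (Fin m) F) ∨
          r * l * (s : Matrix (Fin m) (Fin m) F)ᵀ = l) → l = 0 := by
  obtain ⟨P, s, -, -, hg, hs⟩ := exists_singer F (a := m) (by
    rw [hF]
    have : 2 ^ 2 ≤ 2 ^ (m - 1) := Nat.pow_le_pow_right (by omega) (by omega)
    omega) (by omega)
  haveI := Fintype.ofFinite F
  have h1 : ∀ x : F, x ≠ 0 → x = 1 := fun x hx => by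
    have := FiniteField.pow_card_sub_one_eq_one x hx
    rw [← Nat.card_eq_fintype_card, hF, pow_one] at this
    exact this
  refine ⟨s, 1, ?_, WComm.one, CfsgLib.OreLevi.OrthPlus.twistFree_of_good hg hs, fun l e =>
    CfsgLib.OreLevi.OrthPlus.no_fix_both hg hs (by rwa [Matrix.one_mul] at e)⟩
  exact (h1 _ ((Matrix.isUnit_iff_isUnit_det _).1 s.isUnit).ne_zero) ▸ IsSquare.one

/-- The reciprocal of a product with a power. -/
theorem Good.pow' {P : F[X]} (h : Good P) (k : ℕ) : Good (P ^ k) := by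
  unfold Good
  rw [CfsgLib.OreLevi.OrthPlus.reverse_pow']
  exact IsCoprime.pow h

section Three

variable (h3 : (3 : F) = 0)

theorem reverse_c0 : (X ^ 3 - X - 1 : F[X]).reverse = -X ^ 3 - X ^ 2 + 1 := by
  have hd : (X ^ 3 - X - 1 : F[X]).natDegree = 3 := by compute_degree!
  rw [Polynomial.reverse, hd]
  ext k
  rw [coeff_reflect]
  rcases k with _ | _ | _ | _ | k
  all_goals (first | rw [revAt_le (by omega)] | rw [revAt_eq_self_of_lt (by omega)]) <;>
    simp [coeff_X, coeff_one, coeff_X_pow]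

theorem reverse_c1 : (X ^ 3 - X + 1 : F[X]).reverse = X ^ 3 - X ^ 2 + 1 := by
  have hd : (X ^ 3 - X + 1 : F[X]).natDegree = 3 := by compute_degree!
  rw [Polynomial.reverse, hd]
  ext k
  rw [coeff_reflect]
  rcases k with _ | _ | _ | _ | k
  all_goals (first | rw [revAt_le (by omega)] | rw [revAt_eq_self_of_lt (by omega)]) <;>
    simp [coeff_X, coeff_one, coeff_X_pow]

theorem reverse_q : (X ^ 2 + X - 1 : F[X]).reverse = -X ^ 2 + X + 1 := by
  have hd : (X ^ 2 + X - 1 : F[X]).natDegree = 2 := by compute_degree!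
  rw [Polynomial.reverse, hd]
  ext k
  rw [coeff_reflect]
  rcases k with _ | _ | _ | k
  all_goals (first | rw [revAt_le (by omega)] | rw [revAt_eq_self_of_lt (by omega)]) <;>
    simp [coeff_X, coeff_one, coeff_X_pow]

include h3

theorem three_poly : (3 : F[X]) = 0 := by
  have := congrArg (C : F → F[X]) h3
  rwa [map_ofNat, map_zero] at this

theorem good_c0 : Good (X ^ 3 - X - 1 : F[X]) := by
  unfold Good; rw [reverse_c0]
  exact ⟨-X, -X + 1, by ring⟩

theorem good_c1 : Good (X ^ 3 - X + 1 : F[X]) := by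
  unfold Good; rw [reverse_c1]
  exact ⟨-X, X + 1, by ring⟩

theorem good_q : Good (X ^ 2 + X - 1 : F[X]) := by
  unfold Good; rw [reverse_q]
  exact ⟨-X + 1, -X - 1, by linear_combination (-1 : F[X]) * three_poly h3⟩

theorem good_c0q (k : ℕ) : Good ((X ^ 3 - X - 1) * (X ^ 2 + X - 1) ^ k : F[X]) := by
  refine (good_c0 h3).mul (Good.pow' (good_q h3) k) ?_ ?_
  · rw [CfsgLib.OreLevi.OrthPlus.reverse_pow', reverse_q]
    exact IsCoprime.pow_right ⟨X - 1, X ^ 2, by ring⟩
  · rw [reverse_c0]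
    exact IsCoprime.pow_left ⟨X ^ 2 - X + 1, X - 1, by linear_combination (X - 1) * three_poly h3⟩

theorem good_c1q (k : ℕ) : Good ((X ^ 3 - X + 1) * (X ^ 2 + X - 1) ^ k : F[X]) := by
  refine (good_c1 h3).mul (Good.pow' (good_q h3) k) ?_ ?_
  · rw [CfsgLib.OreLevi.OrthPlus.reverse_pow', reverse_q]
    exact IsCoprime.pow_right ⟨X, X ^ 2 + X + 1, by linear_combination X * three_poly h3⟩
  · rw [reverse_c1]
    exact IsCoprime.pow_left ⟨X + 1, -1, by linear_combination (X ^ 2 - 1) * three_poly h3⟩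

theorem good_c0sq (k : ℕ) : Good ((X ^ 3 - X - 1) ^ 2 * (X ^ 2 + X - 1) ^ k : F[X]) := by
  refine (Good.pow' (good_c0 h3) 2).mul (Good.pow' (good_q h3) k) ?_ ?_
  · rw [CfsgLib.OreLevi.OrthPlus.reverse_pow', reverse_q]
    exact IsCoprime.pow ⟨X - 1, X ^ 2, by ring⟩
  · rw [CfsgLib.OreLevi.OrthPlus.reverse_pow', reverse_c0]
    exact IsCoprime.pow ⟨X ^ 2 - X + 1, X - 1, by linear_combination (X - 1) * three_poly h3⟩

/-- Over three elements. -/
theorem hone_three (hm : 3 ≤ m) :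
    ∃ (s : GL (Fin m) F) (r : Matrix (Fin 2) (Fin 2) F),
      IsSquare (s : Matrix (Fin m) (Fin m) F).det ∧ WComm a b r ∧ TwistFree (s : Matrix (Fin m) (Fin m) F) ∧
        ∀ l : Matrix (Fin 2) (Fin m) F, (r * l = l * (s : Matrix (Fin m) (Fin m) F) ∨
          r * l * (s : Matrix (Fin m) (Fin m) F)ᵀ = l) → l = 0 := by
  have e : ∀ P : F[X], P.coeff 0 = P.eval 0 := fun P => coeff_zero_eq_eval_zero P
  have hc0 : (X ^ 3 - X - 1 : F[X]).Monic ∧ (X ^ 3 - X - 1 : F[X]).natDegree = 3 :=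
    ⟨by monicity!, by compute_degree!⟩
  have hc1 : (X ^ 3 - X + 1 : F[X]).Monic ∧ (X ^ 3 - X + 1 : F[X]).natDegree = 3 :=
    ⟨by monicity!, by compute_degree!⟩
  have hq : (X ^ 2 + X - 1 : F[X]).Monic ∧ (X ^ 2 + X - 1 : F[X]).natDegree = 2 :=
    ⟨by monicity!, by compute_degree!⟩
  rcases Nat.even_or_odd m with ⟨k, rfl⟩ | ⟨k, rfl⟩
  · rcases Nat.even_or_odd k with hk | hk
    · refine hone_of_good (P := (X ^ 2 + X - 1) ^ k) (hq.1.pow k) (by rw [natDegree_pow, hq.2]; omega)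
        (Good.pow' (good_q h3) k) ?_ ?_ <;> rw [e] <;> simp [hk.neg_one_pow]
    · obtain ⟨j, rfl⟩ : ∃ j, k = j + 3 := ⟨k - 3, by obtain ⟨i, rfl⟩ := hk; omega⟩
      have hj : Even j := by
        have := Nat.odd_add.1 hk
        by_contra hc
        rw [Nat.not_even_iff_odd] at hc
        exact absurd (this.1 hc) (by decide)
      refine hone_of_good (P := (X ^ 3 - X - 1) ^ 2 * (X ^ 2 + X - 1) ^ j) ((hc0.1.pow 2).mul (hq.1.pow j))
        (by rw [(hc0.1.pow 2).natDegree_mul (hq.1.pow j), natDegree_pow, natDegree_pow, hq.2, hc0.2]; omega)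
        (good_c0sq h3 j) ?_ ?_ <;> rw [e] <;> simp [hj.neg_one_pow]
  · obtain ⟨j, rfl⟩ : ∃ j, k = j + 1 := ⟨k - 1, by omega⟩
    rcases Nat.even_or_odd j with hj | hj
    · refine hone_of_good (P := (X ^ 3 - X - 1) * (X ^ 2 + X - 1) ^ j) (hc0.1.mul (hq.1.pow j))
        (by rw [hc0.1.natDegree_mul (hq.1.pow j), natDegree_pow, hq.2, hc0.2]; omega)
        (good_c0q h3 j) ?_ ?_ <;> rw [e] <;> simp [hj.neg_one_pow, pow_add, pow_mul]
    · refine hone_of_good (P := (X ^ 3 - X + 1) * (X ^ 2 + X - 1) ^ j) (hc1.1.mul (hq.1.pow j))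
        (by rw [hc1.1.natDegree_mul (hq.1.pow j), natDegree_pow, hq.2, hc1.2]; omega)
        (good_c1q h3 j) ?_ ?_ <;> rw [e] <;> simp [hj.neg_one_pow, pow_add, pow_mul]

end Three

end CfsgLib.OreLevi.OrthMinus
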