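import Cfsg.Agent.Lib.OreLevi.OrthMinus

/-!
The conditions on the middle part used by the minus type reduction, from conditions on the matrix.
-/

set_option autoImplicit false
set_option linter.unusedSectionVars false

namespace CfsgLib.OreLevi.OrthMinus

open Matrix CfsgLib.ClassSquare CfsgLib.ClassSquare.Orth CfsgLib.Orth
open CfsgLib.OreLevi.OrthPlus (TwistFree)

variable {F : Type*} [Field F] {m : ℕ} {a b : F}

/-- No eigenvalue one gives the condition with trivial middle part. -/
theorem wfree_one {s : Matrix (Fin m) (Fin m) F} (h : IsUnit (s - 1).det) :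
    ∀ l : Matrix (Fin 2) (Fin m) F, ((1 : Matrix (Fin 2) (Fin 2) F) * l = l * s ∨
      (1 : Matrix (Fin 2) (Fin 2) F) * l * sᵀ = l) → l = 0 := by
  intro l e
  rcases e with e | e
  · have h0 : l * (s - 1) = 0 := by rw [Matrix.mul_sub, ← e, Matrix.one_mul, Matrix.mul_one, sub_self]
    calc l = l * (s - 1) * (s - 1)⁻¹ := by rw [Matrix.mul_nonsing_inv_cancel_right _ _ h]
      _ = 0 := by rw [h0, Matrix.zero_mul]
  · have h' : IsUnit (s - 1)ᵀ.det := by rwa [Matrix.det_transpose]
    have h0 : l * (s - 1)ᵀ = 0 := by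
      rw [Matrix.one_mul] at e
      rw [Matrix.transpose_sub, Matrix.transpose_one, Matrix.mul_sub, e, Matrix.mul_one, sub_self]
    calc l = l * (s - 1)ᵀ * ((s - 1)ᵀ)⁻¹ := by rw [Matrix.mul_nonsing_inv_cancel_right _ _ h']
      _ = 0 := by rw [h0, Matrix.zero_mul]

/-- A twist-free matrix without eigenvalue one is free for the trivial middle part. -/
theorem free_one {s : Matrix (Fin m) (Fin m) F} (hs : TwistFree s) (h : IsUnit (s - 1).det) :
    Free s (1 : Matrix (Fin 2) (Fin 2) F) :=
  ⟨fun X hX e => hs X hX (Or.inl e), fun l e => wfree_one h l (Or.inl e)⟩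

/-- A middle part of order three: no root of `X² + X + 1` gives the condition. -/
theorem wfree_rot {r : Matrix (Fin 2) (Fin 2) F} (hr : r * r + r + 1 = 0) {s : Matrix (Fin m) (Fin m) F}
    (h : IsUnit (s * s + s + 1).det) :
    ∀ l : Matrix (Fin 2) (Fin m) F, (r * l = l * s ∨ r * l * sᵀ = l) → l = 0 := by
  intro l e
  rcases e with e | e
  · have h0 : l * (s * s + s + 1) = 0 := by
      calc l * (s * s + s + 1) = (r * r + r + 1) * l := by
            rw [Matrix.mul_add, Matrix.mul_add, ← Matrix.mul_assoc, ← e, Matrix.mul_assoc r l s, ← e,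
              Matrix.add_mul, Matrix.add_mul, Matrix.mul_one, Matrix.one_mul, Matrix.mul_assoc]
        _ = 0 := by rw [hr, Matrix.zero_mul]
    calc l = l * (s * s + s + 1) * (s * s + s + 1)⁻¹ := by rw [Matrix.mul_nonsing_inv_cancel_right _ _ h]
      _ = 0 := by rw [h0, Matrix.zero_mul]
  · have h' : IsUnit (s * s + s + 1)ᵀ.det := by rwa [Matrix.det_transpose]
    -- the inverse of the middle part has the same minimal polynomial
    have hr3 : r * r * r = 1 := by
      have h1 : (r - 1) * (r * r + r + 1) = r * r * r - 1 := by noncomm_ring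
      rw [hr, Matrix.mul_zero] at h1
      exact sub_eq_zero.1 h1.symm
    have e' : r * r * l = l * sᵀ := by
      conv_lhs => rw [← e]
      rw [← Matrix.mul_assoc (r * r), ← Matrix.mul_assoc (r * r), hr3, Matrix.one_mul]
    have h0 : l * (s * s + s + 1)ᵀ = 0 := by
      rw [Matrix.transpose_add, Matrix.transpose_add, Matrix.transpose_mul, Matrix.transpose_one]
      calc l * (sᵀ * sᵀ + sᵀ + 1) = ((r * r) * (r * r) + r * r + 1) * l := by
            rw [Matrix.mul_add, Matrix.mul_add, ← Matrix.mul_assoc l sᵀ sᵀ, ← e',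
              Matrix.mul_assoc (r * r) l sᵀ, ← e', Matrix.add_mul, Matrix.add_mul, Matrix.mul_one, Matrix.one_mul,
              Matrix.mul_assoc (r * r) (r * r) l]
        _ = 0 := by
            rw [show (r * r) * (r * r) + r * r + 1 = r * r * r * r + r * r + 1 by noncomm_ring, hr3, Matrix.one_mul,
              add_comm r (r * r), hr, Matrix.zero_mul]
    calc l = l * (s * s + s + 1)ᵀ * ((s * s + s + 1)ᵀ)⁻¹ := by rw [Matrix.mul_nonsing_inv_cancel_right _ _ h']
      _ = 0 := by rw [h0, Matrix.zero_mul]

/-- Over two elements the rotation of order three is a commutator of the plane. -/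
theorem exists_rot [Finite F] (hq : Nat.card F = 2) (hab : Aniso a b) :
    ∃ r : Matrix (Fin 2) (Fin 2) F, WComm a b r ∧ r * r + r + 1 = 0 := by
  haveI := Fintype.ofFinite F
  have e01 : ∀ x : F, x = 0 ∨ x = 1 := fun x => by
    rcases eq_or_ne x 0 with h | h
    · exact Or.inl h
    · refine Or.inr ?_
      have h' := FiniteField.pow_card_sub_one_eq_one x h
      rwa [← Nat.card_eq_fintype_card, hq, show 2 - 1 = 1 from rfl, pow_one] at h'
  have h2 : (2 : F) = 0 := by
    rcases e01 (-1) with h | h
    · simp at h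
    · linear_combination -h
  haveI : CharP F 2 := CharTwo.of_one_ne_zero_of_two_eq_zero one_ne_zero h2
  have ha : a = 1 := (e01 a).resolve_left fun e => by
    rcases e01 b with hb | hb
    · exact one_ne_zero (hab 0 1 (by simp [hb])).2
    · exact one_ne_zero (hab 1 1 (by rw [e, hb]; linear_combination h2)).1
  have hb : b = 1 := (e01 b).resolve_left fun e => one_ne_zero (hab 0 1 (by simp [e])).2
  subst ha hb
  refine ⟨!![0, 1; 1, 1], ⟨fun w => ?_, !![1, 1; 1, 0], !![0, 1; 1, 0], fun w => ?_, fun w => ?_, ?_⟩, ?_⟩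
  · simp [nW, mulVec, dotProduct, Fin.sum_univ_two]; linear_combination (w 1 ^ 2 + w 0 * w 1) * h2
  · simp [nW, mulVec, dotProduct, Fin.sum_univ_two]; linear_combination (w 0 ^ 2 + w 0 * w 1) * h2
  · simp [nW, mulVec, dotProduct, Fin.sum_univ_two]; ring
  · ext i j; fin_cases i <;> fin_cases j <;> simp [Matrix.mul_apply, Fin.sum_univ_two, CharTwo.add_self_eq_zero]
  · ext i j; fin_cases i <;> fin_cases j <;> simp [Matrix.mul_apply, Fin.sum_univ_two, CharTwo.add_self_eq_zero, one_add_one_eq_two, h2]

end CfsgLib.OreLevi.OrthMinus
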