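import Cfsg.Agent.Lib.OreLevi.OrthMinusCoord

/-!
The unipotent radicals of the parabolic subgroup of a maximal totally singular subspace in minus type, their
fixed-point-free Levi elements, and the decomposition of an isometry with invertible corner.
-/

set_option autoImplicit false
set_option linter.unusedSectionVars false

namespace CfsgLib.OreLevi.OrthMinus

open Matrix CfsgLib.ClassSquare CfsgLib.ClassSquare.Orth CfsgLib.Orth

/-- A fixed-point-free element gives every element of a finite normalised subgroup as a commutator. -/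
theorem exists_comm_of_free {G : Type*} [Group G] (U : Subgroup G) [Finite U] {k : G}
    (hn : ∀ x ∈ U, k * x * k⁻¹ ∈ U) (hfree : ∀ x ∈ U, k * x = x * k → x = 1) {g : G} (hg : g ∈ U) :
    ∃ x ∈ U, x * k * x⁻¹ * k⁻¹ = g := by
  let φ : U → U := fun x => ⟨x * k * (x : G)⁻¹ * k⁻¹, by
    have := mul_mem x.2 (hn _ (inv_mem x.2))
    simpa [mul_assoc] using this⟩
  have hinj : Function.Injective φ := fun x y e => by
    have e' : (x : G) * k * (x : G)⁻¹ * k⁻¹ = y * k * (y : G)⁻¹ * k⁻¹ := congrArg Subtype.val e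
    have e2 : k * ((y : G)⁻¹ * x) = (y : G)⁻¹ * x * k := by
      calc k * ((y : G)⁻¹ * x) = (y : G)⁻¹ * ((y : G) * k * (y : G)⁻¹ * k⁻¹) * k * x := by group
        _ = (y : G)⁻¹ * ((x : G) * k * (x : G)⁻¹ * k⁻¹) * k * x := by rw [e']
        _ = _ := by group
    exact Subtype.ext (inv_mul_eq_one.1 (hfree _ (mul_mem (inv_mem y.2) x.2) e2)).symm
  obtain ⟨x, hx⟩ := Finite.surjective_of_injective hinj ⟨g, hg⟩
  exact ⟨x, x.2, congrArg Subtype.val hx⟩

variable {F : Type*} [Field F] {m : ℕ} {a b : F}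
variable {Q : QuadraticForm F (Idx m → F)}

local notation "B" => QuadraticMap.polar (DFunLike.coe Q)

/-- The corner. -/
def ag (g : Grp Q) : Matrix (Fin m) (Fin m) F :=
  (mat g).submatrix (fun i => Sum.inl (Sum.inl i)) fun i => Sum.inl (Sum.inl i)

/-- The block under the corner. -/
def cyg (g : Grp Q) : Matrix (Fin m) (Fin m) F :=
  (mat g).submatrix (fun i => Sum.inl (Sum.inr i)) fun i => Sum.inl (Sum.inl i)

/-- The middle block under the corner. -/
def cwg (g : Grp Q) : Matrix (Fin 2) (Fin m) F := (mat g).submatrix Sum.inr fun i => Sum.inl (Sum.inl i)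

/-- The centre block. -/
def cmid (g : Grp Q) : Matrix (Fin 2) (Fin 2) F := (mat g).submatrix Sum.inr Sum.inr

theorem ap_col (g : Grp Q) (x : Fin m → F) :
    ap g (vv x 0 0) = vv (ag g *ᵥ x) (cyg g *ᵥ x) (cwg g *ᵥ x) := by
  funext i
  rcases i with (i | i) | i <;>
    simp [ap, ag, cyg, cwg, vv, mulVec, dotProduct, Fintype.sum_sum_type]

theorem wp_ap_mid (g : Grp Q) (w : Fin 2 → F) : wp (ap g (vv 0 0 w)) = cmid g *ᵥ w := by
  funext i
  simp [ap, cmid, vv, wp, mulVec, dotProduct, Fintype.sum_sum_type]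

/-- The lower unipotent radical. -/
def Low (Q : QuadraticForm F (Idx m → F)) : Subgroup (Grp Q) where
  carrier := {g | (∀ v, xp (ap g v) = xp v) ∧ (∀ y, ap g (vv 0 y 0) = vv 0 y 0) ∧
    ∀ v, xp v = 0 → wp (ap g v) = wp v}
  one_mem' := ⟨fun v => by rw [ap_one], fun y => by rw [ap_one], fun v _ => by rw [ap_one]⟩
  mul_mem' := by
    rintro g g' ⟨g1, g2, g3⟩ ⟨h1, h2, h3⟩
    refine ⟨fun v => by rw [ap_mul, g1, h1], fun y => by rw [ap_mul, h2, g2], fun v hv => ?_⟩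
    rw [ap_mul, g3 _ (by rw [h1, hv]), h3 v hv]
  inv_mem' := by
    rintro g ⟨g1, g2, g3⟩
    refine ⟨fun v => ?_, fun y => ?_, fun v hv => ?_⟩
    · conv_rhs => rw [← ap_ap_inv g v, g1]
    · conv_lhs => rw [← g2 y, ap_inv_ap]
    · have e : xp (ap g⁻¹ v) = 0 := by rw [← g1, ap_ap_inv, hv]
      conv_rhs => rw [← ap_ap_inv g v, g3 _ e]

variable (hQ : ⇑Q = Cfsg.quadFormMinus m F a b) (hB : Nondeg Q)

/-- A fixed-point-free pair. -/
def Free (M : Matrix (Fin m) (Fin m) F) (r : Matrix (Fin 2) (Fin 2) F) : Prop :=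
  (∀ X : Matrix (Fin m) (Fin m) F, IsAlt X → Mᵀ * X * M = X → X = 0) ∧
    ∀ l : Matrix (Fin 2) (Fin m) F, r * l = l * M → l = 0

include hQ

theorem eq_one_of_col {g : Grp Q} (hg : g ∈ Low Q) (hx : ∀ x, ap g (vv x 0 0) = vv x 0 0) : g = 1 := by
  refine ext_vv fun x y w => ?_
  rw [ap_one, vv_split x y w, ap_add, ap_add, hx, hg.2.1 y]
  congr 1
  refine vv_ext ?_ ?_ ?_
  · exact hg.1 _
  · rw [yp_vv]
    refine dotProduct_eq_zero _ fun z => ?_
    have h := ap_b g (vv z 0 0) (vv 0 0 w)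
    rw [hx, ← vv_parts (ap g (vv 0 0 w)), b_vv hQ, b_vv hQ, hg.1, xp_vv] at h
    simpa [dotProduct_comm] using h
  · exact hg.2.2 _ rfl

include hB

theorem levi_ap (M : GL (Fin m) F) {r : Matrix (Fin 2) (Fin 2) F} (hr : WIso a b r) (x y : Fin m → F)
    (w : Fin 2 → F) :
    ap (lev hQ hB M * levW hQ hB r hr) (vv x y w) =
      vv ((M : Matrix (Fin m) (Fin m) F) *ᵥ x) (((M⁻¹ : GL (Fin m) F) : Matrix (Fin m) (Fin m) F)ᵀ *ᵥ y)
        (r *ᵥ w) := by
  rw [ap_mul, ap_levW, ap_lev]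

theorem levi_normal (M : GL (Fin m) F) {r : Matrix (Fin 2) (Fin 2) F} (hr : WIso a b r) :
    ∀ g ∈ Low Q, (lev hQ hB M * levW hQ hB r hr) * g * (lev hQ hB M * levW hQ hB r hr)⁻¹ ∈ Low Q := by
  intro g hg
  set k := lev hQ hB M * levW hQ hB r hr with hk
  have kx : ∀ v, xp (ap k v) = (M : Matrix (Fin m) (Fin m) F) *ᵥ xp v := fun v => by
    conv_lhs => rw [← vv_parts v, hk, levi_ap hQ hB, xp_vv]
  have kw : ∀ v, wp (ap k v) = r *ᵥ wp v := fun v => by
    conv_lhs => rw [← vv_parts v, hk, levi_ap hQ hB, wp_vv]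
  have main : ∀ v, ap (k * g * k⁻¹) v = ap k (ap g (ap k⁻¹ v)) := fun v => by rw [ap_mul, ap_mul]
  refine ⟨fun v => ?_, fun y => ?_, fun v hv => ?_⟩
  · rw [main, kx, hg.1, ← kx, ap_ap_inv]
  · have e : ap k⁻¹ (vv 0 y 0) = vv 0 ((M : Matrix (Fin m) (Fin m) F)ᵀ *ᵥ y) 0 := by
      refine ap_inj k ?_
      rw [ap_ap_inv, hk, levi_ap hQ hB, Matrix.mulVec_zero, Matrix.mulVec_zero, Matrix.mulVec_mulVec,
        ← Matrix.transpose_mul, ← Units.val_mul, mul_inv_cancel, Units.val_one, Matrix.transpose_one,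
        Matrix.one_mulVec]
    rw [main, e, hg.2.1, ← e, ap_ap_inv]
  · have e : xp (ap k⁻¹ v) = 0 := by
      have h := kx (ap k⁻¹ v)
      rw [ap_ap_inv, hv] at h
      exact Matrix.eq_zero_of_mulVec_eq_zero M.det_ne_zero h.symm
    rw [main, kw, hg.2.2 _ e, ← kw, ap_ap_inv]

theorem levi_free (M : GL (Fin m) F) {r : Matrix (Fin 2) (Fin 2) F} (hr : WIso a b r)
    (hf : Free (M : Matrix (Fin m) (Fin m) F) r) :
    ∀ g ∈ Low Q, (lev hQ hB M * levW hQ hB r hr) * g = g * (lev hQ hB M * levW hQ hB r hr) → g = 1 := by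
  intro g hg hcomm
  set k := lev hQ hB M * levW hQ hB r hr with hk
  set Mi := ((M⁻¹ : GL (Fin m) F) : Matrix (Fin m) (Fin m) F)
  have hA : ∀ x, ag g *ᵥ x = x := fun x => by
    have := hg.1 (vv x 0 0)
    rwa [ap_col, xp_vv, xp_vv] at this
  have key : ∀ x : Fin m → F, Miᵀ *ᵥ (cyg g *ᵥ x) = cyg g *ᵥ ((M : Matrix (Fin m) (Fin m) F) *ᵥ x) ∧
      r *ᵥ (cwg g *ᵥ x) = cwg g *ᵥ ((M : Matrix (Fin m) (Fin m) F) *ᵥ x) := fun x => by
    have h := congrArg (fun e => ap e (vv x 0 0)) hcomm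
    simp only [ap_mul k g, ap_mul g k] at h
    rw [ap_col g x, hA, hk, levi_ap hQ hB, levi_ap hQ hB, Matrix.mulVec_zero, Matrix.mulVec_zero, ap_col, hA] at h
    exact ⟨congrArg yp h, congrArg wp h⟩
  have hl : cwg g = 0 := hf.2 _ (Matrix.ext_iff_mulVec.mpr fun x => by
    rw [← Matrix.mulVec_mulVec, ← Matrix.mulVec_mulVec]; exact (key x).2)
  have hD : cyg g = 0 := by
    refine hf.1 _ (fun x => ?_) (Matrix.ext_iff_mulVec.mpr fun x => ?_)
    · have h := ap_q g (vv x 0 0)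
      rw [ap_col, q_vv hQ, q_vv hQ, hA, hl] at h
      simpa using h
    · rw [Matrix.mul_assoc, ← Matrix.mulVec_mulVec, ← Matrix.mulVec_mulVec, ← (key x).1, Matrix.mulVec_mulVec,
        ← Matrix.transpose_mul, ← Units.val_mul, inv_mul_cancel, Units.val_one, Matrix.transpose_one,
        Matrix.one_mulVec]
  exact eq_one_of_col hQ hg fun x => by rw [ap_col, hA, hl, hD]; simp

/-- An element of the lower radical with prescribed first column. -/
theorem exists_low (l : Matrix (Fin 2) (Fin m) F) (D : Matrix (Fin m) (Fin m) F)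
    (h : ∀ x, x ⬝ᵥ (D *ᵥ x) + nW a b (l *ᵥ x) = 0) :
    ∃ L ∈ Low Q, ∀ x, ap L (vv x 0 0) = vv x (D *ᵥ x) (l *ᵥ x) := by
  have hiso : ∀ x y w, Q (blk9 1 0 D 1 0 (-(lᵀ * gW a b)) l 0 1 *ᵥ vv x y w) = Q (vv x y w) := fun x y w => by
    rw [blk9_mulVec, q_vv hQ, q_vv hQ]
    simp only [Matrix.zero_mulVec, Matrix.one_mulVec, add_zero, zero_add, Matrix.neg_mulVec,
      dotProduct_add, dotProduct_neg, nW_add]
    rw [← Matrix.mulVec_mulVec, Matrix.dotProduct_mulVec x lᵀ, Matrix.vecMul_transpose, ← bW]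
    linear_combination h x
  refine ⟨mkG hB _ hiso, ⟨fun v => ?_, fun y => ?_, fun v hv => ?_⟩, fun x => ?_⟩
  · rw [← vv_parts v, ap_mkG, blk9_mulVec]; simp
  · rw [ap_mkG, blk9_mulVec]; simp
  · rw [← vv_parts v, ap_mkG, blk9_mulVec, hv]; simp
  · rw [ap_mkG, blk9_mulVec]; simp

/-- The decomposition of an isometry with invertible corner. -/
theorem exists_decomp (hab : Aniso a b) (g : Grp Q) (M : GL (Fin m) F)
    (hM : (M : Matrix (Fin m) (Fin m) F) = ag g) :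
    ∃ L ∈ Low Q, ∃ U : Grp Q, ∃ r : Matrix (Fin 2) (Fin 2) F, ∃ hr : WIso a b r,
      om hQ hB * U * om hQ hB ∈ Low Q ∧ g = L * (lev hQ hB M * levW hQ hB r hr) * U ∧
      ∀ x w, xp (ap g (vv x 0 w)) = 0 → wp (ap g (vv x 0 w)) = r *ᵥ w := by
  set A := (M : Matrix (Fin m) (Fin m) F)
  set Ai := ((M⁻¹ : GL (Fin m) F) : Matrix (Fin m) (Fin m) F)
  have hAA : A * Ai = 1 := by rw [← Units.val_mul, mul_inv_cancel, Units.val_one]
  have hAA' : Ai * A = 1 := by rw [← Units.val_mul, inv_mul_cancel, Units.val_one]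
  obtain ⟨L, hL, hLx⟩ := exists_low hQ hB (cwg g * Ai) (cyg g * Ai) (fun x => by
    have h := ap_q g (vv (Ai *ᵥ x) 0 0)
    rw [ap_col, q_vv hQ, q_vv hQ, ← hM, Matrix.mulVec_mulVec, hAA, Matrix.one_mulVec] at h
    simpa [Matrix.mulVec_mulVec] using h)
  set h1 := L⁻¹ * g with hh1
  have h1x : ∀ x, ap h1 (vv x 0 0) = vv (A *ᵥ x) 0 0 := fun x => by
    refine ap_inj L ?_
    rw [hh1, ap_mul, ap_ap_inv, hLx, ap_col, ← hM]
    simp only [Matrix.mulVec_mulVec, Matrix.mul_assoc, hAA', Matrix.mul_one]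
  have h1y : ∀ x y w, yp (ap h1 (vv x y w)) = Aiᵀ *ᵥ y := fun x y w => by
    have e : Aᵀ *ᵥ yp (ap h1 (vv x y w)) = y := dotProduct_eq _ _ fun z => by
      have h := ap_b h1 (vv z 0 0) (vv x y w)
      rw [h1x, ← vv_parts (ap h1 (vv x y w)), b_vv hQ, b_vv hQ] at h
      simp only [dotProduct_zero, bW_zero_left, add_zero] at h
      rw [dotProduct_comm _ z, dotProduct_comm y z, Matrix.dotProduct_mulVec, Matrix.vecMul_transpose]
      exact h
    conv_rhs => rw [← e, Matrix.mulVec_mulVec, ← Matrix.transpose_mul, hAA, Matrix.transpose_one,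
      Matrix.one_mulVec]
  have h1w : ∀ x w, wp (ap h1 (vv x 0 w)) = cmid h1 *ᵥ w := fun x w => by
    rw [← wp_ap_mid, show (vv x 0 w : Idx m → F) = vv x 0 0 + vv (0 : Fin m → F) 0 w by rw [vv_add]; simp, ap_add, h1x]
    funext i
    simp [wp, vv]
  have hr : WIso a b (cmid h1) := fun w => by
    have h := ap_q h1 (vv 0 0 w)
    rw [← vv_parts (ap h1 (vv 0 0 w)), q_vv hQ, q_vv hQ, h1y, h1w] at h
    simpa using h
  have hrinj : ∀ w, cmid h1 *ᵥ w = 0 → w = 0 := fun w e => by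
    by_contra hw
    exact nW_ne hab hw (by rw [← hr w, e, nW_zero])
  set k := lev hQ hB M * levW hQ hB (cmid h1) hr with hk
  set U := k⁻¹ * h1 with hU
  have hkU : ∀ v, ap k (ap U v) = ap h1 v := fun v => by rw [← ap_mul, hU, mul_inv_cancel_left]
  have hUy : ∀ x y w, yp (ap U (vv x y w)) = y := fun x y w => by
    have h := congrArg yp (hkU (vv x y w))
    rw [h1y, ← vv_parts (ap U (vv x y w)), hk, levi_ap hQ hB, yp_vv] at h
    have := congrArg (fun e => Aᵀ *ᵥ e) h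
    simp only [Matrix.mulVec_mulVec, ← Matrix.transpose_mul] at this
    rwa [hAA', Matrix.transpose_one, Matrix.one_mulVec, Matrix.one_mulVec] at this
  have hUx : ∀ x, ap U (vv x 0 0) = vv x 0 0 := fun x => by
    refine ap_inj k ?_
    rw [hkU, h1x, hk, levi_ap hQ hB]
    simp [A]
  have hUw : ∀ x w, wp (ap U (vv x 0 w)) = w := fun x w => by
    have h := congrArg wp (hkU (vv x 0 w))
    rw [h1w, ← vv_parts (ap U (vv x 0 w)), hk, levi_ap hQ hB, wp_vv, ← sub_eq_zero, ← Matrix.mulVec_sub] at h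
    exact sub_eq_zero.1 (hrinj _ h)
  refine ⟨L, hL, U, cmid h1, hr, ⟨fun v => ?_, fun y => ?_, fun v hv => ?_⟩, ?_, fun x w hx => ?_⟩
  · rw [← vv_parts v, ap_mul, ap_mul, ap_om, ← vv_parts (ap U _), ap_om, xp_vv, hUy, xp_vv]
  · rw [ap_mul, ap_mul, ap_om, hUx, ap_om]
  · rw [← vv_parts v, ap_mul, ap_mul, ap_om, ← vv_parts (ap U _), ap_om, wp_vv, hv, hUw, wp_vv]
  · show g = L * k * (k⁻¹ * (L⁻¹ * g))
    group
  · have e : ap g (vv x 0 w) = ap L (ap h1 (vv x 0 w)) := by rw [← ap_mul, hh1, mul_inv_cancel_left]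
    rw [e] at hx ⊢
    rw [hL.2.2 _ (by rwa [hL.1] at hx), h1w]

end CfsgLib.OreLevi.OrthMinus
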