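import Cfsg.Agent.Lib.ClassSquare.OrthPlus
import Cfsg.Agent.S2444

/-!
Commutators in `Ω⁺(2m, F)`: a non-central element has a conjugate `symL S * lev A * symU T` with `det A = 1`;
a factorisation `A = s z s⁻¹ z⁻¹` with a twisting-free `s` makes it a commutator. Central elements are treated
directly.
-/

set_option autoImplicit false
set_option linter.unusedSectionVars false

namespace CfsgLib.OreLevi.OrthPlus

open Matrix CfsgLib.ClassSquare CfsgLib.ClassSquare.Orth CfsgLib.ClassSquare.OrthP CfsgLib.Orth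

/-- An element is a commutator. -/
def IsComm {G : Type*} [Group G] (g : G) : Prop := ∃ a b : G, g = a * b * a⁻¹ * b⁻¹

theorem IsComm.map {G H : Type*} [Group G] [Group H] (f : G →* H) {g : G} (h : IsComm g) : IsComm (f g) := by
  obtain ⟨a, b, rfl⟩ := h
  exact ⟨f a, f b, by simp⟩

theorem IsComm.of_isConj {G : Type*} [Group G] {g g' : G} (hc : IsConj g g') (h : IsComm g') : IsComm g := by
  obtain ⟨c, hc⟩ := isConj_iff.1 hc.symm
  exact hc ▸ h.map (MulAut.conj c).toMonoidHom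

variable {F : Type*} [Field F] {m : ℕ}

/-- No nonzero alternating matrix is fixed by the twist with `s` or with its transpose. -/
def TwistFree (s : Matrix (Fin m) (Fin m) F) : Prop :=
  ∀ X : Matrix (Fin m) (Fin m) F, IsAlt X → (sᵀ * X * s = X ∨ s * X * sᵀ = X) → X = 0

/-- A twisting operator without fixed points is onto the alternating matrices. -/
theorem exists_twist [Finite F] (a : Matrix (Fin m) (Fin m) F)
    (h : ∀ X : Matrix (Fin m) (Fin m) F, IsAlt X → aᵀ * X * a = X → X = 0) {S : Matrix (Fin m) (Fin m) F}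
    (hS : IsAlt S) : ∃ W, IsAlt W ∧ W - aᵀ * W * a = S := by
  have hsub : ∀ {X Y : Matrix (Fin m) (Fin m) F}, IsAlt X → IsAlt Y → IsAlt (X - Y) := fun hX hY x => by
    rw [Matrix.sub_mulVec, dotProduct_sub, hX x, hY x, sub_zero]
  let φ : {X : Matrix (Fin m) (Fin m) F // IsAlt X} → {X : Matrix (Fin m) (Fin m) F // IsAlt X} := fun X =>
    ⟨X.1 - aᵀ * X.1 * a, hsub X.2 (X.2.congr a)⟩
  have hφ : Function.Injective φ := fun X Y e => by
    have e' : X.1 - aᵀ * X.1 * a = Y.1 - aᵀ * Y.1 * a := congrArg Subtype.val e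
    refine Subtype.ext (sub_eq_zero.1 (h _ (hsub X.2 Y.2) ?_))
    rw [Matrix.mul_sub, Matrix.sub_mul]
    linear_combination (norm := abel) (-1 : ℤ) • e'
  obtain ⟨W, hW⟩ := Finite.surjective_of_injective hφ ⟨S, hS⟩
  exact ⟨W.1, W.2, congrArg Subtype.val hW⟩

/-- A twist with the inverse of a matrix has the fixed points of the twist with the matrix. -/
theorem fixed_of_inv (M : GL (Fin m) F) {X : Matrix (Fin m) (Fin m) F}
    (h : ((M⁻¹ : GL (Fin m) F) : Matrix (Fin m) (Fin m) F)ᵀ * X * (M⁻¹ : GL (Fin m) F) = X) :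
    (M : Matrix (Fin m) (Fin m) F)ᵀ * X * M = X := by
  conv_lhs => rw [← h]
  simp only [← Matrix.mul_assoc]
  rw [← transpose_mul, ← Units.val_mul, inv_mul_cancel, Units.val_one, transpose_one, Matrix.one_mul,
    Matrix.mul_assoc, ← Units.val_mul, inv_mul_cancel, Units.val_one, Matrix.mul_one]

/-- The five-dimensional certificate for minus one in odd rank. -/
theorem five_facts {i : F} (hi' : i * i = -1) :
    let X : Matrix (Fin 5) (Fin 5) F :=
      !![i, 0, 0, 0, 0; 0, 1, 0, 0, 0; 0, 0, -1, 0, 0; 0, 0, 0, 0, i; 0, 0, 0, 1, 0]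
    let X' : Matrix (Fin 5) (Fin 5) F :=
      !![-i, 0, 0, 0, 0; 0, 1, 0, 0, 0; 0, 0, -1, 0, 0; 0, 0, 0, 0, i; 0, 0, 0, 1, 0]
    let P : Matrix (Fin 5) (Fin 5) F :=
      !![1, 0, 0, 0, 0; 0, 0, 1, 0, 0; 0, 1, 0, 0, 0; 0, 0, 0, 1, 0; 0, 0, 0, 0, -1]
    let J : Matrix (Fin 5) (Fin 5) F := Matrix.diagonal ![1, 0, 1, 0, 0]
    P * X' = -(X * P) ∧
      (J * X = X * J ∧ J * X' = X' * J ∧ (1 - J) * X = (1 - J) * X' ∧ J * (Xᵀ * X') = J) ∧
      X.det = -1 ∧ P.det = 1 := by
  intro X X' P J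
  refine ⟨?_, ⟨?_, ?_, ?_, ?_⟩, ?_, ?_⟩
  · ext a b; fin_cases a <;> fin_cases b <;> simp [X, X', P, Matrix.mul_apply, Fin.sum_univ_five]
  · ext a b; fin_cases a <;> fin_cases b <;> simp [X, J]
  · ext a b; fin_cases a <;> fin_cases b <;> simp [X', J]
  · ext a b; fin_cases a <;> fin_cases b <;> simp [X, X', J, Matrix.mul_apply, Fin.sum_univ_five]
  · ext a b; fin_cases a <;> fin_cases b <;>
      simp [X, X', J, Matrix.mul_apply, Fin.sum_univ_five, hi']
  · simp [X, det_succ_row_zero, Fin.sum_univ_succ]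
    linear_combination hi'
  · simp [P, det_succ_row_zero, Fin.sum_univ_succ, Fin.succAbove]

variable {Q : QuadraticForm F (Fin m ⊕ Fin m → F)} (hQ : ⇑Q = Cfsg.quadFormPlus m F) [Finite F]
  (hB : Nondeg Q) (hm : 4 ≤ m)

include hQ hB hm

/-- The commutator identity. -/
theorem isComm_factor (g : Gam Q) {A S T : Matrix (Fin m) (Fin m) F} (hA : A.det ≠ 0) (hS : IsAlt S) (hT : IsAlt T)
    (hg : (g : Grp Q) = symL hQ S hS * lev hQ (GeneralLinearGroup.mkOfDetNeZero A hA) * symU hQ T hT)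
    {s z : GL (Fin m) F} (hAsz : A = (s : Matrix (Fin m) (Fin m) F) * z * (s⁻¹ : GL (Fin m) F) * (z⁻¹ : GL (Fin m) F))
    (hs : IsSquare (s : Matrix (Fin m) (Fin m) F).det) (hz : IsSquare (z : Matrix (Fin m) (Fin m) F).det)
    (htw : TwistFree (s : Matrix (Fin m) (Fin m) F)) : IsComm g := by
  set t : GL (Fin m) F := z * s⁻¹ * z⁻¹ with ht
  have hst : GeneralLinearGroup.mkOfDetNeZero A hA = s * t := Units.ext (by
    show A = _
    simp only [hAsz, ht, Units.val_mul, Matrix.mul_assoc])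
  obtain ⟨W, hW, hW'⟩ := exists_twist ((s⁻¹ : GL (Fin m) F) : Matrix (Fin m) (Fin m) F)
    (fun X hX h => htw X hX (Or.inl (fixed_of_inv s h))) hS
  obtain ⟨W', hW1, hW''⟩ := exists_twist ((t⁻¹ : GL (Fin m) F) : Matrix (Fin m) (Fin m) F)ᵀ
    (fun X hX h => by
      set zi := ((z⁻¹ : GL (Fin m) F) : Matrix (Fin m) (Fin m) F)
      have hzz : zi * (z : Matrix (Fin m) (Fin m) F) = 1 := by rw [← Units.val_mul, inv_mul_cancel, Units.val_one]
      rw [transpose_transpose, show (t⁻¹ : GL (Fin m) F) = z * s * z⁻¹ by simp [ht, mul_assoc]] at h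
      simp only [Units.val_mul] at h
      set zm := (z : Matrix (Fin m) (Fin m) F)
      set sm := (s : Matrix (Fin m) (Fin m) F)
      have hY : zi * X * ziᵀ = 0 := by
        refine htw _ ?_ (Or.inr ?_)
        · have := hX.congr ziᵀ
          rwa [transpose_transpose] at this
        conv_rhs => rw [← h]
        simp only [transpose_mul, ← Matrix.mul_assoc]
        rw [hzz, Matrix.one_mul]
        simp only [Matrix.mul_assoc]
        rw [← transpose_mul zi zm, hzz, transpose_one, Matrix.mul_one]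
      have h2 : zm * zi = 1 := by rw [← Units.val_mul, mul_inv_cancel, Units.val_one]
      calc X = (zm * zi) * X * (zm * zi)ᵀ := by rw [h2, transpose_one, Matrix.one_mul, Matrix.mul_one]
        _ = zm * (zi * X * ziᵀ) * zmᵀ := by simp only [transpose_mul, Matrix.mul_assoc]
        _ = 0 := by rw [hY, Matrix.mul_zero, Matrix.zero_mul]) (S := -T) hT.neg
  have e1 : symL hQ W hW * lev hQ s = symL hQ S hS * lev hQ s * symL hQ W hW := by
    refine mat_inj ?_
    simp only [mat_mul]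
    show fromBlocks 1 0 W 1 * Plus.levMat s = fromBlocks 1 0 S 1 * Plus.levMat s * fromBlocks 1 0 W 1
    simp only [Plus.levMat, fromBlocks_multiply, Matrix.mul_zero, Matrix.zero_mul, add_zero, zero_add,
      Matrix.one_mul, Matrix.mul_one, Matrix.coe_units_inv]
    congr 1
    rw [← Matrix.coe_units_inv, ← hW', Matrix.sub_mul,
      Matrix.mul_assoc _ ((s⁻¹ : GL (Fin m) F) : Matrix (Fin m) (Fin m) F), ← Units.val_mul,
      inv_mul_cancel, Units.val_one, Matrix.mul_one, sub_add_cancel]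
  have e2 : symU hQ W' hW1 * lev hQ t = lev hQ t * symU hQ T hT * symU hQ W' hW1 := by
    refine mat_inj ?_
    simp only [mat_mul]
    show fromBlocks 1 W' 0 1 * Plus.levMat t =
      Plus.levMat t * fromBlocks 1 T 0 1 * fromBlocks 1 W' 0 1
    simp only [Plus.levMat, fromBlocks_multiply, Matrix.mul_zero, Matrix.zero_mul, add_zero, zero_add,
      Matrix.one_mul, Matrix.mul_one]
    congr 1
    rw [transpose_transpose] at hW''
    rw [show T = -(W' - ((t⁻¹ : GL (Fin m) F) : Matrix (Fin m) (Fin m) F) * W' *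
        ((t⁻¹ : GL (Fin m) F) : Matrix (Fin m) (Fin m) F)ᵀ) by rw [hW'', neg_neg], neg_sub, Matrix.mul_sub]
    simp only [← Matrix.mul_assoc]
    rw [← Units.val_mul, mul_inv_cancel, Units.val_one, Matrix.one_mul]
    abel
  have mL := symL_mem hQ hB hm W hW
  have mU := symU_mem hQ hB hm W' hW1
  refine ⟨⟨_, mL⟩ * ⟨_, lev_mem hQ hB hm s fun _ => hs⟩ * ⟨_, mL⟩⁻¹,
    ⟨_, mU⟩ * ⟨_, lev_mem hQ hB hm z fun _ => hz⟩ * ⟨_, mL⟩⁻¹, Subtype.ext ?_⟩
  simp only [Subgroup.coe_mul, Subgroup.coe_inv]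
  set x := symL hQ W hW
  set y := symU hQ W' hW1
  calc (g : Grp Q) = symL hQ S hS * lev hQ s * (lev hQ t * symU hQ T hT) := by rw [hg, hst, map_mul]; group
    _ = (x * lev hQ s * x⁻¹) * (y * lev hQ t * y⁻¹) := by
      rw [show symL hQ S hS * lev hQ s = x * lev hQ s * x⁻¹ by rw [e1]; group,
        show lev hQ t * symU hQ T hT = y * lev hQ t * y⁻¹ by rw [e2]; group]
    _ = _ := by rw [ht, map_mul, map_mul, map_inv, map_inv]; group

/-- Central elements are `± 1`. -/
theorem scalar_of_proj {g : Gam Q} (h : proj Q g = 1) :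
    ∃ c : F, (c = 1 ∨ c = -1) ∧ mat (g : Grp Q) = c • 1 := by
  classical
  rw [proj, QuotientGroup.mk'_apply, QuotientGroup.eq_one_iff, Subgroup.mem_center_iff] at h
  have hc : ∀ x : Grp Q, x ∈ Cfsg.Omega F ⇑Q → mat x * mat (g : Grp Q) = mat (g : Grp Q) * mat x := fun x hx =>
    congrArg mat (congrArg Subtype.val (h ⟨x, hx⟩))
  obtain ⟨A, B, C, D, hb⟩ := hasBlocks hQ g
  have hUc : ∀ S : Matrix (Fin m) (Fin m) F, IsAlt S → S * C = 0 ∧ A * S + B = B + S * D := fun S hS => by
    have e := hc _ (symU_mem hQ hB hm S hS)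
    rw [hb.eq] at e
    simp only [symU, mat_el, fromBlocks_multiply, Matrix.one_mul, Matrix.zero_mul, Matrix.mul_zero, Matrix.mul_one,
      zero_add, add_zero, fromBlocks_inj] at e
    exact ⟨by simpa using e.1, e.2.1.symm⟩
  have hLc : ∀ S : Matrix (Fin m) (Fin m) F, IsAlt S → S * B = 0 := fun S hS => by
    have e := hc _ (symL_mem hQ hB hm S hS)
    rw [hb.eq] at e
    simp only [symL, mat_el, fromBlocks_multiply, Matrix.one_mul, Matrix.zero_mul, Matrix.mul_zero, Matrix.mul_one,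
      zero_add, add_zero, fromBlocks_inj] at e
    have := e.2.2.2
    simpa using this
  haveI : Nontrivial (Fin m) := Fin.nontrivial_iff_two_le.2 (by omega)
  have hz : ∀ M : Matrix (Fin m) (Fin m) F, (∀ S, IsAlt S → S * M = 0) → M = 0 := fun M hM => by
    ext j k
    obtain ⟨i, hij⟩ := exists_ne j
    have := congrFun (congrFun (hM _ (isAlt_pair (Pi.single i 1) (Pi.single j 1))) i) k
    rw [Matrix.sub_mul, Matrix.vecMulVec_mul, Matrix.vecMulVec_mul, Matrix.sub_apply] at this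
    simpa [vecMulVec, Matrix.single_one_vecMul, Pi.single_apply, hij, hij.symm] using this
  have hC := hz C fun S hS => (hUc S hS).1
  have hB0 := hz B hLc
  subst hC hB0
  have hA : A ∈ Set.range (Matrix.scalar (Fin m)) := Matrix.mem_range_scalar_of_commute_transvectionStruct fun t => by
    have ht : t.toMatrix.det = 1 := t.det
    have e := hc _ (lev_mem hQ hB hm (GeneralLinearGroup.mkOfDetNeZero t.toMatrix (ht ▸ one_ne_zero))
      fun _ => ⟨1, ht.trans (one_mul 1).symm⟩)
    rw [hb.eq, show mat (lev hQ _) = Plus.levMat _ from rfl] at e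
    simp only [Plus.levMat, fromBlocks_multiply, Matrix.zero_mul, Matrix.mul_zero, zero_add, add_zero,
      fromBlocks_inj] at e
    exact e.1
  obtain ⟨c, hc'⟩ := hA
  have hAc : A = c • 1 := by rw [← hc', Matrix.scalar_apply, Matrix.smul_one_eq_diagonal]
  obtain ⟨-, -, h3⟩ := hb.rel hQ
  rw [Matrix.transpose_zero, Matrix.zero_mul, add_zero, hAc, Matrix.transpose_smul, Matrix.transpose_one,
    Matrix.smul_mul, Matrix.one_mul] at h3
  have hc0 : c ≠ 0 := fun e => by
    rw [e, zero_smul] at h3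
    exact zero_ne_one (congrFun (congrFun h3 ⟨0, by omega⟩) ⟨0, by omega⟩ |>.trans (Matrix.one_apply_eq _))
  have hD : D = c⁻¹ • 1 := by rw [← h3, smul_smul, inv_mul_cancel₀ hc0, one_smul]
  obtain ⟨i, j, hij⟩ := exists_pair_ne (Fin m)
  have e := (hUc _ (isAlt_pair (Pi.single i (1 : F)) (Pi.single j 1))).2
  rw [add_zero, zero_add, hAc, hD, Matrix.smul_mul, Matrix.one_mul, Matrix.mul_smul, Matrix.mul_one] at e
  have e' : c = c⁻¹ := by simpa [vecMulVec, Pi.single_apply, hij, hij.symm] using congrFun (congrFun e i) j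
  refine ⟨c, ?_, ?_⟩
  · have : c * c = 1 := by nth_rw 2 [e']; exact mul_inv_cancel₀ hc0
    exact mul_self_eq_one_iff.1 this
  · rw [hb.eq, hAc, hD, ← e', ← fromBlocks_one, fromBlocks_smul, smul_zero]

set_option maxHeartbeats 1600000 in
/-- The minus one element. -/
theorem isComm_neg_one (g : Gam Q) (hg : mat (g : Grp Q) = (-1 : F) • 1) : IsComm g := by
  classical
  haveI := Fintype.ofFinite F
  by_cases h2 : (2 : F) = 0
  · haveI : CharP F 2 := CharTwo.of_one_ne_zero_of_two_eq_zero one_ne_zero h2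
    exact ⟨1, 1, Subtype.ext (mat_inj (by rw [hg, CharTwo.neg_eq, one_smul]; simp [mat_one]))⟩
  have hF : 3 ≤ Fintype.card F := by
    rw [← Nat.card_eq_fintype_card]
    have h3 : ({0, 1, -1} : Finset F).card = 3 := by
      have : (1 : F) ≠ -1 := fun e => h2 (by linear_combination e)
      simp [this]
    rw [Nat.card_eq_fintype_card, ← h3]
    exact Finset.card_le_univ _
  -- commutators of the Levi part
  have hlevSL : ∀ a : SpecialLinearGroup (Fin m) F, lev hQ (SpecialLinearGroup.toGL a) ∈ Cfsg.Omega F ⇑Q :=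
    fun a => lev_mem hQ hB hm _ fun _ => ⟨1, a.2.trans (one_mul 1).symm⟩
  rcases Nat.even_or_odd m with hev | hodd
  · let n1 : SpecialLinearGroup (Fin m) F := ⟨-1, by rw [det_neg, det_one, mul_one, Fintype.card_fin, hev.neg_one_pow]⟩
    let ψ : SpecialLinearGroup (Fin m) F →* Gam Q :=
      ((lev hQ).comp SpecialLinearGroup.toGL).codRestrict _ hlevSL
    obtain ⟨a, b, hab⟩ := Cfsg.Agent.S2444.result (F := F) m (by omega) (by omega) n1
    have hψ : g = ψ n1 := Subtype.ext (mat_inj (by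
      rw [hg]
      show _ = Plus.levMat (SpecialLinearGroup.toGL n1)
      rw [Plus.levMat, ← fromBlocks_one, fromBlocks_smul, smul_zero, neg_smul, one_smul]
      have e1 : ((SpecialLinearGroup.toGL n1 : GL (Fin m) F) : Matrix (Fin m) (Fin m) F) = -1 := rfl
      congr 1
      rw [Units.inv_eq_of_mul_eq_one_right (a := -1) (by rw [e1]; simp), transpose_neg, transpose_one]))
    rw [hψ, hab]
    exact IsComm.map ψ ⟨a, b, rfl⟩
  -- odd rank: `-1` is a square
  obtain ⟨i, hi⟩ : IsSquare (-1 : F) := by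
    let n1 : GL (Fin m) F := GeneralLinearGroup.mkOfDetNeZero (-1) (by
      rw [det_neg, det_one, mul_one]; exact pow_ne_zero _ (by simp))
    have hψ : (g : Grp Q) = lev hQ n1 := mat_inj (by
      rw [hg]
      show _ = Plus.levMat n1
      rw [Plus.levMat, ← fromBlocks_one, fromBlocks_smul, smul_zero, neg_smul, one_smul]
      have e1 : ((n1 : GL (Fin m) F) : Matrix (Fin m) (Fin m) F) = -1 := rfl
      congr 1
      rw [Units.inv_eq_of_mul_eq_one_right (a := -1) (by rw [e1]; simp), transpose_neg, transpose_one])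
    have hs := (of_mem_omega hB g.2).2
    rw [hψ, (Plus.lev_class hB hQ (by omega) (lev hQ) (fun _ => rfl) _).2 h2, sqc_eq_one] at hs
    simpa [n1, GeneralLinearGroup.mkOfDetNeZero, det_neg, Fintype.card_fin, hodd.neg_one_pow] using hs
  have hi' : i * i = -1 := hi.symm
  have hi0 : i ≠ 0 := fun e => by simp [e] at hi'
  obtain ⟨k, rfl⟩ : ∃ k, m = 5 + (k + k) := by
    obtain ⟨r, hr⟩ := hodd
    exact ⟨r - 2, by omega⟩
  -- the first five coordinates
  let X : Matrix (Fin 5) (Fin 5) F := !![i, 0, 0, 0, 0; 0, 1, 0, 0, 0; 0, 0, -1, 0, 0; 0, 0, 0, 0, i; 0, 0, 0, 1, 0]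
  let X' : Matrix (Fin 5) (Fin 5) F :=
    !![-i, 0, 0, 0, 0; 0, 1, 0, 0, 0; 0, 0, -1, 0, 0; 0, 0, 0, 0, i; 0, 0, 0, 1, 0]
  let P : Matrix (Fin 5) (Fin 5) F := !![1, 0, 0, 0, 0; 0, 0, 1, 0, 0; 0, 1, 0, 0, 0; 0, 0, 0, 1, 0; 0, 0, 0, 0, -1]
  let J : Matrix (Fin 5) (Fin 5) F := Matrix.diagonal ![1, 0, 1, 0, 0]
  obtain ⟨hPX, hJX, hdX, hdP⟩ : P * X' = -(X * P) ∧
      (J * X = X * J ∧ J * X' = X' * J ∧ (1 - J) * X = (1 - J) * X' ∧ J * (Xᵀ * X') = J) ∧
      X.det = -1 ∧ P.det = 1 := five_facts hi'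
  -- the rest
  obtain ⟨a, b, hda, hdb, hab⟩ : ∃ a b : Matrix (Fin (k + k)) (Fin (k + k)) F,
      a.det = 1 ∧ b.det = 1 ∧ a * b = -(b * a) := by
    rcases Nat.eq_zero_or_pos k with rfl | hk
    · exact ⟨1, 1, det_one, det_one, Matrix.ext fun r => Fin.elim0 r⟩
    let n1 : SpecialLinearGroup (Fin (k + k)) F :=
      ⟨-1, by rw [det_neg, det_one, mul_one, Fintype.card_fin, Even.neg_one_pow ⟨k, rfl⟩]⟩
    have h4 : k + k = 2 → 4 ≤ Fintype.card F := fun _ => by
      by_contra hlt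
      have hc3 : Fintype.card F = 3 := by omega
      exact (FiniteField.isSquare_neg_one_iff.1 ⟨i, hi'.symm⟩) (by rw [hc3])
    obtain ⟨a, b, hab⟩ := Cfsg.Agent.S2444.result (F := F) (k + k) (by omega) h4 n1
    refine ⟨a, b, a.2, b.2, ?_⟩
    have e : n1 * (b * a) = a * b := by rw [hab]; group
    have e' : (n1 : Matrix (Fin (k + k)) (Fin (k + k)) F) * (b.1 * a.1) = a.1 * b.1 := congrArg Subtype.val e
    rw [← e', show (n1 : Matrix (Fin (k + k)) (Fin (k + k)) F) = -1 from rfl, neg_one_mul]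
  -- reindex
  let r : Matrix (Fin 5 ⊕ Fin (k + k)) (Fin 5 ⊕ Fin (k + k)) F ≃ₐ[F] Matrix (Fin (5 + (k + k))) (Fin (5 + (k + k))) F :=
    Matrix.reindexAlgEquiv F F finSumFinEquiv
  let DX := r (fromBlocks X 0 0 a)
  let DX' := r (fromBlocks X' 0 0 a)
  let DP := r (fromBlocks P 0 0 b)
  have hdDX : DX.det = -1 := by
    simp [DX, r, Matrix.reindexAlgEquiv_apply, det_reindex_self, det_fromBlocks_zero₂₁, hdX, hda]
  have hdDP : DP.det = 1 := by
    simp [DP, r, Matrix.reindexAlgEquiv_apply, det_reindex_self, det_fromBlocks_zero₂₁, hdP, hdb]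
  let uX : GL (Fin (5 + (k + k))) F := GeneralLinearGroup.mkOfDetNeZero DX (by rw [hdDX]; simp)
  let uP : GL (Fin (5 + (k + k))) F := GeneralLinearGroup.mkOfDetNeZero DP (by rw [hdDP]; simp)
  let fs : Finset (Fin (5 + (k + k))) := {finSumFinEquiv (Sum.inl 0), finSumFinEquiv (Sum.inl 2)}
  have hfs : Even fs.card := by
    rw [show fs.card = 2 from Finset.card_pair (finSumFinEquiv.injective.ne (by simp))]
    exact even_two
  have hind : (ind fs : Matrix (Fin (5 + (k + k))) (Fin (5 + (k + k))) F) = r (fromBlocks J 0 0 0) := by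
    ext u v
    obtain ⟨u, rfl⟩ := finSumFinEquiv.surjective u
    obtain ⟨v, rfl⟩ := finSumFinEquiv.surjective v
    simp only [r, Matrix.reindexAlgEquiv_apply, Matrix.reindex_apply, Matrix.submatrix_apply, Equiv.symm_apply_apply,
      ind, Matrix.diagonal_apply, fs, Finset.mem_insert, Finset.mem_singleton, finSumFinEquiv.injective.eq_iff]
    rcases u with u | u <;> rcases v with v | v <;> simp [J, Matrix.diagonal_apply]
    fin_cases u <;> simp
  set N := ind (F := F) fs with hN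
  have h1N : (1 : Matrix (Fin (5 + (k + k))) (Fin (5 + (k + k))) F) - N = r (fromBlocks (1 - J) 0 0 1) := by
    have e : (fromBlocks (1 - J) 0 0 1 : Matrix (Fin 5 ⊕ Fin (k + k)) (Fin 5 ⊕ Fin (k + k)) F) =
        1 - fromBlocks J 0 0 0 := by
      ext (u | u) (v | v) <;> simp [Matrix.one_apply]
    rw [e, map_sub, map_one, hind]
  have rT : ∀ M, (r M)ᵀ = r Mᵀ := fun M => by
    simp [r, Matrix.reindexAlgEquiv_apply, Matrix.reindex_apply, Matrix.transpose_submatrix]
  have c1 : N * DX = DX * N := by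
    simp only [hind, DX, ← map_mul, fromBlocks_multiply]; simp [hJX.1]
  have c2 : N * DX' = DX' * N := by
    simp only [hind, DX', ← map_mul, fromBlocks_multiply]; simp [hJX.2.1]
  have c3 : (1 - N) * DX = (1 - N) * DX' := by
    simp only [h1N, DX, DX', ← map_mul, fromBlocks_multiply]; simp [hJX.2.2.1]
  have c4 : N * (DXᵀ * DX') = N := by
    simp only [hind, DX, DX', rT, ← map_mul, fromBlocks_transpose, fromBlocks_multiply]; simp [hJX.2.2.2]
  have c5 : DP * DX' = -(DX * DP) := by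
    simp only [DP, DX', DX, ← map_mul, ← map_neg, fromBlocks_multiply, fromBlocks_neg]
    simp [hPX, hab]
  let uX' : GL (Fin (5 + (k + k))) F := GeneralLinearGroup.mkOfDetNeZero DX' (fun e => by
    have := congrArg Matrix.det c5
    rw [det_mul, det_neg, det_mul, e, mul_zero, hdDX, hdDP, Fintype.card_fin] at this
    simp at this)
  have hsw : sw hQ fs * lev hQ uX = lev hQ uX' * sw hQ fs := by
    refine mat_inj ?_
    simp only [mat_mul]
    show fromBlocks (1 - N) N N (1 - N) * Plus.levMat uX = Plus.levMat uX' * fromBlocks (1 - N) N N (1 - N)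
    have hv : ((uX : GL (Fin (5 + (k + k))) F) : Matrix (Fin (5 + (k + k))) (Fin (5 + (k + k))) F) = DX := rfl
    have hv' : ((uX' : GL (Fin (5 + (k + k))) F) : Matrix (Fin (5 + (k + k))) (Fin (5 + (k + k))) F) = DX' := rfl
    set IX := ((uX⁻¹ : GL (Fin (5 + (k + k))) F) : Matrix (Fin (5 + (k + k))) (Fin (5 + (k + k))) F)ᵀ with hIX
    set IX' := ((uX'⁻¹ : GL (Fin (5 + (k + k))) F) : Matrix (Fin (5 + (k + k))) (Fin (5 + (k + k))) F)ᵀ with hIX'
    have i1 : IX * DXᵀ = 1 ∧ DXᵀ * IX = 1 := by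
      rw [hIX, ← hv, ← transpose_mul, ← transpose_mul, ← Units.val_mul, ← Units.val_mul, mul_inv_cancel,
        inv_mul_cancel, Units.val_one, transpose_one]
      exact ⟨rfl, rfl⟩
    have i2 : IX' * DX'ᵀ = 1 ∧ DX'ᵀ * IX' = 1 := by
      rw [hIX', ← hv', ← transpose_mul, ← transpose_mul, ← Units.val_mul, ← Units.val_mul, mul_inv_cancel,
        inv_mul_cancel, Units.val_one, transpose_one]
      exact ⟨rfl, rfl⟩
    have hNT : Nᵀ = N := by rw [hN]; simp [ind]
    have c1T : DXᵀ * N = N * DXᵀ := by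
      have := congrArg Matrix.transpose c1
      rwa [transpose_mul, transpose_mul, hNT] at this
    have c2T : DX'ᵀ * N = N * DX'ᵀ := by
      have := congrArg Matrix.transpose c2
      rwa [transpose_mul, transpose_mul, hNT] at this
    have d1 : IX * N = N * IX := by
      calc IX * N = IX * N * (DXᵀ * IX) := by rw [i1.2, Matrix.mul_one]
        _ = IX * (DXᵀ * N) * IX := by rw [c1T]; simp only [Matrix.mul_assoc]
        _ = N * IX := by rw [← Matrix.mul_assoc IX, i1.1, Matrix.one_mul]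
    have d2 : IX' * N = N * IX' := by
      calc IX' * N = IX' * N * (DX'ᵀ * IX') := by rw [i2.2, Matrix.mul_one]
        _ = IX' * (DX'ᵀ * N) * IX' := by rw [c2T]; simp only [Matrix.mul_assoc]
        _ = N * IX' := by rw [← Matrix.mul_assoc IX', i2.1, Matrix.one_mul]
    have f2 : N * IX = DX' * N := by
      calc N * IX = IX * N := d1.symm
        _ = IX * (N * (DXᵀ * DX')) := by rw [c4]
        _ = IX * (DXᵀ * N * DX') := by rw [c1T, Matrix.mul_assoc]
        _ = N * DX' := by rw [← Matrix.mul_assoc IX, ← Matrix.mul_assoc IX, i1.1, Matrix.one_mul]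
        _ = DX' * N := c2
    have c4' : N * (DX'ᵀ * DX) = N := by
      have := congrArg Matrix.transpose c4
      rw [transpose_mul, transpose_mul, transpose_transpose, hNT, Matrix.mul_assoc, ← c1] at this
      rwa [← Matrix.mul_assoc, ← c2T, Matrix.mul_assoc]
    have f3 : N * DX = IX' * N := by
      calc N * DX = (IX' * DX'ᵀ) * (N * DX) := by rw [i2.1, Matrix.one_mul]
        _ = IX' * (DX'ᵀ * N * DX) := by simp only [Matrix.mul_assoc]
        _ = IX' * N := by rw [c2T, Matrix.mul_assoc, c4']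
    have f1 : (1 - N) * DX = DX' * (1 - N) := by
      rw [c3, Matrix.sub_mul, Matrix.mul_sub, c2, Matrix.one_mul, Matrix.mul_one]
    have f4 : (1 - N) * IX = IX' * (1 - N) := by
      have e : DX'ᵀ * (1 - N) = (1 - N) * DXᵀ := by
        have := congrArg Matrix.transpose f1
        rw [transpose_mul, transpose_mul, transpose_sub, transpose_one, hNT] at this
        rw [Matrix.sub_mul 1 N DXᵀ, Matrix.one_mul, ← c1T]
        rw [Matrix.mul_sub DXᵀ, Matrix.mul_one] at this
        rw [this, Matrix.mul_sub DX'ᵀ, Matrix.sub_mul, Matrix.mul_one, Matrix.one_mul, c2T]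
      calc (1 - N) * IX = (IX' * DX'ᵀ) * ((1 - N) * IX) := by rw [i2.1, Matrix.one_mul]
        _ = IX' * (DX'ᵀ * (1 - N) * IX) := by simp only [Matrix.mul_assoc]
        _ = IX' * (1 - N) := by rw [e, Matrix.mul_assoc (1 - N), i1.2, Matrix.mul_one]
    simp only [Plus.levMat, fromBlocks_multiply, hv, hv', Matrix.mul_zero, Matrix.zero_mul, add_zero, zero_add]
    rw [← hIX, ← hIX', f1, f2, f3, f4]
  let aG : Gam Q := ⟨lev hQ uX, lev_mem hQ hB hm _ fun _ => ⟨i, by
    rw [show ((uX : GL (Fin (5 + (k + k))) F) : Matrix (Fin (5 + (k + k))) (Fin (5 + (k + k))) F) = DX from rfl, hdDX, hi']⟩⟩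
  let bG : Gam Q := ⟨lev hQ uP * sw hQ fs, mul_mem (lev_mem hQ hB hm _ fun _ => ⟨1, by
    rw [show ((uP : GL (Fin (5 + (k + k))) F) : Matrix (Fin (5 + (k + k))) (Fin (5 + (k + k))) F) = DP from rfl, hdDP, one_mul]⟩) (sw_mem hQ hB hm hfs)⟩
  refine ⟨bG, aG, ?_⟩
  have hg' : (g : Grp Q) * (lev hQ uX * lev hQ uP) = lev hQ uP * lev hQ uX' := by
    refine mat_inj ?_
    rw [mat_mul, mat_mul, mat_mul, hg, Matrix.smul_mul, Matrix.one_mul]
    show (-1 : F) • (Plus.levMat uX * Plus.levMat uP) = Plus.levMat uP * Plus.levMat uX'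
    rw [← Plus.levMat_mul, ← Plus.levMat_mul]
    have e1 : ((uP * uX' : GL (Fin (5 + (k + k))) F) : Matrix (Fin (5 + (k + k))) (Fin (5 + (k + k))) F) = -((uX * uP : GL (Fin (5 + (k + k))) F) : Matrix (Fin (5 + (k + k))) (Fin (5 + (k + k))) F) := by
      simpa [uP, uX, uX', GeneralLinearGroup.mkOfDetNeZero] using c5
    simp only [Plus.levMat, fromBlocks_smul, smul_zero, neg_smul, one_smul]
    rw [e1, show (((uP * uX')⁻¹ : GL (Fin (5 + (k + k))) F) : Matrix (Fin (5 + (k + k))) (Fin (5 + (k + k))) F) = -(((uX * uP)⁻¹ : GL (Fin (5 + (k + k))) F) : Matrix (Fin (5 + (k + k))) (Fin (5 + (k + k))) F) from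
      Units.inv_eq_of_mul_eq_one_right (by rw [e1, neg_mul_neg, ← Units.val_mul, mul_inv_cancel, Units.val_one]),
      transpose_neg, fromBlocks_neg, neg_zero]
  refine Subtype.ext ?_
  simp only [Subgroup.coe_mul, Subgroup.coe_inv, aG, bG]
  calc (g : Grp Q) = (g : Grp Q) * (lev hQ uX * lev hQ uP) * (lev hQ uP)⁻¹ * (lev hQ uX)⁻¹ := by group
    _ = lev hQ uP * (lev hQ uX' * sw hQ fs) * (sw hQ fs)⁻¹ * (lev hQ uP)⁻¹ * (lev hQ uX)⁻¹ := by rw [hg']; group
    _ = _ := by rw [← hsw]; group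

/-- Everything is a commutator, given the factorisation of non-scalar matrices. -/
theorem isComm_omega
    (hfac : ∀ A : Matrix (Fin m) (Fin m) F, A.det = 1 → Nonscalar A → ∃ s z : GL (Fin m) F,
      A = (s : Matrix (Fin m) (Fin m) F) * z * (s⁻¹ : GL (Fin m) F) * (z⁻¹ : GL (Fin m) F) ∧
        IsSquare (s : Matrix (Fin m) (Fin m) F).det ∧ IsSquare (z : Matrix (Fin m) (Fin m) F).det ∧
        TwistFree (s : Matrix (Fin m) (Fin m) F))
    (g : Gam Q) : IsComm g := by
  by_cases hg : proj Q g = 1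
  · obtain ⟨c, hc | hc, hgc⟩ := scalar_of_proj hQ hB hm hg
    · exact ⟨1, 1, Subtype.ext (mat_inj (by rw [hgc, hc, one_smul]; simp [mat_one]))⟩
    · exact isComm_neg_one hQ hB hm g (hc ▸ hgc)
  obtain ⟨g', A, B, C, D, hconj, hb, hdet, hns⟩ := exists_normal_form hQ hB hm hg (one_ne_zero (α := F))
  rw [one_mul] at hdet
  have hA : A.det ≠ 0 := hdet ▸ one_ne_zero
  obtain ⟨hM, X, hX, hdec⟩ := decomp hQ hB hm hb hA
  obtain ⟨s, z, hAsz, hs, hz, htw⟩ := hfac A hdet hns
  exact IsComm.of_isConj hconj (isComm_factor hQ hB hm g' hA hM hX hdec hAsz hs hz htw)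

end CfsgLib.OreLevi.OrthPlus
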