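import Cfsg.Agent.Lib.SpComm.Basic
import Cfsg.Agent.Lib.OreLevi.OrthPlus

/-!
The parameters of the factorisation used in the orthogonal groups over fields with at least four elements.
-/

set_option autoImplicit false
set_option linter.unusedSectionVars false

namespace CfsgLib.OreLevi.OrthPlus

open Polynomial CfsgLib.SpComm

variable {F : Type*} [Field F]

theorem reverse_pow' (P : F[X]) (k : ℕ) : (P ^ k).reverse = P.reverse ^ k := by
  induction k with
  | zero => rw [pow_zero, pow_zero, show (1 : F[X]) = C 1 from C_1.symm, reverse_C]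
  | succ k ih => rw [pow_succ, reverse_mul_of_domain, ih, pow_succ]

theorem reverse_quad (τ δ : F) (hδ : δ ≠ 0) :
    (X ^ 2 - C τ * X + C δ : F[X]).reverse = C δ * X ^ 2 - C τ * X + 1 := by
  have hd : (X ^ 2 - C τ * X + C δ : F[X]).natDegree = 2 := by compute_degree!
  rw [Polynomial.reverse, hd]
  ext k
  rw [coeff_reflect]
  rcases k with _ | _ | _ | k
  · rw [revAt_le (by omega)]; simp [coeff_X, coeff_one, coeff_C, coeff_X_pow]
  · rw [revAt_le (by omega)]; simp [coeff_X, coeff_one, coeff_C, coeff_X_pow]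
  · rw [revAt_le (by omega)]; simp [coeff_X, coeff_one, coeff_C, coeff_X_pow]
  · rw [revAt_eq_self_of_lt (by omega)]; simp [coeff_X, coeff_one, coeff_C, coeff_X_pow]

/-- The parameters, with a square determinant. -/
theorem exists_param [Finite F] (hq : 4 ≤ Nat.card F) (n : ℕ) :
    ∃ l τ δ : F, l ≠ 0 ∧ τ ≠ 0 ∧ (∀ x : F, x ^ 2 - τ * x + δ ≠ 0) ∧ IsSquare (l ^ (n - 2) * δ) ∧
      Good ((X - C l) ^ (n - 2) * (X ^ 2 - C τ * X + C δ)) := by
  classical
  haveI := Fintype.ofFinite F
  rw [Nat.card_eq_fintype_card] at hq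
  obtain ⟨l, hl0, hl1⟩ : ∃ l : F, l ≠ 0 ∧ l * l ≠ 1 := by
    by_contra hc
    push Not at hc
    have hs : (Finset.univ : Finset F) ⊆ {0, 1, -1} := fun a _ => by
      by_cases h0 : a = 0
      · simp [h0]
      · rcases mul_self_eq_one_iff.1 (hc a h0) with h | h <;> simp [h]
    have := (Finset.card_le_card hs).trans Finset.card_le_three
    rw [Finset.card_univ] at this
    omega
  set u := l ^ (n - 2) with hu
  have hu0 : u ≠ 0 := pow_ne_zero _ hl0
  obtain ⟨c, hc0, hc1⟩ : ∃ c : F, c ≠ 0 ∧ u * (c * c) ≠ 1 := by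
    by_cases h1 : u = 1
    · exact ⟨l, hl0, by rwa [h1, one_mul]⟩
    · exact ⟨1, one_ne_zero, by rwa [mul_one, mul_one]⟩
  set δ := u * (c * c) with hδ
  have hδ0 : δ ≠ 0 := mul_ne_zero hu0 (mul_ne_zero hc0 hc0)
  obtain ⟨τ, hτ0, hτ⟩ : ∃ τ : F, τ ≠ 0 ∧ ∀ x : F, x ^ 2 - τ * x + δ ≠ 0 := by
    -- the values `x + δ / x` miss a nonzero `τ`
    by_contra hcon
    push Not at hcon
    let f : {x : F // x ≠ 0} → F := fun x => x.1 + δ / x.1
    have hsur : ∀ τ : F, τ ≠ 0 → ∃ x, f x = τ := fun τ hτ => by
      obtain ⟨x, hx⟩ := hcon τ hτ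
      have hx0 : x ≠ 0 := fun e => hδ0 (by simpa [e] using hx)
      refine ⟨⟨x, hx0⟩, ?_⟩
      show x + δ / x = τ
      field_simp
      linear_combination hx
    have hsym : ∀ x : {x : F // x ≠ 0}, f ⟨δ / x.1, div_ne_zero hδ0 x.2⟩ = f x := fun x => by
      show δ / x.1 + δ / (δ / x.1) = x.1 + δ / x.1
      have := x.2
      field_simp
      ring
    let img := (Finset.univ : Finset {x : F // x ≠ 0}).image f
    have h1 : (Finset.univ.erase (0 : F)) ⊆ img := fun τ hτ => by
      obtain ⟨x, hx⟩ := hsur τ (Finset.ne_of_mem_erase hτ)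
      exact Finset.mem_image.2 ⟨x, Finset.mem_univ _, hx⟩
    have hcard : Fintype.card {x : F // x ≠ 0} = Fintype.card F - 1 := by
      rw [Fintype.card_subtype_compl]; simp
    have h2 := Finset.card_le_card h1
    rw [Finset.card_erase_of_mem (Finset.mem_univ _), Finset.card_univ, ← hcard] at h2
    have himg : img.card = (Finset.univ : Finset {x : F // x ≠ 0}).card :=
      le_antisymm Finset.card_image_le (by rwa [Finset.card_univ])
    have hinj : Function.Injective f := fun x y e =>
      Finset.card_image_iff.1 himg (Finset.mem_univ x) (Finset.mem_univ y) e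
    have hsq : ∀ x : F, x ≠ 0 → x * x = δ := fun x hx => by
      have := congrArg Subtype.val (hinj (hsym ⟨x, hx⟩))
      field_simp at this
      rw [← sq]; exact this.symm
    have hl : l * l = δ := hsq l hl0
    have h1' : (1 : F) * 1 = δ := hsq 1 one_ne_zero
    rw [one_mul] at h1'
    exact hl1 (hl.trans h1'.symm)
  refine ⟨l, τ, δ, hl0, hτ0, hτ, ⟨u * c, by rw [hδ]; ring⟩, ?_⟩
  set P : F[X] := X - C l
  set q : F[X] := X ^ 2 - C τ * X + C δ with hq'
  have hPr : P.reverse = 1 - C l * X := by
    rw [Polynomial.reverse, natDegree_X_sub_C]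
    ext k
    rw [coeff_reflect]
    rcases k with _ | _ | k
    · rw [revAt_le (by omega)]; simp [P, coeff_X, coeff_C, coeff_one]
    · rw [revAt_le (by omega)]; simp [P, coeff_X, coeff_C, coeff_one]
    · rw [revAt_eq_self_of_lt (by omega)]; simp [P, coeff_X, coeff_C, coeff_one]
  have hqd : q.natDegree = 2 := by rw [hq']; compute_degree!
  have hqm : q.Monic := by rw [hq']; monicity!
  have hqi : Irreducible q := by
    rw [hqm.irreducible_iff_roots_eq_zero_of_degree_le_three (by omega) (by omega)]
    refine Multiset.eq_zero_of_forall_notMem fun x hx => ?_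
    have := (mem_roots hqm.ne_zero).1 hx
    simp [hq', IsRoot.def] at this
    exact hτ x this
  have hu1 : IsUnit (C (1 - l * l) : F[X]) := isUnit_C.2 (isUnit_iff_ne_zero.2 (sub_ne_zero.2 (Ne.symm hl1)))
  have gP : IsCoprime P P.reverse := by
    obtain ⟨w, hw⟩ := hu1
    refine ⟨(↑w⁻¹ : F[X]) * C l, (↑w⁻¹ : F[X]), ?_⟩
    rw [mul_assoc, ← mul_add, show C l * P + P.reverse = (w : F[X]) by rw [hw, hPr]; simp [P]; ring,
      Units.inv_mul]
  have gq : IsCoprime q q.reverse := (hqi.coprime_iff_not_dvd).2 fun hd => by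
    rw [reverse_quad τ δ hδ0] at hd
    have h' : q ∣ C (τ * δ - τ) * X + C (1 - δ * δ) := by
      have := dvd_sub hd (dvd_mul_left q (C δ))
      convert this using 1
      simp [hq']; ring
    have hz : (C (τ * δ - τ) * X + C (1 - δ * δ) : F[X]) = 0 := by
      by_contra hne
      have := natDegree_le_of_dvd h' hne
      have hle : (C (τ * δ - τ) * X + C (1 - δ * δ) : F[X]).natDegree ≤ 1 := by compute_degree
      omega
    have := congrArg (fun p => p.coeff 1) hz
    simp [coeff_one] at this
    exact hc1 (mul_left_cancel₀ hτ0 ((sub_eq_zero.1 this).trans (mul_one τ).symm))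
  have gPq : IsCoprime P q.reverse := (irreducible_X_sub_C l).coprime_iff_not_dvd.2 fun hd => by
    rw [dvd_iff_isRoot, reverse_quad τ δ hδ0] at hd
    simp [IsRoot.def] at hd
    refine hτ l⁻¹ ?_
    field_simp
    linear_combination hd
  have gqP : IsCoprime q P.reverse := hqi.coprime_iff_not_dvd.2 fun hd => by
    have hne : P.reverse ≠ 0 := fun e => by
      have := congrArg (fun p => p.coeff 0) (hPr ▸ e)
      simp at this
    have := natDegree_le_of_dvd hd hne
    have h' := reverse_natDegree_le P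
    rw [natDegree_X_sub_C] at h'
    omega
  unfold Good
  rw [reverse_mul_of_domain, reverse_pow']
  exact IsCoprime.mul_left (IsCoprime.mul_right gP.pow gPq.pow_left) (IsCoprime.mul_right gqP.pow_right gq)

/-- A polynomial with no two roots of product one gives the twisting condition. -/
theorem twistFree_of_good [Finite F] {n : ℕ} {P : F[X]} (hP : Good P) {s : GL (Fin n) F}
    (hs : aeval (s : Matrix (Fin n) (Fin n) F) P = 0) : TwistFree (s : Matrix (Fin n) (Fin n) F) := by
  rintro X - (h | h)
  · exact fix_of_good hP hs h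
  · let N : GL (Fin n) F := ⟨(s : Matrix (Fin n) (Fin n) F).transpose, ((s⁻¹ : GL (Fin n) F) : Matrix (Fin n) (Fin n) F).transpose,
      by rw [← Matrix.transpose_mul, ← Units.val_mul, inv_mul_cancel, Units.val_one, Matrix.transpose_one],
      by rw [← Matrix.transpose_mul, ← Units.val_mul, mul_inv_cancel, Units.val_one, Matrix.transpose_one]⟩
    refine fix_of_good hP (M := N) ?_ ?_
    · show aeval (s : Matrix (Fin n) (Fin n) F).transpose P = 0
      rw [aeval_transpose, hs, Matrix.transpose_zero]
    · show (s : Matrix (Fin n) (Fin n) F).transpose.transpose * X * (s : Matrix (Fin n) (Fin n) F).transpose = X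
      rw [Matrix.transpose_transpose]; exact h

end CfsgLib.OreLevi.OrthPlus
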