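import Cfsg.Agent.Lib.OreLevi.OrthPlus

/-!
The statement for `Cfsg.quadFormPlus` from the factorisation of non-scalar matrices.
-/

set_option autoImplicit false

namespace CfsgLib.OreLevi.OrthPlus

open Matrix CfsgLib.ClassSquare CfsgLib.Orth

variable {F : Type*} [Field F] [Fintype F]

theorem isComm_omega_plus {n : ℕ} (hn : 4 ≤ n)
    (hfac : ∀ A : Matrix (Fin n) (Fin n) F, A.det = 1 → Nonscalar A → ∃ s z : GL (Fin n) F,
      A = (s : Matrix (Fin n) (Fin n) F) * z * (s⁻¹ : GL (Fin n) F) * (z⁻¹ : GL (Fin n) F) ∧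
        IsSquare (s : Matrix (Fin n) (Fin n) F).det ∧ IsSquare (z : Matrix (Fin n) (Fin n) F).det ∧
        TwistFree (s : Matrix (Fin n) (Fin n) F))
    (g : Cfsg.Omega F (Cfsg.quadFormPlus n F)) :
    ∃ a b : Cfsg.Omega F (Cfsg.quadFormPlus n F), g = a * b * a⁻¹ * b⁻¹ := by
  classical
  obtain ⟨Q, hQ, hB⟩ := exists_quadForm_plus (F := F) n
  have key : ∀ g : ↥(Cfsg.Omega F ⇑Q), ∃ a b, g = a * b * a⁻¹ * b⁻¹ := fun g => isComm_omega hQ hB hn hfac g
  revert g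
  rw [← hQ]
  exact key

end CfsgLib.OreLevi.OrthPlus
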